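import Mathlib

/-!
Facts about permutations of seven points used for the action on the seven regular orbits.
-/

set_option autoImplicit false

namespace Cfsg.Agent.Lib.M23Nse5

open Equiv Equiv.Perm Finset

/-- Even permutations fixing a point move equal sized subsets onto one another. -/
theorem seven_exists_even (i : Fin 7) (s t : Finset (Fin 7)) (hcard : s.card = t.card)
    (hi : i ∈ s ↔ i ∈ t) :
    ∃ σ ∈ alternatingGroup (Fin 7), σ i = i ∧ s.image σ = t := by
  classical
  have e : {x // x ∈ s} ≃ {x // x ∈ t} := Fintype.equivOfCardEq (by simpa using hcard)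
  set σ₀ : Perm (Fin 7) := e.extendSubtype with hσ₀
  have hmem : ∀ x, σ₀ x ∈ t ↔ x ∈ s := fun x => by
    refine ⟨fun h => ?_, fun h => e.extendSubtype_mem x h⟩
    by_contra hx
    exact e.extendSubtype_not_mem x hx h
  -- now also fix `i`
  set σ₁ : Perm (Fin 7) := swap (σ₀ i) i * σ₀ with hσ₁
  have h1i : σ₁ i = i := by simp [hσ₁]
  have h1mem : ∀ x, σ₁ x ∈ t ↔ x ∈ s := by
    intro x
    rw [hσ₁, Perm.mul_apply]
    by_cases ha : σ₀ x = σ₀ i
    · have : x = i := σ₀.injective ha
      subst this
      simpa using hi.symm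
    · by_cases hb : σ₀ x = i
      · rw [hb, swap_apply_right, hmem i, ← hmem x, hb]
        exact hi
      · rw [swap_apply_of_ne_of_ne ha hb]
        exact hmem x
  -- two further points on the same side of `s`
  obtain ⟨a, b, hab, hf⟩ := Fintype.exists_ne_map_eq_of_card_lt
    (fun x : {x : Fin 7 // x ≠ i} => decide (x.1 ∈ s)) (by simp [Fintype.card_subtype_compl])
  have hab' : a.1 ≠ b.1 := fun h => hab (Subtype.ext h)
  simp only [decide_eq_decide] at hf
  have himg : ∀ σ : Perm (Fin 7), (∀ x, σ x ∈ t ↔ x ∈ s) → s.image σ = t := by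
    intro σ h
    ext y
    simp only [mem_image]
    refine ⟨fun ⟨x, hx, he⟩ => he ▸ (h x).2 hx, fun hy => ⟨σ⁻¹ y, ?_, by simp⟩⟩
    rw [← h]
    simpa using hy
  rcases Int.units_eq_one_or (sign σ₁) with hs | hs
  · exact ⟨σ₁, mem_alternatingGroup.2 hs, h1i, himg σ₁ h1mem⟩
  · refine ⟨σ₁ * swap a.1 b.1, mem_alternatingGroup.2 ?_, ?_, himg _ fun x => ?_⟩
    · rw [map_mul, hs, sign_swap hab']
      decide
    · rw [Perm.mul_apply, swap_apply_of_ne_of_ne a.2.symm b.2.symm]
      exact h1i
    · rw [Perm.mul_apply, h1mem]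
      by_cases hxa : x = a.1
      · subst hxa
        rw [swap_apply_left]
        exact hf.symm
      · by_cases hxb : x = b.1
        · subst hxb
          rw [swap_apply_right]
          exact hf
        · rw [swap_apply_of_ne_of_ne hxa hxb]

/-- Even permutations fixing a point are transitive on the other points. -/
theorem seven_exists_even_point (i k l : Fin 7) (hk : k ≠ i) (hl : l ≠ i) :
    ∃ σ ∈ alternatingGroup (Fin 7), σ i = i ∧ σ k = l := by
  obtain ⟨σ, hσ, h1, h2⟩ := seven_exists_even i {k} {l} (by simp)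
    (by simp [Ne.symm hk, Ne.symm hl])
  exact ⟨σ, hσ, h1, by simpa using h2⟩

theorem card_triples : ((univ : Finset (Fin 7)).powersetCard 3).card = 35 := by decide

theorem card_triples_mem : ∀ i : Fin 7,
    (((univ : Finset (Fin 7)).powersetCard 3).filter (fun s => i ∈ s)).card = 15 := by decide

theorem card_triples_not_mem : ∀ i : Fin 7,
    (((univ : Finset (Fin 7)).powersetCard 3).filter (fun s => i ∉ s)).card = 20 := by decide

/-- The restriction of the members of a group of permutations to an invariant set. -/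
def restrictHom {α : Type*} (J : Subgroup (Perm α)) (p : α → Prop)
    (h : ∀ σ ∈ J, ∀ x, p (σ x) ↔ p x) : J →* Perm {x // p x} where
  toFun σ := (σ : Perm α).subtypePerm (h _ σ.2)
  map_one' := by ext x; rfl
  map_mul' a b := by ext x; rfl

theorem restrictHom_eq_one {α : Type*} {J : Subgroup (Perm α)} {p : α → Prop}
    {h : ∀ σ ∈ J, ∀ x, p (σ x) ↔ p x} {σ : J} (hσ : restrictHom J p h σ = 1) :
    ∀ x, p x → (σ : Perm α) x = x := fun x hx =>
  congrArg Subtype.val (congrArg (fun f : Perm {x // p x} => f ⟨x, hx⟩) hσ)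

theorem card_perm_subtype {α : Type*} [Fintype α] (s : Finset α) :
    Nat.card (Perm {x // x ∈ s}) = s.card.factorial := by
  classical
  rw [Nat.card_perm, Nat.card_eq_fintype_card, Fintype.card_coe]

/-- A permutation group that respects two complementary parts divides accordingly. -/
theorem card_dvd_of_parts (J : Subgroup (Perm (Fin 7))) (s t : Finset (Fin 7))
    (hs : ∀ σ ∈ J, ∀ x, σ x ∈ s ↔ x ∈ s) (ht : ∀ σ ∈ J, ∀ x, σ x ∈ t ↔ x ∈ t)
    (hfix : ∀ σ ∈ J, ∀ x, x ∉ s → x ∉ t → σ x = x) :
    Nat.card J ∣ s.card.factorial * t.card.factorial := by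
  have hinj : Function.Injective ((restrictHom J (· ∈ s) hs).prod (restrictHom J (· ∈ t) ht)) := by
    rw [injective_iff_map_eq_one]
    intro σ h
    rw [MonoidHom.prod_apply, Prod.mk_eq_one] at h
    refine Subtype.ext (Equiv.ext fun x => ?_)
    by_cases hx : x ∈ s
    · exact restrictHom_eq_one h.1 x hx
    by_cases hy : x ∈ t
    · exact restrictHom_eq_one h.2 x hy
    exact hfix σ σ.2 x hx hy
  have := Subgroup.card_dvd_of_injective _ hinj
  rwa [Nat.card_prod, card_perm_subtype, card_perm_subtype] at this

/-- No subgroup of index five in the alternating group on six letters. -/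
theorem six_no_index_five {α : Type*} [Fintype α] [DecidableEq α] (hα : Nat.card α = 6)
    (H : Subgroup (alternatingGroup α)) (hH : Nat.card H = 72) : False := by
  have := alternatingGroup.isSimpleGroup (α := α) (by omega)
  have : Nontrivial α := by
    rw [← Finite.one_lt_card_iff_nontrivial]
    omega
  have hc : Nat.card (alternatingGroup α) = 360 := by
    rw [nat_card_alternatingGroup, hα]
    rfl
  have hidx : H.index = 5 := by
    have := H.index_mul_card
    rw [hc, hH] at this
    omega
  have hker : (MulAction.toPermHom (alternatingGroup α) (alternatingGroup α ⧸ H)).ker = ⊥ := by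
    refine (Subgroup.Normal.eq_bot_or_eq_top (MonoidHom.normal_ker _)).resolve_right fun htop => ?_
    have : ∀ g : alternatingGroup α, g ∈ H := by
      intro g
      have h1 : g ∈ (MulAction.toPermHom (alternatingGroup α) (alternatingGroup α ⧸ H)).ker := by
        rw [htop]; trivial
      have h2 := congrArg (fun f : Perm (alternatingGroup α ⧸ H) => f ((1 : alternatingGroup α) : _))
        (MonoidHom.mem_ker.1 h1)
      simpa [MulAction.Quotient.smul_mk, QuotientGroup.eq] using h2
    have hH' : H = ⊤ := eq_top_iff.2 fun g _ => this g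
    rw [hH', Subgroup.index_top] at hidx
    omega
  have hinj := (MonoidHom.ker_eq_bot_iff _).1 hker
  have := Subgroup.card_dvd_of_injective _ hinj
  rw [Nat.card_perm, hc, ← Subgroup.index_eq_card, hidx] at this
  revert this
  decide

variable (J : Subgroup (Perm (Fin 7)))

open scoped Classical in
/-- The orbit of a point, as a finset. -/
noncomputable def jorb (k : Fin 7) : Finset (Fin 7) :=
  univ.filter (fun l => ∃ σ ∈ J, σ k = l)

variable {J}

theorem mem_jorb {k l : Fin 7} : l ∈ jorb J k ↔ ∃ σ ∈ J, σ k = l := by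
  simp [jorb]

theorem self_mem_jorb (k : Fin 7) : k ∈ jorb J k := mem_jorb.2 ⟨1, J.one_mem, rfl⟩

theorem jorb_eq {k l : Fin 7} (h : l ∈ jorb J k) : jorb J l = jorb J k := by
  obtain ⟨σ, hσ, rfl⟩ := mem_jorb.1 h
  ext m
  simp only [mem_jorb]
  constructor
  · rintro ⟨τ, hτ, rfl⟩
    exact ⟨τ * σ, J.mul_mem hτ hσ, rfl⟩
  · rintro ⟨τ, hτ, rfl⟩
    exact ⟨τ * σ⁻¹, J.mul_mem hτ (J.inv_mem hσ), by simp⟩

theorem jorb_disjoint {k l : Fin 7} (h : l ∉ jorb J k) : Disjoint (jorb J k) (jorb J l) := by
  rw [Finset.disjoint_left]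
  intro m hk hl
  exact h (by rw [← jorb_eq hk, jorb_eq hl]; exact self_mem_jorb l)

theorem jorb_apply_mem {k : Fin 7} {σ : Perm (Fin 7)} (hσ : σ ∈ J) (x : Fin 7) :
    σ x ∈ jorb J k ↔ x ∈ jorb J k := by
  simp only [mem_jorb]
  constructor
  · rintro ⟨τ, hτ, h⟩
    exact ⟨σ⁻¹ * τ, J.mul_mem (J.inv_mem hσ) hτ, by simp [Perm.mul_apply, h]⟩
  · rintro ⟨τ, hτ, rfl⟩
    exact ⟨σ * τ, J.mul_mem hσ hτ, rfl⟩

theorem card_jorb_dvd (k : Fin 7) : (jorb J k).card ∣ Nat.card J := by
  have h : ((jorb J k : Finset (Fin 7)) : Set (Fin 7)) = MulAction.orbit J k := by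
    ext l
    simp only [Finset.mem_coe, mem_jorb, MulAction.mem_orbit_iff, Subtype.exists,
      Subgroup.mk_smul, Perm.smul_def, exists_prop]
  rw [← Set.ncard_coe_finset, h, ← MulAction.index_stabilizer]
  exact Subgroup.index_dvd_card _

/-- An orbit of a group of order 72 of even permutations of seven points has three or four
points. -/
theorem card_jorb_seventy_two (hJ : J ≤ alternatingGroup (Fin 7)) (hc : Nat.card J = 72)
    (k : Fin 7) : (jorb J k).card = 3 ∨ (jorb J k).card = 4 := by
  classical
  have nofix : ∀ m : Fin 7, ¬ ∀ σ ∈ J, σ m = m := by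
    intro m hm
    have hp : ∀ σ ∈ J, ∀ x : Fin 7, σ x ≠ m ↔ x ≠ m := by
      intro σ hσ x
      constructor
      · intro h hx
        exact h (by rw [hx]; exact hm σ hσ)
      · intro h hx
        exact h (σ.injective (hx.trans (hm σ hσ).symm))
    have halt : ∀ σ : J, restrictHom J (fun x => x ≠ m) hp σ ∈
        alternatingGroup {x : Fin 7 // x ≠ m} := by
      intro σ
      rw [mem_alternatingGroup]
      refine (sign_subtypePerm (σ : Perm (Fin 7)) (p := fun x => x ≠ m) (hp σ σ.2) fun x hx => ?_).trans
        (mem_alternatingGroup.1 (hJ σ.2))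
      intro hxm
      exact hx (by rw [hxm]; exact hm σ σ.2)
    set f : J →* alternatingGroup {x : Fin 7 // x ≠ m} :=
      (restrictHom J (fun x => x ≠ m) hp).codRestrict _ halt
    have hinj : Function.Injective f := by
      rw [injective_iff_map_eq_one]
      intro σ h
      refine Subtype.ext (Equiv.ext fun x => ?_)
      by_cases hx : x = m
      · rw [hx]; exact hm σ σ.2
      · exact restrictHom_eq_one (congrArg Subtype.val h) x hx
    refine six_no_index_five (α := {x : Fin 7 // x ≠ m}) ?_ f.range ?_
    · rw [Nat.card_eq_fintype_card]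
      simp [Fintype.card_subtype_compl]
    · rw [← hc]
      exact (Nat.card_congr (MonoidHom.ofInjective hinj).toEquiv).symm
  have hdvd := card_jorb_dvd (J := J) k
  rw [hc] at hdvd
  have hle : (jorb J k).card ≤ 7 := by simpa using (jorb J k).card_le_univ
  have hpos : 0 < (jorb J k).card := card_pos.2 ⟨k, self_mem_jorb k⟩
  have h1 : (jorb J k).card ≠ 1 := by
    intro h
    obtain ⟨m, hm⟩ := Finset.card_eq_one.1 h
    refine nofix m fun σ hσ => ?_
    have hk : m ∈ jorb J k := by rw [hm]; exact mem_singleton_self m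
    have := (jorb_apply_mem (k := k) hσ m).2 hk
    rwa [hm, mem_singleton] at this
  have hparts := card_dvd_of_parts J (jorb J k) (jorb J k)ᶜ
    (fun σ hσ => jorb_apply_mem hσ)
    (fun σ hσ x => by simp only [mem_compl, jorb_apply_mem hσ])
    (fun σ _ x hx hy => absurd (mem_compl.2 hx) hy)
  rw [hc, card_compl, Fintype.card_fin] at hparts
  have h2 : (jorb J k).card ≠ 2 := by
    intro h
    rw [h] at hparts
    revert hparts
    decide
  have h6 : (jorb J k).card ≠ 6 := by
    intro h
    obtain ⟨m, hm⟩ := Finset.card_eq_one.1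
      (show (jorb J k)ᶜ.card = 1 by rw [card_compl, Fintype.card_fin, h])
    refine nofix m fun σ hσ => ?_
    have hk : m ∉ jorb J k := by
      rw [← mem_compl, hm]; exact mem_singleton_self m
    have := mt (jorb_apply_mem (k := k) hσ m).1 hk
    rwa [← mem_compl, hm, mem_singleton] at this
  generalize (jorb J k).card = c at hdvd hle hpos h1 h2 h6
  revert hdvd h1 h2 h6 hpos
  interval_cases c <;> decide

/-- The points in the orbit of size three. -/
theorem card_filter_jorb_three (hJ : J ≤ alternatingGroup (Fin 7)) (hc : Nat.card J = 72) :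
    ((univ : Finset (Fin 7)).filter (fun k => (jorb J k).card = 3)).card = 3 := by
  classical
  have key : ∀ k, (jorb J k).card = 3 →
      (univ : Finset (Fin 7)).filter (fun l => (jorb J l).card = 3) = jorb J k := by
    intro k hk
    ext l
    simp only [mem_filter, mem_univ, true_and]
    refine ⟨fun hl => ?_, fun hl => by rw [jorb_eq hl]; exact hk⟩
    by_contra hlk
    have hd := jorb_disjoint hlk
    -- a third orbit would have a single point
    obtain ⟨m, hm⟩ : ((jorb J k ∪ jorb J l)ᶜ).Nonempty := by
      rw [← card_pos, card_compl, card_union_of_disjoint hd, Fintype.card_fin]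
      omega
    simp only [mem_compl, mem_union, not_or] at hm
    have hd2 : Disjoint (jorb J k ∪ jorb J l) (jorb J m) :=
      disjoint_union_left.2 ⟨jorb_disjoint hm.1, jorb_disjoint hm.2⟩
    have := (jorb J k ∪ jorb J l ∪ jorb J m).card_le_univ
    rw [card_union_of_disjoint hd2, card_union_of_disjoint hd, Fintype.card_fin] at this
    rcases card_jorb_seventy_two hJ hc m with h | h <;> omega
  rcases card_jorb_seventy_two hJ hc 0 with h | h
  · rw [key 0 h, h]
  · obtain ⟨m, hm⟩ : ((jorb J 0)ᶜ).Nonempty := by
      rw [← card_pos, card_compl, Fintype.card_fin]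
      omega
    rw [mem_compl] at hm
    rcases card_jorb_seventy_two hJ hc m with h' | h'
    · rw [key m h', h']
    · have := (jorb J 0 ∪ jorb J m).card_le_univ
      rw [card_union_of_disjoint (jorb_disjoint hm), Fintype.card_fin] at this
      omega

/-- A group of permutations of degree seven whose order divides 2688, transitive, has no
three-cycle. -/
theorem no_three_cycle (I : Subgroup (Perm (Fin 7))) (hI : Nat.card I ∣ 2688)
    (htr : ∀ k l : Fin 7, ∃ σ ∈ I, σ k = l) {g : Perm (Fin 7)} (h3 : g.IsThreeCycle)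
    (hg : g ∈ I) : False := by
  have : MulAction.IsPretransitive I (Fin 7) := ⟨fun k l => by
    obtain ⟨σ, hσ, h⟩ := htr k l
    exact ⟨⟨σ, hσ⟩, h⟩⟩
  have hp : MulAction.IsPreprimitive I (Fin 7) :=
    MulAction.IsPreprimitive.of_prime_card (by rw [Nat.card_eq_fintype_card, Fintype.card_fin];
                                               norm_num)
  have h := Subgroup.card_dvd_of_le
    (Equiv.Perm.alternatingGroup_le_of_isPreprimitive_of_isThreeCycle_mem hp h3 hg)
  have : Nontrivial (Fin 7) := inferInstance
  rw [nat_card_alternatingGroup, Nat.card_eq_fintype_card (α := Fin 7), Fintype.card_fin] at h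
  have h' := h.trans hI
  revert h'
  decide

/-- A permutation of order three has three or six moved points, in seven. -/
theorem support_order_three {g : Perm (Fin 7)} (h1 : g ≠ 1) (h3 : g ^ 3 = 1) :
    g.IsThreeCycle ∨ g.support.card = 6 := by
  have ho : orderOf g = 3 := by
    have := Fact.mk Nat.prime_three
    exact orderOf_eq_prime h3 h1
  obtain ⟨n, hn⟩ := cycleType_prime_order (σ := g) (by rw [ho]; exact Nat.prime_three)
  have hs := g.sum_cycleType
  rw [hn, Multiset.sum_replicate, ho, smul_eq_mul] at hs
  have hle : g.support.card ≤ 7 := by simpa using g.support.card_le_univ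
  have : n + 1 = 1 ∨ n + 1 = 2 := by omega
  rcases this with h | h <;> rw [h] at hs
  · exact Or.inl (card_support_eq_three_iff.1 (by omega))
  · exact Or.inr (by omega)

/-- A group of even order 24 fixing `j`, containing an element moving all six others in
three-cycles, is transitive on the six. -/
theorem six_transitive (j : Fin 7) (hj : ∀ σ ∈ J, σ j = j) (hc : Nat.card J = 24)
    {g : Perm (Fin 7)} (hg : g ∈ J) (h1 : g ≠ 1) (h3 : g ^ 3 = 1) (h6 : g.support.card = 6)
    (k l : Fin 7) (hk : k ≠ j) (hl : l ≠ j) : ∃ σ ∈ J, σ k = l := by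
  classical
  have hsupp : ∀ p, p ≠ j → g p ≠ p := by
    have hjs : j ∉ g.support := by simp [hj g hg]
    have : g.support = univ.erase j :=
      eq_of_subset_of_card_le (fun p hp => mem_erase.2 ⟨fun h => hjs (h ▸ hp), mem_univ p⟩)
        (by rw [card_erase_of_mem (mem_univ j), h6]; simp)
    intro p hp
    rw [← mem_support, this]
    exact mem_erase.2 ⟨hp, mem_univ p⟩
  have big : ∀ p, p ≠ j → 3 ≤ (jorb J p).card := by
    intro p hp
    have hsub : ({p, g p, g (g p)} : Finset (Fin 7)) ⊆ jorb J p := by
      intro x hx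
      simp only [mem_insert, mem_singleton] at hx
      rcases hx with rfl | rfl | rfl
      · exact self_mem_jorb _
      · exact mem_jorb.2 ⟨g, hg, rfl⟩
      · exact mem_jorb.2 ⟨g * g, J.mul_mem hg hg, rfl⟩
    have e1 : g p ≠ p := hsupp p hp
    have e3 : g (g (g p)) = p := by
      have := congrArg (fun f : Perm (Fin 7) => f p) h3
      simpa [pow_succ, Perm.mul_apply] using this
    have e2 : g (g p) ≠ p := fun h => e1 (by rw [h] at e3; exact e3)
    have e4 : g (g p) ≠ g p := fun h => e1 (g.injective h)
    refine le_trans ?_ (card_le_card hsub)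
    rw [card_insert_of_notMem (by simp [e1.symm, e2.symm]),
      card_insert_of_notMem (by simp [e4.symm]), card_singleton]
  have hjnot : ∀ p, p ≠ j → j ∉ jorb J p := by
    intro p hp h
    obtain ⟨σ, hσ, h⟩ := mem_jorb.1 h
    exact hp (σ.injective (h.trans (hj σ hσ).symm))
  by_contra hno
  have hlk : l ∉ jorb J k := fun h => hno (mem_jorb.1 h)
  have hd := jorb_disjoint hlk
  have hsub : jorb J k ∪ jorb J l ⊆ univ.erase j := fun x hx => mem_erase.2
    ⟨fun h => (mem_union.1 (h ▸ hx)).elim (hjnot k hk) (hjnot l hl), mem_univ x⟩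
  have hle := card_le_card hsub
  rw [card_union_of_disjoint hd, card_erase_of_mem (mem_univ j), card_univ, Fintype.card_fin] at hle
  have hek : (jorb J k).card = 3 := by have := big k hk; have := big l hl; omega
  have hel : (jorb J l).card = 3 := by have := big k hk; have := big l hl; omega
  have hall : jorb J k ∪ jorb J l = univ.erase j := eq_of_subset_of_card_le hsub (by
    rw [card_union_of_disjoint hd, hek, hel, card_erase_of_mem (mem_univ j)]; simp)
  have hparts := card_dvd_of_parts J (jorb J k) (jorb J l)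
    (fun σ hσ => jorb_apply_mem hσ) (fun σ hσ => jorb_apply_mem hσ)
    (fun σ hσ x hx hy => by
      have : x ∉ univ.erase j := by rw [← hall]; simp [hx, hy]
      have hxj : x = j := by simpa using this
      rw [hxj]; exact hj σ hσ)
  rw [hc, hek, hel] at hparts
  revert hparts
  decide

end Cfsg.Agent.Lib.M23Nse5
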