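import Mathlib

/-!
Interfaces for the recognition of the Mathieu group of degree 23 by order and element counts.
`Facts G` is what the counting hypothesis gives, `Local A` the local structure it forces,
`Octic A` the shape of the action of `N(A)` on the other conjugates of `A`, and
`Design G` the point-block geometry built from those conjugates.
-/

set_option autoImplicit false

namespace Cfsg.Agent.Lib.M23Nse5

universe u v

/-- What the order and the numbers of elements of each order give. -/
structure Facts (G : Type u) [Group G] : Prop where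
  card : Nat.card G = 10200960
  ord_mem : ∀ g : G, orderOf g ∈ ({1, 2, 3, 4, 5, 6, 7, 8, 11, 14, 15, 23} : Finset ℕ)
  c2 : Nat.card {g : G // orderOf g = 2} = 3795
  c3 : Nat.card {g : G // orderOf g = 3} = 56672
  c4 : Nat.card {g : G // orderOf g = 4} ∈ ({318780, 850080, 1275120} : Finset ℕ)
  c5 : Nat.card {g : G // orderOf g = 5} = 680064
  c6 : Nat.card {g : G // orderOf g = 6} ∈ ({318780, 850080, 1275120} : Finset ℕ)
  c7 : Nat.card {g : G // orderOf g = 7} = 1457280
  c4ne6 : Nat.card {g : G // orderOf g = 4} ≠ Nat.card {g : G // orderOf g = 6}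
  c15 : Nat.card {g : G // orderOf g = 15} = 1360128

/-- The normal subgroup of order sixteen of an involution centraliser. -/
structure Inv (G : Type u) [Group G] : Prop where
  conj : ∀ s t : G, orderOf s = 2 → orderOf t = 2 → ∃ g : G, g * s * g⁻¹ = t
  card_cent : ∀ t : G, orderOf t = 2 → Nat.card (Subgroup.centralizer ({t} : Set G)) = 2688
  exists_sixteen : ∀ t : G, orderOf t = 2 → ∃ A : Subgroup G, t ∈ A ∧ Nat.card A = 16 ∧
    (∀ a ∈ A, a * a = 1) ∧ Subgroup.centralizer (A : Set G) ≤ A ∧
    Subgroup.centralizer ({t} : Set G) ≤ Subgroup.normalizer (A : Set G) ∧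
    ∀ B : Subgroup G, Nat.card B = 16 → B ≤ Subgroup.centralizer ({t} : Set G) →
      Subgroup.centralizer ({t} : Set G) ≤ Subgroup.normalizer (B : Set G) → B = A

/-- A subgroup of order sixteen with the properties of the heptad subgroups. -/
structure Local {G : Type u} [Group G] (A : Subgroup G) : Prop where
  card : Nat.card A = 16
  sq : ∀ a ∈ A, a * a = 1
  cent : Subgroup.centralizer (A : Set G) ≤ A
  card_norm : Nat.card (Subgroup.normalizer (A : Set G)) = 40320
  cent_le : ∀ a ∈ A, a ≠ 1 → Subgroup.centralizer ({a} : Set G) ≤ Subgroup.normalizer (A : Set G)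
  card_cent : ∀ a ∈ A, a ≠ 1 → Nat.card (Subgroup.centralizer ({a} : Set G)) = 2688
  trans : ∀ a ∈ A, ∀ b ∈ A, a ≠ 1 → b ≠ 1 →
    ∃ n ∈ Subgroup.normalizer (A : Set G), n * a * n⁻¹ = b
  ti : ∀ g : G, ∀ a ∈ A, g * a * g⁻¹ ∈ A → a ≠ 1 → g ∈ Subgroup.normalizer (A : Set G)
  cover : ∀ x : G, orderOf x = 2 → ∃ g : G, g * x * g⁻¹ ∈ A

/-- The conjugate of `A` by `g`. -/
abbrev cj {G : Type u} [Group G] (g : G) (A : Subgroup G) : Subgroup G :=
  A.map (MulAut.conj g).toMonoidHom

/-- The conjugates of `A`. -/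
def Conjs {G : Type u} [Group G] (A : Subgroup G) : Set (Subgroup G) :=
  {B | ∃ g : G, B = cj g A}

/-- `B` lies in a regular orbit of `A`: no nontrivial element of `A` normalizes `B`. -/
def Free {G : Type u} [Group G] (A B : Subgroup G) : Prop :=
  ∀ a ∈ A, cj a B = B → a = 1

/-- The seven regular orbits of `A` on the other conjugates, as an equivariant labelling `idx`
(meaningful on free conjugates only) with the action `ρ` of the normalizer. -/
structure Seven {G : Type u} [Group G] (A : Subgroup G) where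
  idx : Subgroup G → Fin 7
  ρ : ↥(Subgroup.normalizer (A : Set G)) →* Equiv.Perm (Fin 7)
  range_eq : ρ.range = alternatingGroup (Fin 7)
  ker_iff : ∀ n : ↥(Subgroup.normalizer (A : Set G)), ρ n = 1 ↔ (n : G) ∈ A
  idx_surj : ∀ i : Fin 7, ∃ B ∈ Conjs A, Free A B ∧ idx B = i
  idx_eq : ∀ B ∈ Conjs A, ∀ B' ∈ Conjs A, Free A B → Free A B' →
    (idx B = idx B' ↔ ∃ a ∈ A, cj a B = B')
  idx_conj : ∀ (n : ↥(Subgroup.normalizer (A : Set G))), ∀ B ∈ Conjs A, Free A B →
    idx (cj (n : G) B) = ρ n (idx B)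

/-- The relations between the conjugates of `A`. -/
structure Orbits {G : Type u} [Group G] (A : Subgroup G) : Prop where
  card_conjs : Nat.card ↥(Conjs A) = 253
  free_symm : ∀ B ∈ Conjs A, B ≠ A → Free A B → Free B A
  comm_card : ∀ B ∈ Conjs A, B ≠ A → ¬ Free A B →
    Nat.card ↥(A ⊓ Subgroup.normalizer (B : Set G)) = 4
  card_free : Nat.card {B : Subgroup G // B ∈ Conjs A ∧ B ≠ A ∧ Free A B} = 112
  card_comm : Nat.card {B : Subgroup G // B ∈ Conjs A ∧ B ≠ A ∧ ¬ Free A B} = 140
  free_trans : ∀ B ∈ Conjs A, ∀ B' ∈ Conjs A, B ≠ A → B' ≠ A → Free A B → Free A B' →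
    ∃ n ∈ Subgroup.normalizer (A : Set G), cj n B = B'
  comm_trans : ∀ B ∈ Conjs A, ∀ B' ∈ Conjs A, B ≠ A → B' ≠ A → ¬ Free A B → ¬ Free A B' →
    ∃ n ∈ Subgroup.normalizer (A : Set G), cj n B = B'
  exists_seven : Nonempty (Seven A)

/-- The geometry: 253 blocks of size seven on 23 points, no four points in two blocks. -/
structure Design (G : Type u) [Group G] (X : Type v) [MulAction G X] (β : Type u) [MulAction G β]
    (blk : β → Finset X) : Prop where
  card_points : Nat.card X = 23
  card_blocks : Nat.card β = 253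
  card_blk : ∀ b : β, (blk b).card = 7
  four : ∀ (s : Finset X) (b b' : β), s.card = 4 → s ⊆ blk b → s ⊆ blk b' → b = b'
  equivariant : ∀ (g : G) (b : β) (x : X), g • x ∈ blk (g • b) ↔ x ∈ blk b
  faithful : ∀ g : G, (∀ b : β, g • b = b) → g = 1

end Cfsg.Agent.Lib.M23Nse5
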