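import Cfsg.Agent.Lib.M23Nse5.Facts
import Cfsg.Agent.Lib.M23Nse5.A7

/-!
The conjugates of a heptad subgroup: free and commuting pairs, the seven labels, the triples
attached to commuting pairs, and the stars.
-/

set_option autoImplicit false

namespace Cfsg.Agent.Lib.M23Nse5

universe u

open Pointwise

variable {G : Type u} [Group G]

theorem mem_cj_iff {g x : G} {A : Subgroup G} : x ∈ cj g A ↔ g⁻¹ * x * g ∈ A := by
  rw [Subgroup.mem_map]
  constructor
  · rintro ⟨a, ha, rfl⟩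
    simpa [mul_assoc] using ha
  · intro h
    exact ⟨g⁻¹ * x * g, h, by simp [mul_assoc]⟩

theorem cj_one_eq (A : Subgroup G) : cj (1 : G) A = A := by
  ext x; simp [mem_cj_iff]

theorem cj_mul_eq (g h : G) (A : Subgroup G) : cj (g * h) A = cj g (cj h A) := by
  ext x; simp only [mem_cj_iff]; simp [mul_assoc]

theorem cj_eq_self_iff {g : G} {A : Subgroup G} :
    cj g A = A ↔ g ∈ Subgroup.normalizer (A : Set G) := by
  constructor
  · intro h
    rw [Subgroup.mem_normalizer_iff]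
    intro x
    conv_rhs => rw [← h]
    rw [mem_cj_iff]
    simp [mul_assoc]
  · intro h
    ext x
    rw [mem_cj_iff, Subgroup.mem_normalizer_iff.1 h (g⁻¹ * x * g)]
    simp [mul_assoc]

theorem cj_mem_conjs {A0 B : Subgroup G} (g : G) (h : B ∈ Conjs A0) : cj g B ∈ Conjs A0 := by
  obtain ⟨k, rfl⟩ := h
  exact ⟨g * k, (cj_mul_eq g k A0).symm⟩

theorem conjs_eq {A0 B : Subgroup G} (h : B ∈ Conjs A0) : Conjs B = Conjs A0 := by
  obtain ⟨k, rfl⟩ := h
  ext C
  constructor
  · rintro ⟨g, rfl⟩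
    exact ⟨g * k, (cj_mul_eq g k A0).symm⟩
  · rintro ⟨g, rfl⟩
    exact ⟨g * k⁻¹, by rw [← cj_mul_eq, inv_mul_cancel_right]⟩

instance conjsAction (A0 : Subgroup G) : MulAction G ↥(Conjs A0) where
  smul g B := ⟨cj g B.1, cj_mem_conjs g B.2⟩
  one_smul B := Subtype.ext (cj_one_eq B.1)
  mul_smul g h B := Subtype.ext (cj_mul_eq g h B.1)

theorem coe_smul_conjs {A0 : Subgroup G} (g : G) (B : ↥(Conjs A0)) :
    ((g • B : ↥(Conjs A0)) : Subgroup G) = cj g B.1 := rfl

/-- The normalizer of a conjugate. -/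
abbrev nb {A0 : Subgroup G} (B : ↥(Conjs A0)) : Subgroup G :=
  Subgroup.normalizer ((B : Subgroup G) : Set G)

theorem mem_nb_iff {A0 : Subgroup G} {g : G} {B : ↥(Conjs A0)} : g ∈ nb B ↔ g • B = B := by
  rw [Subtype.ext_iff, coe_smul_conjs, cj_eq_self_iff]

theorem mem_nb_of_mem {A0 : Subgroup G} {g : G} {B : ↥(Conjs A0)} (h : g ∈ (B : Subgroup G)) :
    g ∈ nb B :=
  Subgroup.le_normalizer h

theorem smul_eq_self_of_mem {A0 : Subgroup G} {g : G} {B : ↥(Conjs A0)}
    (h : g ∈ (B : Subgroup G)) : g • B = B :=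
  mem_nb_iff.1 (mem_nb_of_mem h)

theorem conj_mem_smul {A0 : Subgroup G} {g a : G} {B : ↥(Conjs A0)} (h : a ∈ (B : Subgroup G)) :
    g * a * g⁻¹ ∈ ((g • B : ↥(Conjs A0)) : Subgroup G) := by
  rw [coe_smul_conjs, mem_cj_iff]
  simpa [mul_assoc] using h

theorem conj_mem_of_fix {A0 : Subgroup G} {g a : G} {B : ↥(Conjs A0)} (hg : g • B = B)
    (h : a ∈ (B : Subgroup G)) : g * a * g⁻¹ ∈ (B : Subgroup G) := by
  have := conj_mem_smul (g := g) h
  rwa [hg] at this

/-- `Free`, on conjugates. -/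
def Fr {A0 : Subgroup G} (B C : ↥(Conjs A0)) : Prop :=
  ∀ a ∈ (B : Subgroup G), a • C = C → a = 1

/-- Distinct and not free. -/
def Co {A0 : Subgroup G} (B C : ↥(Conjs A0)) : Prop := C ≠ B ∧ ¬ Fr B C

theorem fr_iff_free {A0 : Subgroup G} {B C : ↥(Conjs A0)} :
    Fr B C ↔ Free (B : Subgroup G) (C : Subgroup G) :=
  ⟨fun h a ha hc => h a ha (Subtype.ext hc), fun h a ha hc => h a ha (congrArg Subtype.val hc)⟩

theorem fr_smul {A0 : Subgroup G} {B C : ↥(Conjs A0)} (g : G) (h : Fr B C) :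
    Fr (g • B) (g • C) := by
  intro a ha hac
  rw [coe_smul_conjs, mem_cj_iff] at ha
  have h2 : (g⁻¹ * a * g) • C = C := by rw [mul_smul, mul_smul, hac, inv_smul_smul]
  calc a = g * (g⁻¹ * a * g) * g⁻¹ := by group
    _ = 1 := by rw [h _ ha h2]; group

theorem fr_smul_iff {A0 : Subgroup G} {B C : ↥(Conjs A0)} (g : G) :
    Fr (g • B) (g • C) ↔ Fr B C :=
  ⟨fun h => by simpa using fr_smul g⁻¹ h, fr_smul g⟩

theorem co_smul_iff {A0 : Subgroup G} {B C : ↥(Conjs A0)} (g : G) :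
    Co (g • B) (g • C) ↔ Co B C := by
  simp only [Co, fr_smul_iff, ne_eq, smul_left_cancel_iff]

/-- Everything the construction of the 23 points uses. -/
structure Ctx (G : Type u) [Group G] where
  A0 : Subgroup G
  cardG : Nat.card G = 10200960
  loc : ∀ B : ↥(Conjs A0), Local (B : Subgroup G)
  orb : ∀ B : ↥(Conjs A0), Orbits (B : Subgroup G)
  sv : ∀ B : ↥(Conjs A0), Seven (B : Subgroup G)

namespace Ctx

variable (K : Ctx G)

/-- The conjugates. -/
abbrev V := ↥(Conjs K.A0)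

variable {K}

theorem card_self (B : K.V) : Nat.card (B : Subgroup G) = 16 := (K.loc B).card

theorem exists_ne_one (B : K.V) : ∃ a ∈ (B : Subgroup G), a ≠ 1 := by
  by_contra h
  push Not at h
  have : (B : Subgroup G) = ⊥ := (Subgroup.eq_bot_iff_forall _).2 h
  have h16 := card_self B
  rw [this, Subgroup.card_bot] at h16
  omega

theorem fr_ne {B C : K.V} (h : Fr B C) : C ≠ B := by
  rintro rfl
  obtain ⟨a, ha, hne⟩ := exists_ne_one C
  exact hne (h a ha (smul_eq_self_of_mem ha))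

theorem fr_symm {B C : K.V} (h : Fr B C) : Fr C B := by
  rw [fr_iff_free] at h ⊢
  exact (K.orb B).free_symm C (by rw [conjs_eq B.2]; exact C.2)
    (fun he => fr_ne (fr_iff_free.2 h) (Subtype.ext he)) h

theorem co_symm {B C : K.V} (h : Co B C) : Co C B := ⟨h.1.symm, fun hf => h.2 (fr_symm hf)⟩

theorem self_comm {B : K.V} {a b : G} (ha : a ∈ (B : Subgroup G)) (hb : b ∈ (B : Subgroup G)) :
    a * b = b * a := by
  have e : ∀ c ∈ (B : Subgroup G), c⁻¹ = c := fun c hc => inv_eq_of_mul_eq_one_right ((K.loc B).sq c hc)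
  calc a * b = (a * b)⁻¹ := (e _ (mul_mem ha hb)).symm
    _ = b⁻¹ * a⁻¹ := mul_inv_rev a b
    _ = b * a := by rw [e a ha, e b hb]

theorem self_inv {B : K.V} {a : G} (ha : a ∈ (B : Subgroup G)) : a⁻¹ = a :=
  inv_eq_of_mul_eq_one_right ((K.loc B).sq a ha)

/-- Transport between the two ways of quantifying over the conjugates. -/
def convEquiv (B : K.V) (P : Subgroup G → Prop) :
    {C : Subgroup G // C ∈ Conjs (B : Subgroup G) ∧ P C} ≃ {C : K.V // P C} where
  toFun C := ⟨⟨C.1, (Set.ext_iff.1 (conjs_eq B.2) C.1).1 C.2.1⟩, C.2.2⟩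
  invFun C := ⟨C.1.1, by rw [conjs_eq B.2]; exact C.1.2, C.2⟩
  left_inv _ := rfl
  right_inv _ := rfl

theorem ncard_fr (B : K.V) : {C : K.V | Fr B C}.ncard = 112 := by
  rw [← (K.orb B).card_free, Nat.card_congr (convEquiv B (fun C => C ≠ B ∧ Free (B : Subgroup G) C)),
    ← Nat.card_coe_set_eq]
  refine Nat.card_congr (Equiv.subtypeEquivRight fun C => ?_)
  exact ⟨fun h => ⟨fun he => fr_ne h (Subtype.ext he), fr_iff_free.1 h⟩,
    fun h => fr_iff_free.2 h.2⟩

theorem ncard_co (B : K.V) : {C : K.V | Co B C}.ncard = 140 := by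
  rw [← (K.orb B).card_comm,
    Nat.card_congr (convEquiv B (fun C => C ≠ B ∧ ¬ Free (B : Subgroup G) C)),
    ← Nat.card_coe_set_eq]
  refine Nat.card_congr (Equiv.subtypeEquivRight fun C => ?_)
  exact ⟨fun h => ⟨fun he => h.1 (Subtype.ext he), fun hf => h.2 (fr_iff_free.2 hf)⟩,
    fun h => ⟨fun he => h.1 (congrArg Subtype.val he), fun hf => h.2 (fr_iff_free.1 hf)⟩⟩

theorem card_V : Nat.card K.V = 253 :=
  (K.orb ⟨K.A0, 1, (cj_one_eq K.A0).symm⟩).card_conjs

theorem free_trans {B C D : K.V} (hC : Fr B C) (hD : Fr B D) : ∃ n ∈ nb B, n • C = D := by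
  obtain ⟨n, hn, h⟩ := (K.orb B).free_trans C.1 (by rw [conjs_eq B.2]; exact C.2) D.1
    (by rw [conjs_eq B.2]; exact D.2) (fun h => fr_ne hC (Subtype.ext h))
    (fun h => fr_ne hD (Subtype.ext h)) (fr_iff_free.1 hC) (fr_iff_free.1 hD)
  exact ⟨n, hn, Subtype.ext h⟩

theorem comm_trans {B C D : K.V} (hC : Co B C) (hD : Co B D) : ∃ n ∈ nb B, n • C = D := by
  obtain ⟨n, hn, h⟩ := (K.orb B).comm_trans C.1 (by rw [conjs_eq B.2]; exact C.2) D.1
    (by rw [conjs_eq B.2]; exact D.2) (fun h => hC.1 (Subtype.ext h))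
    (fun h => hD.1 (Subtype.ext h)) (fun h => hC.2 (fr_iff_free.2 h))
    (fun h => hD.2 (fr_iff_free.2 h))
  exact ⟨n, hn, Subtype.ext h⟩

/-- Orbit times stabilizer. -/
theorem orbit_count (H : Subgroup G) (C : K.V) (S : Set K.V) (hS : ∀ h ∈ H, h • C ∈ S)
    (htr : ∀ D ∈ S, ∃ h ∈ H, h • C = D) :
    S.ncard * Nat.card ↥(H ⊓ nb C) = Nat.card H := by
  have h1 : S = MulAction.orbit H C := by
    ext D
    constructor
    · intro hD
      obtain ⟨h, hh, he⟩ := htr D hD
      exact ⟨⟨h, hh⟩, he⟩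
    · rintro ⟨h, rfl⟩
      exact hS h.1 h.2
  have h2 : MulAction.stabilizer H C = (H ⊓ nb C).subgroupOf H := by
    ext h
    rw [MulAction.mem_stabilizer_iff, Subgroup.mem_subgroupOf, Subgroup.mem_inf, mem_nb_iff,
      Subgroup.smul_def]
    exact ⟨fun e => ⟨h.2, e⟩, fun e => e.2⟩
  rw [h1, ← MulAction.index_stabilizer, h2,
    ← Nat.card_congr (Subgroup.subgroupOfEquivOfLe (inf_le_left : H ⊓ nb C ≤ H)).toEquiv]
  exact Subgroup.index_mul_card _

theorem card_nb (B : K.V) : Nat.card (nb B) = 40320 := (K.loc B).card_norm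

theorem card_nb_fr {B C : K.V} (h : Fr B C) : Nat.card ↥(nb B ⊓ nb C) = 360 := by
  have := orbit_count (nb B) C {D | Fr B D}
    (fun n hn => by
      have h2 := fr_smul n h
      rwa [mem_nb_iff.1 hn] at h2)
    (fun D hD => free_trans h hD)
  rw [ncard_fr, card_nb] at this
  omega

theorem card_nb_co {B C : K.V} (h : Co B C) : Nat.card ↥(nb B ⊓ nb C) = 288 := by
  have := orbit_count (nb B) C {D | Co B D}
    (fun n hn => by
      have h2 := (co_smul_iff n).2 h
      rwa [mem_nb_iff.1 hn] at h2)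
    (fun D hD => comm_trans h hD)
  rw [ncard_co, card_nb] at this
  omega

theorem card_self_inf_co {B C : K.V} (h : Co B C) :
    Nat.card ↥((B : Subgroup G) ⊓ nb C) = 4 :=
  (K.orb B).comm_card C.1 (by rw [conjs_eq B.2]; exact C.2) (fun he => h.1 (Subtype.ext he))
    (fun hf => h.2 (fr_iff_free.2 hf))

/-- The label of a free conjugate. -/
def idx (B C : K.V) : Fin 7 := (K.sv B).idx C.1

open scoped Classical in
/-- The action on the labels, as a function on the whole group. -/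
noncomputable def rr (B : K.V) (g : G) : Equiv.Perm (Fin 7) :=
  if h : g ∈ nb B then (K.sv B).ρ ⟨g, h⟩ else 1

theorem rr_eq {B : K.V} {g : G} (h : g ∈ nb B) : rr B g = (K.sv B).ρ ⟨g, h⟩ := by
  rw [rr, dif_pos h]

theorem rr_mul {B : K.V} {g h : G} (hg : g ∈ nb B) (hh : h ∈ nb B) :
    rr B (g * h) = rr B g * rr B h := by
  rw [rr_eq (mul_mem hg hh), rr_eq hg, rr_eq hh, ← map_mul]
  rfl

theorem rr_one (B : K.V) : rr B 1 = 1 := by
  rw [rr_eq (one_mem _)]
  exact map_one _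

theorem rr_inv {B : K.V} {g : G} (hg : g ∈ nb B) : rr B g⁻¹ = (rr B g)⁻¹ := by
  rw [rr_eq (inv_mem hg), rr_eq hg, ← map_inv]
  rfl

theorem rr_mem {B : K.V} {g : G} (hg : g ∈ nb B) : rr B g ∈ alternatingGroup (Fin 7) := by
  rw [← (K.sv B).range_eq, rr_eq hg]
  exact ⟨_, rfl⟩

theorem rr_eq_one_iff {B : K.V} {g : G} (hg : g ∈ nb B) :
    rr B g = 1 ↔ g ∈ (B : Subgroup G) := by
  rw [rr_eq hg]
  exact (K.sv B).ker_iff ⟨g, hg⟩

theorem rr_surj (B : K.V) {σ : Equiv.Perm (Fin 7)} (h : σ ∈ alternatingGroup (Fin 7)) :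
    ∃ n ∈ nb B, rr B n = σ := by
  rw [← (K.sv B).range_eq] at h
  obtain ⟨n, rfl⟩ := h
  exact ⟨n.1, n.2, rr_eq n.2⟩

theorem idx_smul {B C : K.V} {n : G} (hn : n ∈ nb B) (h : Fr B C) :
    idx B (n • C) = rr B n (idx B C) := by
  rw [rr_eq hn]
  exact (K.sv B).idx_conj ⟨n, hn⟩ C.1 (by rw [conjs_eq B.2]; exact C.2) (fr_iff_free.1 h)

theorem idx_eq_iff {B C D : K.V} (hC : Fr B C) (hD : Fr B D) :
    idx B C = idx B D ↔ ∃ a ∈ (B : Subgroup G), a • C = D := by
  rw [idx, idx, (K.sv B).idx_eq C.1 (by rw [conjs_eq B.2]; exact C.2) D.1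
    (by rw [conjs_eq B.2]; exact D.2) (fr_iff_free.1 hC) (fr_iff_free.1 hD)]
  exact exists_congr fun a => and_congr_right fun _ => (Subtype.ext_iff (a1 := a • C)).symm

theorem idx_surj (B : K.V) (i : Fin 7) : ∃ C : K.V, Fr B C ∧ idx B C = i := by
  obtain ⟨C, hC, hf, hi⟩ := (K.sv B).idx_surj i
  exact ⟨⟨C, (Set.ext_iff.1 (conjs_eq B.2) C).1 hC⟩, fr_iff_free.2 hf, hi⟩

/-- A pair stabilizer of a free pair is faithful on the labels. -/
theorem eq_one_of_rr {B C : K.V} {n : G} (h : Fr B C) (hn : n ∈ nb B) (hC : n • C = C)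
    (h1 : rr B n = 1) : n = 1 :=
  h n ((rr_eq_one_iff hn).1 h1) hC

theorem rr_fix_idx {B C : K.V} {n : G} (h : Fr B C) (hn : n ∈ nb B) (hC : n • C = C) :
    rr B n (idx B C) = idx B C := by
  rw [← idx_smul hn h, hC]

/-- The labels are carried along by conjugation. -/
theorem exists_tau (g : G) (B : K.V) : ∃ τ : Equiv.Perm (Fin 7),
    ∀ C : K.V, Fr B C → idx (g • B) (g • C) = τ (idx B C) := by
  choose c hc hi using idx_surj (K := K) B
  have key : ∀ C D : K.V, Fr B C → Fr B D →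
      (idx (g • B) (g • C) = idx (g • B) (g • D) ↔ idx B C = idx B D) := by
    intro C D hC hD
    rw [idx_eq_iff (fr_smul g hC) (fr_smul g hD), idx_eq_iff hC hD]
    constructor
    · rintro ⟨a, ha, h⟩
      rw [coe_smul_conjs, mem_cj_iff] at ha
      refine ⟨_, ha, ?_⟩
      rw [mul_smul, mul_smul, h, inv_smul_smul]
    · rintro ⟨a, ha, h⟩
      refine ⟨_, conj_mem_smul ha, ?_⟩
      rw [mul_smul, mul_smul, inv_smul_smul, h]
  have hinj : Function.Injective (fun i => idx (g • B) (g • c i)) := by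
    intro i k h
    have := (key _ _ (hc i) (hc k)).1 h
    rwa [hi, hi] at this
  refine ⟨Equiv.ofBijective _ (Finite.injective_iff_bijective.1 hinj), fun C hC => ?_⟩
  rw [Equiv.ofBijective_apply, key C _ hC (hc _), hi]

/-- The transport of labels. -/
noncomputable def tau (g : G) (B : K.V) : Equiv.Perm (Fin 7) :=
  Classical.choose (exists_tau g B)

theorem tau_spec (g : G) {B C : K.V} (h : Fr B C) :
    idx (g • B) (g • C) = tau g B (idx B C) :=
  Classical.choose_spec (exists_tau g B) C h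

theorem tau_of_mem {B : K.V} {n : G} (hn : n ∈ nb B) : tau n B = rr B n := by
  refine Equiv.ext fun k => ?_
  obtain ⟨C, hC, rfl⟩ := idx_surj B k
  rw [← tau_spec n hC, mem_nb_iff.1 hn, idx_smul hn hC]

theorem rr_conj {B : K.V} (g : G) {n : G} (hn : n ∈ nb B) (k : Fin 7) :
    g * n * g⁻¹ ∈ nb (g • B) ∧ rr (g • B) (g * n * g⁻¹) (tau g B k) = tau g B (rr B n k) := by
  have hm : g * n * g⁻¹ ∈ nb (g • B) := by
    rw [mem_nb_iff, mul_smul, mul_smul, inv_smul_smul, mem_nb_iff.1 hn]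
  refine ⟨hm, ?_⟩
  obtain ⟨C, hC, rfl⟩ := idx_surj B k
  have hnC : Fr B (n • C) := by
    have := fr_smul n hC
    rwa [mem_nb_iff.1 hn] at this
  rw [← tau_spec g hC, ← idx_smul hm (fr_smul g hC), mul_smul, mul_smul, inv_smul_smul,
    tau_spec g hnC, idx_smul hn hC]

/-- The permutations of the labels at `B` induced by the stabilizer of `C`. -/
def jgrp (B C : K.V) : Subgroup (Equiv.Perm (Fin 7)) :=
  ((K.sv B).ρ.comp (Subgroup.inclusion (inf_le_left : nb B ⊓ nb C ≤ nb B))).range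

theorem mem_jgrp {B C : K.V} {σ : Equiv.Perm (Fin 7)} :
    σ ∈ jgrp B C ↔ ∃ n ∈ nb B, n • C = C ∧ rr B n = σ := by
  constructor
  · rintro ⟨n, rfl⟩
    exact ⟨n.1, n.2.1, mem_nb_iff.1 n.2.2, rr_eq n.2.1⟩
  · rintro ⟨n, hn, hC, rfl⟩
    exact ⟨⟨n, hn, mem_nb_iff.2 hC⟩, (rr_eq hn).symm⟩

theorem jgrp_le (B C : K.V) : jgrp B C ≤ alternatingGroup (Fin 7) := by
  intro σ hσ
  obtain ⟨n, hn, -, rfl⟩ := mem_jgrp.1 hσ
  exact rr_mem hn

theorem card_jgrp {B C : K.V} (h : Co B C) : Nat.card (jgrp B C) = 72 := by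
  set f := (K.sv B).ρ.comp (Subgroup.inclusion (inf_le_left : nb B ⊓ nb C ≤ nb B)) with hf
  have hk : Nat.card f.ker = 4 := by
    rw [← card_self_inf_co h]
    refine Nat.card_congr
      { toFun := fun x => ⟨x.1.1, ⟨((K.sv B).ker_iff _).1 x.2, x.1.2.2⟩⟩
        invFun := fun x => ⟨⟨x.1, mem_nb_of_mem x.2.1, x.2.2⟩, ((K.sv B).ker_iff _).2 x.2.1⟩
        left_inv := fun _ => rfl
        right_inv := fun _ => rfl }
  have := Subgroup.index_mul_card f.ker
  rw [Subgroup.index_ker, hk, card_nb_co h] at this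
  show Nat.card f.range = 72
  omega

open scoped Classical in
/-- The three labels attached to a commuting pair. -/
noncomputable def tset (B C : K.V) : Finset (Fin 7) :=
  Finset.univ.filter (fun k => (jorb (jgrp B C) k).card = 3)

theorem card_tset {B C : K.V} (h : Co B C) : (tset B C).card = 3 := by
  convert card_filter_jorb_three (jgrp_le B C) (card_jgrp h) using 2
  ext k
  simp [tset]

theorem jorb_smul (g : G) (B C : K.V) (k : Fin 7) :
    jorb (jgrp (g • B) (g • C)) (tau g B k) = (jorb (jgrp B C) k).image (tau g B) := by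
  ext l
  simp only [mem_jorb, Finset.mem_image, mem_jgrp]
  constructor
  · rintro ⟨σ, ⟨n, hn, hC, rfl⟩, rfl⟩
    have hn' : g⁻¹ * n * g ∈ nb B := by
      rw [mem_nb_iff, mul_smul, mul_smul, mem_nb_iff.1 hn, inv_smul_smul]
    have hC' : (g⁻¹ * n * g) • C = C := by rw [mul_smul, mul_smul, hC, inv_smul_smul]
    refine ⟨rr B (g⁻¹ * n * g) k, ⟨_, ⟨_, hn', hC', rfl⟩, rfl⟩, ?_⟩
    rw [← (rr_conj g hn' k).2]
    congr 2
    group
  · rintro ⟨m, ⟨σ, ⟨n, hn, hC, rfl⟩, rfl⟩, rfl⟩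
    exact ⟨_, ⟨_, (rr_conj g hn k).1,
      by rw [mul_smul, mul_smul, inv_smul_smul, hC], rfl⟩, (rr_conj g hn k).2⟩

theorem tset_smul (g : G) (B C : K.V) : tset (g • B) (g • C) = (tset B C).image (tau g B) := by
  ext l
  obtain ⟨k, rfl⟩ := (tau g B).surjective l
  rw [(tau g B).injective.mem_finset_image]
  simp only [tset, Finset.mem_filter, Finset.mem_univ, true_and, jorb_smul,
    Finset.card_image_of_injective _ (tau g B).injective]

theorem tset_smul_nb {B : K.V} {n : G} (hn : n ∈ nb B) (C : K.V) :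
    tset B (n • C) = (tset B C).image (rr B n) := by
  have := tset_smul n B C
  rwa [mem_nb_iff.1 hn, tau_of_mem hn] at this

theorem tset_smul_mem {B : K.V} {a : G} (ha : a ∈ (B : Subgroup G)) (C : K.V) :
    tset B (a • C) = tset B C := by
  rw [tset_smul_nb (mem_nb_of_mem ha), (rr_eq_one_iff (mem_nb_of_mem ha)).2 ha]
  simp

/-- The regular orbit with a given label. -/
def oset (B : K.V) (i : Fin 7) : Set K.V := {C | Fr B C ∧ idx B C = i}

/-- The commuting conjugates whose triple contains a given label. -/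
def zset (B : K.V) (i : Fin 7) : Set K.V := {C | Co B C ∧ i ∈ tset B C}

/-- A point of the geometry, as a set of conjugates. -/
def star (B : K.V) (i : Fin 7) : Set K.V := insert B (oset B i ∪ zset B i)

theorem mem_star {B D : K.V} {i : Fin 7} :
    D ∈ star B i ↔ D = B ∨ D ∈ oset B i ∨ D ∈ zset B i := by
  simp [star]

theorem smul_star_subset (g : G) (B : K.V) (i : Fin 7) {D : K.V} (h : D ∈ star B i) :
    g • D ∈ star (g • B) (tau g B i) := by
  rw [mem_star] at h ⊢
  rcases h with rfl | ⟨h1, rfl⟩ | ⟨h1, h2⟩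
  · exact Or.inl rfl
  · exact Or.inr (Or.inl ⟨fr_smul g h1, tau_spec g h1⟩)
  · refine Or.inr (Or.inr ⟨(co_smul_iff g).2 h1, ?_⟩)
    rw [tset_smul]
    exact Finset.mem_image_of_mem _ h2

theorem tau_inv_apply (g : G) (B : K.V) (i : Fin 7) :
    tau g⁻¹ (g • B) (tau g B i) = i := by
  obtain ⟨C, hC, rfl⟩ := idx_surj B i
  rw [← tau_spec g hC, ← tau_spec g⁻¹ (fr_smul g hC), inv_smul_smul, inv_smul_smul]

theorem smul_star (g : G) (B : K.V) (i : Fin 7) :
    g • star B i = star (g • B) (tau g B i) := by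
  ext D
  rw [Set.mem_smul_set_iff_inv_smul_mem]
  constructor
  · intro h
    have := smul_star_subset g B i h
    rwa [smul_inv_smul] at this
  · intro h
    have := smul_star_subset g⁻¹ (g • B) (tau g B i) h
    rwa [tau_inv_apply, inv_smul_smul] at this

/-- Uniform fibres. -/
theorem fibre_sum {α β : Type*} [Finite α] [DecidableEq β] (S : Set α) (f : α → β) (T : Finset β)
    (hf : ∀ x ∈ S, f x ∈ T)
    (hmv : ∀ s ∈ T, ∀ t ∈ T, ∃ e : α → α, Function.Injective e ∧
      ∀ x ∈ S, f x = s → e x ∈ S ∧ f (e x) = t)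
    (p : β → Prop) [DecidablePred p] :
    {x | x ∈ S ∧ p (f x)}.ncard * T.card = (T.filter p).card * S.ncard := by
  classical
  have := Fintype.ofFinite α
  set F : β → ℕ := fun t => (S.toFinset.filter (fun x => f x = t)).card with hF
  have hle : ∀ s ∈ T, ∀ t ∈ T, F s ≤ F t := by
    intro s hs t ht
    obtain ⟨e, he, h⟩ := hmv s hs t ht
    refine Finset.card_le_card_of_injOn e (fun x hx => ?_) he.injOn
    simp only [Finset.coe_filter, Set.mem_toFinset, Set.mem_ofPred_eq] at hx ⊢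
    exact h x hx.1 hx.2
  have e1 : S.ncard = ∑ t ∈ T, F t := by
    rw [Set.ncard_eq_toFinset_card']
    exact Finset.card_eq_sum_card_fiberwise fun x hx => hf x (Set.mem_toFinset.1 hx)
  have e2 : {x | x ∈ S ∧ p (f x)}.ncard = ∑ t ∈ T.filter p, F t := by
    rw [Set.ncard_eq_toFinset_card', show Set.toFinset {x | x ∈ S ∧ p (f x)} =
      S.toFinset.filter (fun x => p (f x)) by ext x; simp]
    rw [Finset.card_eq_sum_card_fiberwise (f := f) (t := T.filter p) fun x hx => by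
      simp only [Finset.coe_filter, Set.mem_toFinset, Set.mem_ofPred_eq] at hx
      exact Finset.mem_filter.2 ⟨hf x hx.1, hx.2⟩]
    refine Finset.sum_congr rfl fun t ht => ?_
    simp only [hF]
    congr 1
    ext x
    simp only [Finset.mem_filter, Set.mem_toFinset]
    exact ⟨fun h => ⟨h.1.1, h.2⟩, fun h => ⟨⟨h.1, h.2 ▸ (Finset.mem_filter.1 ht).2⟩, h.2⟩⟩
  by_cases hT : T = ∅
  · subst hT
    rw [e2]
    simp
  obtain ⟨t0, ht0⟩ := Finset.nonempty_iff_ne_empty.2 hT
  have hconst : ∀ t ∈ T, F t = F t0 := fun t ht => le_antisymm (hle t ht t0 ht0) (hle t0 ht0 t ht)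
  rw [e1, e2, Finset.sum_congr rfl hconst,
    Finset.sum_congr rfl (fun t ht => hconst t (Finset.mem_filter.1 ht).1), Finset.sum_const,
    Finset.sum_const, smul_eq_mul, smul_eq_mul]
  ring

theorem tset_mem_powerset {B C : K.V} (h : Co B C) :
    tset B C ∈ (Finset.univ : Finset (Fin 7)).powersetCard 3 := by
  rw [Finset.mem_powersetCard]
  exact ⟨Finset.subset_univ _, card_tset h⟩

theorem tset_move (B : K.V) {s t : Finset (Fin 7)} (i : Fin 7) (hc : s.card = t.card)
    (hi : i ∈ s ↔ i ∈ t) : ∃ n ∈ nb B, rr B n i = i ∧ s.image (rr B n) = t := by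
  obtain ⟨σ, hσ, h1, h2⟩ := seven_exists_even i s t hc hi
  obtain ⟨n, hn, rfl⟩ := rr_surj B hσ
  exact ⟨n, hn, h1, h2⟩

theorem tset_count [Finite G] (B : K.V) (p : Finset (Fin 7) → Prop) [DecidablePred p] :
    {C : K.V | Co B C ∧ p (tset B C)}.ncard =
      4 * ((((Finset.univ : Finset (Fin 7)).powersetCard 3)).filter p).card := by
  classical
  have h := fibre_sum {C : K.V | Co B C} (tset B) ((Finset.univ : Finset (Fin 7)).powersetCard 3)
    (fun C hC => tset_mem_powerset hC) (fun s hs t ht => ?_) p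
  · rw [card_triples, ncard_co] at h
    simp only [Set.mem_ofPred_eq] at h
    omega
  · rw [Finset.mem_powersetCard] at hs ht
    obtain ⟨i, hi⟩ : ∃ i, (i ∈ s ↔ i ∈ t) := by
      by_contra hh
      push Not at hh
      have e : t = sᶜ := by
        ext i
        have := hh i
        rw [Finset.mem_compl]
        tauto
      have := congrArg Finset.card e
      rw [Finset.card_compl, hs.2, ht.2, Fintype.card_fin] at this
      omega
    obtain ⟨n, hn, -, hst⟩ := tset_move B i (hs.2.trans ht.2.symm) hi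
    refine ⟨(n • ·), MulAction.injective n, fun C hC hCs => ⟨?_, ?_⟩⟩
    · have := (co_smul_iff n).2 hC
      rwa [mem_nb_iff.1 hn] at this
    · rw [tset_smul_nb hn, hCs, hst]

theorem ncard_zset [Finite G] (B : K.V) (i : Fin 7) : (zset B i).ncard = 60 := by
  rw [zset, tset_count B (fun s => i ∈ s), card_triples_mem]

theorem ncard_oset [Finite G] (B : K.V) (i : Fin 7) : (oset B i).ncard = 16 := by
  obtain ⟨C, hC, rfl⟩ := idx_surj B i
  have hS : ∀ a ∈ (B : Subgroup G), a • C ∈ oset B (idx B C) := by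
    intro a ha
    have h1 : Fr B (a • C) := by
      have := fr_smul a hC
      rwa [smul_eq_self_of_mem ha] at this
    exact ⟨h1, ((idx_eq_iff hC h1).2 ⟨a, ha, rfl⟩).symm⟩
  have := orbit_count (B : Subgroup G) C (oset B (idx B C)) hS
    (fun D hD => (idx_eq_iff hC hD.1).1 hD.2.symm)
  have hbot : (B : Subgroup G) ⊓ nb C = ⊥ :=
    (Subgroup.eq_bot_iff_forall _).2 fun a ha => hC a ha.1 (mem_nb_iff.1 ha.2)
  rw [hbot, Subgroup.card_bot, card_self, mul_one] at this
  exact this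

theorem ncard_star [Finite G] (B : K.V) (i : Fin 7) : (star B i).ncard = 77 := by
  have hd : Disjoint (oset B i) (zset B i) :=
    Set.disjoint_left.2 fun C h1 h2 => h2.1.2 h1.1
  have hnm : B ∉ oset B i ∪ zset B i := by
    rintro (h | h)
    · exact fr_ne h.1 rfl
    · exact h.1.1 rfl
  rw [star, Set.ncard_insert_of_notMem hnm, Set.ncard_union_eq hd, ncard_oset, ncard_zset]

theorem star_injective (B : K.V) : Function.Injective (star B) := by
  intro i k h
  obtain ⟨C, hC, rfl⟩ := idx_surj B i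
  have : C ∈ star B k := by rw [← h]; exact mem_star.2 (Or.inr (Or.inl ⟨hC, rfl⟩))
  rcases mem_star.1 this with rfl | h' | h'
  · exact absurd rfl (fr_ne hC)
  · exact h'.2
  · exact absurd hC h'.1.2

end Ctx

end Cfsg.Agent.Lib.M23Nse5
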