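import Cfsg.Agent.Lib.M23Nse5.Flags1

/-!
The two stars through a free pair coincide.
-/

set_option autoImplicit false

namespace Cfsg.Agent.Lib.M23Nse5

universe u

open Pointwise

namespace Ctx

variable {G : Type u} [Group G] {K : Ctx G} [Finite G]

/-- The image of the centralizer of a nontrivial element of `B` on the labels. -/
def centImage (B : K.V) (a : G) : Subgroup (Equiv.Perm (Fin 7)) :=
  ((K.sv B).ρ.comp (Subgroup.inclusion
    (inf_le_left : nb B ⊓ Subgroup.centralizer {a} ≤ nb B))).range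

theorem centImage_trans {B : K.V} {a : G} (ha : a ∈ (B : Subgroup G)) (h1 : a ≠ 1) :
    (∀ k l : Fin 7, ∃ c, c ∈ nb B ∧ c * a = a * c ∧ rr B c k = l) ∧
      Nat.card (centImage B a) ∣ 2688 := by
  have hle : Subgroup.centralizer ({a} : Set G) ≤ nb B := (K.loc B).cent_le a ha h1
  have hcard : Nat.card ↥(nb B ⊓ Subgroup.centralizer {a}) = 2688 := by
    rw [inf_eq_right.2 hle]
    exact (K.loc B).card_cent a ha h1
  have hmem : ∀ c, c ∈ Subgroup.centralizer ({a} : Set G) → c * a = a * c := fun c hc =>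
    (Subgroup.mem_centralizer_singleton_iff.1 hc)
  refine ⟨?_, by rw [← hcard]; exact Subgroup.card_range_dvd _⟩
  have : Fact (Nat.Prime 7) := ⟨by norm_num⟩
  obtain ⟨c, hc⟩ := exists_prime_orderOf_dvd_card' (G := ↥(nb B ⊓ Subgroup.centralizer {a})) 7
    (by rw [hcard]; norm_num)
  have hcn : (c : G) ∈ nb B := c.2.1
  have hco : orderOf (c : G) = 7 := by rw [Subgroup.orderOf_coe, hc]
  have hσ7 : rr B (c : G) ^ 7 = 1 := by
    have e : ∀ n : ℕ, rr B (c : G) ^ n = rr B ((c : G) ^ n) := by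
      intro n
      induction n with
      | zero => simp [rr_one]
      | succ n ih => rw [pow_succ, pow_succ, rr_mul (pow_mem hcn n) hcn, ih]
    have h0 := pow_orderOf_eq_one (c : G)
    rw [hco] at h0
    rw [e, h0, rr_one]
  have hσ1 : rr B (c : G) ≠ 1 := by
    intro h
    have := (K.loc B).sq _ ((rr_eq_one_iff hcn).1 h)
    rw [← pow_two] at this
    have h2 := orderOf_dvd_of_pow_eq_one this
    rw [hco] at h2
    norm_num at h2
  have ho : orderOf (rr B (c : G)) = 7 := orderOf_eq_prime hσ7 hσ1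
  have hcyc : (rr B (c : G)).IsCycle := Equiv.Perm.isCycle_of_prime_order'
    (by rw [ho]; norm_num) (by rw [ho, Fintype.card_fin]; norm_num)
  have hall : ∀ k, rr B (c : G) k ≠ k := by
    have hs : (rr B (c : G)).support = Finset.univ :=
      Finset.eq_univ_of_card _ (by rw [← hcyc.orderOf, ho, Fintype.card_fin])
    intro k
    rw [← Equiv.Perm.mem_support, hs]
    exact Finset.mem_univ k
  intro k l
  obtain ⟨n, hn⟩ := hcyc.exists_pow_eq (hall k) (hall l)
  refine ⟨(c : G) ^ n, pow_mem hcn n, hmem _ (pow_mem c.2.2 n), ?_⟩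
  rw [← hn]
  congr 1
  clear hn
  induction n with
  | zero => simp [rr_one]
  | succ n ih => rw [pow_succ, pow_succ, rr_mul (pow_mem hcn n) hcn, ih]

theorem cent_no_three {B : K.V} {a x : G} (ha : a ∈ (B : Subgroup G)) (h1 : a ≠ 1)
    (hx : x * a = a * x) : ¬ (rr B x).IsThreeCycle := by
  intro h3
  obtain ⟨htr, hc⟩ := centImage_trans ha h1
  have key : ∀ c, c ∈ nb B → c * a = a * c → rr B c ∈ centImage B a := fun c hc hca =>
    ⟨⟨c, hc, Subgroup.mem_centralizer_singleton_iff.2 hca⟩, (rr_eq hc).symm⟩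
  refine no_three_cycle (centImage B a) hc (fun k l => ?_) h3
    (key x ((K.loc B).cent_le a ha h1 (Subgroup.mem_centralizer_singleton_iff.2 hx)) hx)
  obtain ⟨c, hc, hca, h⟩ := htr k l
  exact ⟨_, key c hc hca, h⟩

/-- The stabilizer of a free pair is transitive on the nontrivial elements of either. -/
theorem pair_trans {A B : K.V} (h : Fr A B) {a a' : G} (ha : a ∈ (A : Subgroup G))
    (ha' : a' ∈ (A : Subgroup G)) (h1 : a ≠ 1) (h1' : a' ≠ 1) :
    ∃ n, n ∈ nb A ∧ n ∈ nb B ∧ n * a * n⁻¹ = a' := by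
  obtain ⟨n, hn, hna⟩ := (K.loc A).trans a ha a' ha' h1 h1'
  have hn' : n ∈ nb A := hn
  obtain ⟨c, hc, hca, hci⟩ := (centImage_trans ha h1).1 (idx A B) ((rr A n)⁻¹ (idx A B))
  have hnc : n * c ∈ nb A := mul_mem hn' hc
  have hf : Fr A ((n * c) • B) := by
    have := fr_smul (n * c) h
    rwa [mem_nb_iff.1 hnc] at this
  have hi : idx A B = idx A ((n * c) • B) := by
    rw [idx_smul hnc h, rr_mul hn' hc, Equiv.Perm.mul_apply, hci]
    simp
  obtain ⟨α, hα, hαB⟩ := (idx_eq_iff h hf).1 hi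
  refine ⟨α⁻¹ * (n * c), mul_mem (inv_mem (mem_nb_of_mem hα)) hnc, mem_nb_iff.2 ?_, ?_⟩
  · rw [mul_smul, ← hαB, inv_smul_smul]
  · have e1 : c * a * c⁻¹ = a := by rw [hca]; group
    calc α⁻¹ * (n * c) * a * (α⁻¹ * (n * c))⁻¹ = α⁻¹ * (n * (c * a * c⁻¹) * n⁻¹) * α := by group
      _ = α⁻¹ * (a' * α) := by rw [e1, hna, mul_assoc]
      _ = a' := by rw [self_comm ha' hα, inv_mul_cancel_left]

/-- The stabilizer of a free pair induces every even permutation fixing the label. -/
theorem pair_surj {A B : K.V} (h : Fr A B) {σ : Equiv.Perm (Fin 7)}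
    (hσ : σ ∈ alternatingGroup (Fin 7)) (hi : σ (idx A B) = idx A B) :
    ∃ n, n ∈ nb A ∧ n ∈ nb B ∧ rr A n = σ := by
  obtain ⟨n, hn, rfl⟩ := rr_surj A hσ
  have hf : Fr A (n • B) := by
    have := fr_smul n h
    rwa [mem_nb_iff.1 hn] at this
  obtain ⟨α, hα, hαB⟩ := (idx_eq_iff h hf).1 (by rw [idx_smul hn h, hi])
  refine ⟨α⁻¹ * n, mul_mem (inv_mem (mem_nb_of_mem hα)) hn, mem_nb_iff.2 ?_, ?_⟩
  · rw [mul_smul, ← hαB, inv_smul_smul]
  · rw [rr_mul (inv_mem (mem_nb_of_mem hα)) hn, rr_inv (mem_nb_of_mem hα),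
      (rr_eq_one_iff (mem_nb_of_mem hα)).2 hα]
    simp

/-- The orbit of `B` on a free `A`, without `A`. -/
def side (A B : K.V) : Set K.V := {C | C ≠ A ∧ ∃ b ∈ (B : Subgroup G), b • A = C}

theorem side_eq {A B : K.V} (h : Fr A B) :
    side A B = oset B (idx B A) \ {A} := by
  ext C
  constructor
  · rintro ⟨hne, b, hb, rfl⟩
    have hf : Fr B (b • A) := by
      have := fr_smul b (fr_symm h)
      rwa [smul_eq_self_of_mem hb] at this
    exact ⟨⟨hf, ((idx_eq_iff (fr_symm h) hf).2 ⟨b, hb, rfl⟩).symm⟩, hne⟩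
  · rintro ⟨⟨hf, hi⟩, hne⟩
    exact ⟨hne, (idx_eq_iff (fr_symm h) hf).1 hi.symm⟩

theorem ncard_side {A B : K.V} (h : Fr A B) : (side A B).ncard = 15 := by
  rw [side_eq h, Set.ncard_sdiff_singleton_of_mem
    (show A ∈ oset B (idx B A) from ⟨fr_symm h, rfl⟩), ncard_oset]

theorem side_inv {A B C : K.V} {n : G} (hA : n ∈ nb A) (hB : n ∈ nb B) (hC : C ∈ side A B) :
    n • C ∈ side A B := by
  obtain ⟨hne, b, hb, rfl⟩ := hC
  refine ⟨fun he => hne ?_, n * b * n⁻¹, conj_mem_of_fix (mem_nb_iff.1 hB) hb, ?_⟩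
  · have := congrArg (n⁻¹ • ·) he
    simp only [inv_smul_smul] at this
    rw [this, inv_smul_eq_iff, mem_nb_iff.1 hA]
  · rw [mul_smul, mul_smul, inv_smul_eq_iff.2 (mem_nb_iff.1 hA).symm]

theorem side_trans {A B C D : K.V} (h : Fr A B) (hC : C ∈ side A B) (hD : D ∈ side A B) :
    ∃ n, n ∈ nb A ∧ n ∈ nb B ∧ n • C = D := by
  obtain ⟨hC1, b, hb, rfl⟩ := hC
  obtain ⟨hD1, b', hb', rfl⟩ := hD
  have e1 : b ≠ 1 := fun e => hC1 (by rw [e, one_smul])
  have e2 : b' ≠ 1 := fun e => hD1 (by rw [e, one_smul])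
  obtain ⟨n, hnB, hnA, hn⟩ := pair_trans (fr_symm h) hb hb' e1 e2
  refine ⟨n, hnA, hnB, ?_⟩
  rw [← hn]
  simp only [mul_smul, inv_smul_eq_iff.2 (mem_nb_iff.1 hnA).symm]

theorem card_side_stab {A B C : K.V} (h : Fr A B) (hC : C ∈ side A B) :
    Nat.card ↥(nb A ⊓ nb B ⊓ nb C) = 24 := by
  have := orbit_count (nb A ⊓ nb B) C (side A B) (fun n hn => side_inv hn.1 hn.2 hC)
    (fun D hD => by
      obtain ⟨n, h1, h2, h3⟩ := side_trans h hC hD
      exact ⟨n, ⟨h1, h2⟩, h3⟩)
  rw [ncard_side h, card_nb_fr h] at this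
  omega

theorem side_co {A B C : K.V} (h : Fr A B) (hC : C ∈ side A B) : Co A C := by
  classical
  refine ⟨hC.1, fun hfC => ?_⟩
  have hall : ∀ D ∈ side A B, Fr A D := by
    intro D hD
    obtain ⟨n, hA, hB, rfl⟩ := side_trans h hC hD
    have := fr_smul n hfC
    rwa [mem_nb_iff.1 hA] at this
  set i := idx A B with hi
  have hfix : ∀ n, n ∈ nb A → n ∈ nb B → rr A n i = i := fun n hA hB =>
    rr_fix_idx h hA (mem_nb_iff.1 hB)
  by_cases hk : idx A C = i
  · -- seventeen conjugates would be permuted transitively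
    have hsame : ∀ D ∈ side A B, D ∈ oset A i \ {B} := by
      intro D hD
      refine ⟨⟨hall D hD, ?_⟩, ?_⟩
      · obtain ⟨n, hA, hB, rfl⟩ := side_trans h hC hD
        rw [idx_smul hA hfC, hk, hfix n hA hB]
      · intro he
        rw [Set.mem_singleton_iff] at he
        obtain ⟨-, b, hb, hbA⟩ := hD
        rw [he] at hbA
        have : b • A = b • B := by rw [hbA, smul_eq_self_of_mem hb]
        exact fr_ne h ((smul_left_cancel_iff b).1 this).symm
    have heq : side A B = oset A i \ {B} := Set.eq_of_subset_of_ncard_le hsame (by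
      rw [ncard_side h, Set.ncard_sdiff_singleton_of_mem
        (show B ∈ oset A i from ⟨h, hi.symm⟩), ncard_oset])
    set S : Set K.V := insert A (oset A i) with hS
    set H := MulAction.stabilizer G S with hH
    have hB_S : B ∈ S := Or.inr ⟨h, hi.symm⟩
    have hA_H : ∀ a ∈ (A : Subgroup G), a ∈ H := by
      intro a ha
      rw [hH, MulAction.mem_stabilizer_set_iff_smul_set_subset (Set.toFinite _)]
      rintro _ ⟨D, hD, rfl⟩
      simp only
      rcases hD with rfl | hD
      · exact Or.inl (smul_eq_self_of_mem ha)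
      · refine Or.inr ⟨?_, ?_⟩
        · have := fr_smul a hD.1
          rwa [smul_eq_self_of_mem ha] at this
        · rw [idx_smul (mem_nb_of_mem ha) hD.1, (rr_eq_one_iff (mem_nb_of_mem ha)).2 ha, hD.2]
          rfl
    have hB_H : ∀ b ∈ (B : Subgroup G), b ∈ H := by
      intro b hb
      rw [hH, MulAction.mem_stabilizer_set_iff_smul_set_subset (Set.toFinite _)]
      rintro _ ⟨D, hD, rfl⟩
      simp only
      by_cases hDB : D = B
      · rw [hDB, smul_eq_self_of_mem hb]; exact hB_S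
      -- `D` lies in the orbit of `A` under `B`
      have hDA : ∃ b' ∈ (B : Subgroup G), b' • A = D := by
        rcases hD with rfl | hD
        · exact ⟨1, one_mem _, one_smul _ _⟩
        · have : D ∈ side A B := by rw [heq]; exact ⟨hD, hDB⟩
          exact this.2
      obtain ⟨b', hb', rfl⟩ := hDA
      by_cases hbA : b • b' • A = A
      · rw [hbA]; exact Or.inl rfl
      · have : b • b' • A ∈ side A B := ⟨hbA, b * b', mul_mem hb hb', mul_smul b b' A⟩
        exact Or.inr (hsame _ this).1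
    have hcount := orbit_count H A S
      (fun g hg => by
        have h2 : g • A ∈ g • S := Set.smul_mem_smul_set (Or.inl rfl)
        rwa [MulAction.mem_stabilizer_iff.1 hg] at h2)
      (fun D hD => by
        rcases hD with rfl | hD
        · exact ⟨1, one_mem _, one_smul _ _⟩
        · obtain ⟨a, ha, rfl⟩ := (idx_eq_iff h hD.1).1 (hi.symm.trans hD.2.symm)
          -- `B` itself is reached from `A`
          have hC' : C ∈ oset A i \ {B} := hsame C hC
          obtain ⟨a', ha', ha'C⟩ := (idx_eq_iff hC'.1.1 h).1 (hC'.1.2.trans hi)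
          obtain ⟨-, b, hb, hbA⟩ := hC
          refine ⟨a * a' * b, mul_mem (mul_mem (hA_H a ha) (hA_H a' ha')) (hB_H b hb), ?_⟩
          rw [mul_smul, mul_smul, hbA, ha'C])
    have h17 : S.ncard = 17 := by
      rw [hS, Set.ncard_insert_of_notMem (fun hA => fr_ne hA.1 rfl), ncard_oset]
    have hd := (Dvd.intro _ hcount).trans (Subgroup.card_subgroup_dvd_card H)
    rw [h17, K.cardG] at hd
    norm_num at hd
  · -- otherwise the fifteen would map evenly onto six labels
    have hcount := fibre_sum (side A B) (idx A) (Finset.univ.erase i) (fun D hD => by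
        rw [Finset.mem_erase]
        refine ⟨?_, Finset.mem_univ _⟩
        obtain ⟨n, hA, hB, rfl⟩ := side_trans h hC hD
        rw [idx_smul hA hfC]
        intro he
        exact hk ((rr A n).injective (he.trans (hfix n hA hB).symm)))
      (fun s hs t ht => by
        obtain ⟨σ, hσ, hσi, hσst⟩ := seven_exists_even_point i s t (Finset.mem_erase.1 hs).1
          (Finset.mem_erase.1 ht).1
        obtain ⟨n, hA, hB, rfl⟩ := pair_surj h hσ hσi
        exact ⟨(n • ·), MulAction.injective n, fun D hD hDs =>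
          ⟨side_inv hA hB hD, by rw [idx_smul hA (hall D hD), hDs, hσst]⟩⟩)
      (fun s => s = idx A C)
    rw [Finset.card_erase_of_mem (Finset.mem_univ i), ncard_side h, Finset.filter_eq',
      if_pos (Finset.mem_erase.2 ⟨hk, Finset.mem_univ _⟩)] at hcount
    simp only [Finset.card_univ, Fintype.card_fin, Finset.card_singleton] at hcount
    omega

theorem side_mem_tset {A B C : K.V} (h : Fr A B) (hC : C ∈ side A B) :
    idx A B ∈ tset A C := by
  classical
  by_contra hk
  set i := idx A B with hi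
  have hfix : ∀ n, n ∈ nb A → n ∈ nb B → rr A n i = i := fun n hA hB =>
    rr_fix_idx h hA (mem_nb_iff.1 hB)
  have hcount := fibre_sum (side A B) (tset A)
    (((Finset.univ : Finset (Fin 7)).powersetCard 3).filter (fun s => i ∉ s))
    (fun D hD => by
      rw [Finset.mem_filter]
      refine ⟨tset_mem_powerset (side_co h hD), ?_⟩
      obtain ⟨n, hA, hB, rfl⟩ := side_trans h hC hD
      rw [tset_smul_nb hA, ← hfix n hA hB, (rr A n).injective.mem_finset_image]
      exact hk)
    (fun s hs t ht => by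
      rw [Finset.mem_filter, Finset.mem_powersetCard] at hs ht
      obtain ⟨σ, hσ, hσi, hσst⟩ := seven_exists_even i s t (hs.1.2.trans ht.1.2.symm)
        (iff_of_false hs.2 ht.2)
      obtain ⟨n, hA, hB, rfl⟩ := pair_surj h hσ hσi
      exact ⟨(n • ·), MulAction.injective n, fun D hD hDs =>
        ⟨side_inv hA hB hD, by rw [tset_smul_nb hA, hDs, hσst]⟩⟩)
    (fun s => s = tset A C)
  rw [card_triples_not_mem, ncard_side h, Finset.filter_eq', if_pos (Finset.mem_filter.2
    ⟨tset_mem_powerset (side_co h hC), hk⟩)] at hcount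
  simp only [Finset.card_singleton] at hcount
  omega

theorem side_fibre {A B : K.V} (h : Fr A B) {s : Finset (Fin 7)}
    (hs : s ∈ (Finset.univ : Finset (Fin 7)).powersetCard 3) (hi : idx A B ∈ s) :
    {C : K.V | C ∈ side A B ∧ tset A C = s}.ncard = 1 := by
  classical
  set i := idx A B with hi'
  have hcount := fibre_sum (side A B) (tset A)
    (((Finset.univ : Finset (Fin 7)).powersetCard 3).filter (fun s => i ∈ s))
    (fun D hD => Finset.mem_filter.2
      ⟨tset_mem_powerset (side_co h hD), side_mem_tset h hD⟩)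
    (fun s hs t ht => by
      rw [Finset.mem_filter, Finset.mem_powersetCard] at hs ht
      obtain ⟨σ, hσ, hσi, hσst⟩ := seven_exists_even i s t (hs.1.2.trans ht.1.2.symm)
        (iff_of_true hs.2 ht.2)
      obtain ⟨n, hA, hB, rfl⟩ := pair_surj h hσ hσi
      exact ⟨(n • ·), MulAction.injective n, fun D hD hDs =>
        ⟨side_inv hA hB hD, by rw [tset_smul_nb hA, hDs, hσst]⟩⟩)
    (fun t => t = s)
  rw [card_triples_mem, ncard_side h, Finset.filter_eq', if_pos (Finset.mem_filter.2 ⟨hs, hi⟩)]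
    at hcount
  simp only [Finset.card_singleton] at hcount
  omega

theorem side_tset_inj {A B C D : K.V} (h : Fr A B) (hC : C ∈ side A B) (hD : D ∈ side A B)
    (he : tset A C = tset A D) : C = D :=
  (Set.ncard_le_one_iff (Set.toFinite _)).1 (side_fibre h (tset_mem_powerset (side_co h hD))
    (side_mem_tset h hD)).le ⟨hC, he⟩ ⟨hD, rfl⟩

/-- Every member of the sixty is reached from the fifteen by an element of `A`. -/
theorem zset_cover {A B D : K.V} (h : Fr A B) (hD : D ∈ zset A (idx A B)) :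
    ∃ C ∈ side A B, ∃ u ∈ (A : Subgroup G), u • C = D := by
  classical
  obtain ⟨C, hC⟩ := Set.ncard_eq_one.1 (side_fibre h (tset_mem_powerset hD.1) hD.2)
  have hC' : C ∈ side A B ∧ tset A C = tset A D := by
    have : C ∈ {x | x ∈ side A B ∧ tset A x = tset A D} := by rw [hC]; rfl
    exact this
  refine ⟨C, hC'.1, ?_⟩
  set O : Set K.V := {E | ∃ u ∈ (A : Subgroup G), u • C = E}
  have hco := side_co h hC'.1
  have hcount := orbit_count (A : Subgroup G) C O (fun u hu => ⟨u, hu, rfl⟩) (fun E hE => hE)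
  rw [card_self_inf_co hco, card_self] at hcount
  have h4 := tset_count A (fun s => s = tset A D)
  rw [Finset.filter_eq', if_pos (tset_mem_powerset hD.1), Finset.card_singleton, mul_one] at h4
  have hsub : O ⊆ {E | Co A E ∧ tset A E = tset A D} := by
    rintro E ⟨u, hu, rfl⟩
    refine ⟨?_, by rw [tset_smul_mem hu, hC'.2]⟩
    have := (co_smul_iff u).2 hco
    rwa [smul_eq_self_of_mem hu] at this
  have : D ∈ O := by
    rw [Set.eq_of_subset_of_ncard_le hsub (by omega)]
    exact ⟨hD.1, rfl⟩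
  exact this

/-- The key step. -/
theorem key_mem {A B C : K.V} (h : Fr A B) (hC : C ∈ side A B) {u : G}
    (hu : u ∈ (A : Subgroup G)) (hne : u • C ≠ C) : u • C ∈ zset B (idx B A) := by
  classical
  have hco := side_co h hC
  obtain ⟨hCA, b, hb, hbA⟩ := id hC
  have hb1 : b ≠ 1 := fun e => hCA (by rw [← hbA, e, one_smul])
  set S := nb A ⊓ nb B ⊓ nb C with hS
  have hScard : Nat.card S = 24 := card_side_stab h hC
  have : Fact (Nat.Prime 3) := ⟨Nat.prime_three⟩
  obtain ⟨x₀, hx₀⟩ := exists_prime_orderOf_dvd_card' (G := S) 3 (by rw [hScard]; norm_num)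
  set x : G := (x₀ : G) with hx
  have hxA : x ∈ nb A := x₀.2.1.1
  have hxB : x ∈ nb B := x₀.2.1.2
  have hxC : x ∈ nb C := x₀.2.2
  have hxo : orderOf x = 3 := by rw [hx, Subgroup.orderOf_coe, hx₀]
  have hx3 : x * x * x = 1 := by
    have h0 := pow_orderOf_eq_one x
    rw [hxo, pow_succ, pow_two] at h0
    exact h0
  have hxfix : ∀ D : K.V, x • x • x • D = D := fun D => by
    rw [← mul_smul, ← mul_smul, hx3, one_smul]
  have hrr3 : ∀ P : K.V, x ∈ nb P → rr P x ^ 3 = 1 := fun P hP => by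
    rw [pow_succ, pow_two, ← rr_mul hP hP, ← rr_mul (mul_mem hP hP) hP, hx3, rr_one]
  have hx1 : x ≠ 1 := fun e => by rw [e, orderOf_one] at hxo; omega
  -- at `A` the element `x` is a three-cycle
  have hA1 : rr A x ≠ 1 := fun e => hx1 (eq_one_of_rr h hxA (mem_nb_iff.1 hxB) e)
  set g := rr A x with hg
  set i := idx A B with hi
  have hgi : g i = i := rr_fix_idx h hxA (mem_nb_iff.1 hxB)
  set t := tset A C with ht
  have hit : i ∈ t := side_mem_tset h hC
  have hgt : ∀ p ∈ t, g p ∈ t := by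
    intro p hp
    have := tset_smul_nb hxA C
    rw [mem_nb_iff.1 hxC] at this
    rw [ht, this]
    exact Finset.mem_image_of_mem _ hp
  have hgfix : ∀ p ∈ t, g p = p := by
    intro p hp
    by_contra hpp
    have hpi : p ≠ i := fun e => hpp (e ▸ hgi)
    have h1 : g p ≠ i := fun e => hpi (g.injective (e.trans hgi.symm))
    have h2 : g (g p) ≠ i := fun e => h1 (g.injective (e.trans hgi.symm))
    have h3 : g (g p) ≠ g p := fun e => hpp (g.injective e)
    have ht3 : t.card = 3 := card_tset hco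
    have hgg : g (g p) = p := by
      by_contra h4
      have hsub : ({i, p, g p, g (g p)} : Finset (Fin 7)) ⊆ t := by
        intro q hq
        simp only [Finset.mem_insert, Finset.mem_singleton] at hq
        rcases hq with rfl | rfl | rfl | rfl
        exacts [hit, hp, hgt p hp, hgt _ (hgt p hp)]
      have := Finset.card_le_card hsub
      rw [Finset.card_insert_of_notMem (by simp [hpi.symm, h1.symm, h2.symm]),
        Finset.card_insert_of_notMem (by simp [Ne.symm hpp, Ne.symm h4]),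
        Finset.card_insert_of_notMem (by simp [Ne.symm h3]), Finset.card_singleton, ht3] at this
      omega
    have := congrArg (fun f : Equiv.Perm (Fin 7) => f p) (hrr3 A hxA)
    simp only [← hg, pow_succ, pow_zero, one_mul, Equiv.Perm.mul_apply, Equiv.Perm.one_apply,
      hgg] at this
    exact hpp this
  have hgthree : g.IsThreeCycle := by
    refine (support_order_three hA1 (hrr3 A hxA)).resolve_right fun h6 => ?_
    have hd : Disjoint g.support t := Finset.disjoint_left.2 fun p hp hpt =>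
      Equiv.Perm.mem_support.1 hp (hgfix p hpt)
    have := (g.support ∪ t).card_le_univ
    rw [Finset.card_union_of_disjoint hd, h6, card_tset hco, Fintype.card_fin] at this
    omega
  have hcent : ∀ a ∈ (A : Subgroup G), x * a = a * x → a = 1 := by
    intro a ha hax
    by_contra h1
    exact cent_no_three ha h1 hax hgthree
  -- the map `v ↦ v⁻¹ x v x⁻¹` is onto the four elements fixing `C`
  set W : Subgroup G := (A : Subgroup G) ⊓ nb C with hW
  have hWx : ∀ v ∈ W, x * v * x⁻¹ ∈ W := fun v hv =>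
    ⟨conj_mem_of_fix (mem_nb_iff.1 hxA) hv.1,
      (nb C).mul_mem ((nb C).mul_mem hxC hv.2) ((nb C).inv_mem hxC)⟩
  have hsurj : Function.Surjective
      (fun v : W => (⟨(v : G)⁻¹ * (x * v * x⁻¹), mul_mem (inv_mem v.2) (hWx v v.2)⟩ : W)) := by
    refine Finite.surjective_of_injective fun v w hvw => ?_
    have hvw' : (v : G)⁻¹ * (x * v * x⁻¹) = (w : G)⁻¹ * (x * w * x⁻¹) := congrArg Subtype.val hvw
    have hz : (v : G) * (w : G)⁻¹ ∈ (A : Subgroup G) := mul_mem v.2.1 (inv_mem w.2.1)
    have : x * ((v : G) * (w : G)⁻¹) * x⁻¹ = (v : G) * (w : G)⁻¹ := by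
      have e1 : x * (v : G) * x⁻¹ = (v : G) * ((w : G)⁻¹ * (x * w * x⁻¹)) := by
        rw [← hvw', mul_inv_cancel_left]
      calc x * ((v : G) * (w : G)⁻¹) * x⁻¹ = (x * v * x⁻¹) * (x * w * x⁻¹)⁻¹ := by group
        _ = (v : G) * (w : G)⁻¹ := by rw [e1]; group
    have := hcent _ hz (by
      calc x * ((v : G) * (w : G)⁻¹) = (x * ((v : G) * (w : G)⁻¹) * x⁻¹) * x := by group
        _ = _ := by rw [this])
    exact Subtype.ext (mul_inv_eq_one.1 this)
  have hmove : ∀ w ∈ (A : Subgroup G), w • C ≠ C → x • w • C ≠ w • C := by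
    intro w hw hwC he
    have h1 : w⁻¹ * (x * w * x⁻¹) ∈ W := by
      refine Subgroup.mem_inf.2
        ⟨mul_mem (inv_mem hw) (conj_mem_of_fix (mem_nb_iff.1 hxA) hw), mem_nb_iff.2 ?_⟩
      rw [mul_smul, mul_smul, mul_smul, inv_smul_eq_iff.2 (mem_nb_iff.1 hxC).symm, he,
        inv_smul_smul]
    obtain ⟨⟨v, hv⟩, hv'⟩ := hsurj ⟨_, h1⟩
    have hv'' : v⁻¹ * (x * v * x⁻¹) = w⁻¹ * (x * w * x⁻¹) := congrArg Subtype.val hv'
    have hz : w * v⁻¹ ∈ (A : Subgroup G) := mul_mem hw (inv_mem hv.1)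
    have e1 : x * w * x⁻¹ = w * (v⁻¹ * (x * v * x⁻¹)) := by rw [hv'', mul_inv_cancel_left]
    have e2 : x * (w * v⁻¹) * x⁻¹ = w * v⁻¹ := by
      calc x * (w * v⁻¹) * x⁻¹ = (x * w * x⁻¹) * (x * v * x⁻¹)⁻¹ := by group
        _ = w * v⁻¹ := by rw [e1]; group
    have := hcent _ hz (by
      calc x * (w * v⁻¹) = (x * (w * v⁻¹) * x⁻¹) * x := by group
        _ = _ := by rw [e2])
    rw [mul_inv_eq_one] at this
    exact hwC (this ▸ mem_nb_iff.1 hv.2)
  -- the three others in the orbit
  set O : Set K.V := {E | ∃ w ∈ (A : Subgroup G), w • C = E} with hO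
  have hOcard : O.ncard = 4 := by
    have := orbit_count (A : Subgroup G) C O (fun w hw => ⟨w, hw, rfl⟩) (fun E hE => hE)
    rw [card_self_inf_co hco, card_self] at this
    omega
  set T : Set K.V := O \ {C} with hT
  have hTcard : T.ncard = 3 := by
    rw [hT, Set.ncard_sdiff_singleton_of_mem
      (show C ∈ O from ⟨1, one_mem _, one_smul _ _⟩), hOcard]
  have hTinv : ∀ s ∈ S, ∀ E ∈ T, s • E ∈ T := by
    rintro s ⟨⟨hsA, -⟩, hsC⟩ E ⟨⟨w, hw, rfl⟩, hE⟩
    refine ⟨⟨s * w * s⁻¹, conj_mem_of_fix (mem_nb_iff.1 hsA) hw, ?_⟩, fun he => hE ?_⟩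
    · rw [mul_smul, mul_smul, inv_smul_eq_iff.2 (mem_nb_iff.1 hsC).symm]
    · rw [Set.mem_singleton_iff] at he ⊢
      exact (smul_left_cancel_iff s).1 (he.trans (mem_nb_iff.1 hsC).symm)
  have hxS : x ∈ S := x₀.2
  have hTtrans : ∀ E ∈ T, ∀ E' ∈ T, ∃ s ∈ S, s • E = E' := by
    intro E hE E' hE'
    have hm : ∀ E ∈ T, x • E ≠ E := by
      rintro E ⟨⟨w, hw, rfl⟩, hEC⟩
      exact hmove w hw hEC
    have h1 := hTinv x hxS E hE
    have h2 := hTinv x hxS _ h1
    have e1 : x • E ≠ E := hm E hE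
    have e2 : x • x • E ≠ x • E := hm _ h1
    have e3 : x • x • E ≠ E := fun e => e1 (by
      conv_rhs => rw [← hxfix E]
      rw [e])
    have hsub : ({E, x • E, x • x • E} : Set K.V) ⊆ T := by
      rintro F (rfl | rfl | rfl)
      exacts [hE, h1, h2]
    have h3 : ({E, x • E, x • x • E} : Set K.V).ncard = 3 := by
      rw [Set.ncard_eq_three]
      exact ⟨_, _, _, e1.symm, e3.symm, e2.symm, rfl⟩
    rw [← Set.eq_of_subset_of_ncard_le hsub (by omega)] at hE'
    rcases hE' with rfl | rfl | rfl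
    · exact ⟨1, one_mem _, one_smul _ _⟩
    · exact ⟨x, hxS, rfl⟩
    · exact ⟨x * x, mul_mem hxS hxS, mul_smul x x E⟩
  -- at `B` the element `x` moves the six other labels
  set j := idx B A with hj
  have hBA : Fr B A := fr_symm h
  have hxb : x * b = b * x := by
    have h1 : b⁻¹ * (x * b * x⁻¹) ∈ (B : Subgroup G) :=
      mul_mem (inv_mem hb) (conj_mem_of_fix (mem_nb_iff.1 hxB) hb)
    have h2 := hBA _ h1 (by
      rw [mul_smul, mul_smul, mul_smul, inv_smul_eq_iff.2 (mem_nb_iff.1 hxA).symm, hbA,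
        mem_nb_iff.1 hxC, ← hbA, inv_smul_smul])
    rw [inv_mul_eq_one] at h2
    calc x * b = (x * b * x⁻¹) * x := by group
      _ = b * x := by rw [← h2]
  have hB1 : rr B x ≠ 1 := fun e => hx1 (eq_one_of_rr hBA hxB (mem_nb_iff.1 hxA) e)
  have hsix : (rr B x).support.card = 6 :=
    (support_order_three hB1 (hrr3 B hxB)).resolve_left (cent_no_three hb hb1 hxb)
  have hSfix : ∀ s ∈ S, rr B s j = j := fun s hs =>
    rr_fix_idx hBA hs.1.2 (mem_nb_iff.1 hs.1.1)
  set f : S →* Equiv.Perm (Fin 7) :=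
    (K.sv B).ρ.comp (Subgroup.inclusion (inf_le_left.trans inf_le_right : S ≤ nb B)) with hf
  have hfr : ∀ s : S, f s = rr B (s : G) := fun s => (rr_eq s.2.1.2).symm
  have hfinj : Function.Injective f := by
    rw [injective_iff_map_eq_one]
    intro s hs
    rw [hfr] at hs
    exact Subtype.ext (eq_one_of_rr hBA s.2.1.2 (mem_nb_iff.1 s.2.1.1) hs)
  have htrans6 : ∀ p q, p ≠ j → q ≠ j → ∃ s ∈ S, rr B s p = q := by
    intro p q hp hq
    obtain ⟨σ, ⟨s, rfl⟩, hσ⟩ := six_transitive (J := f.range) j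
      (by rintro σ ⟨s, rfl⟩; rw [hfr]; exact hSfix s s.2)
      (by rw [← hScard]; exact (Nat.card_congr (MonoidHom.ofInjective hfinj).toEquiv).symm)
      (g := rr B x) ⟨⟨x, hxS⟩, hfr _⟩ hB1 (hrr3 B hxB) hsix p q hp hq
    rw [hfr] at hσ
    exact ⟨s, s.2, hσ⟩
  have hincid : ∀ (F : K.V → Finset (Fin 7)) (c : ℕ), (∀ E ∈ T, (F E).card = c) →
      (∀ E ∈ T, j ∉ F E) → (∀ s ∈ S, ∀ E ∈ T, F (s • E) = (F E).image (rr B s)) → 2 ∣ c := by
    intro F c hFc hFj hFs
    have := Fintype.ofFinite K.V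
    have hN : ∀ p, p ≠ j → ∀ q, q ≠ j →
        (T.toFinset.filter (fun E => p ∈ F E)).card ≤
          (T.toFinset.filter (fun E => q ∈ F E)).card := by
      intro p hp q hq
      obtain ⟨s, hs, hspq⟩ := htrans6 p q hp hq
      refine Finset.card_le_card_of_injOn (s • ·) (fun E hE => ?_) (MulAction.injective s).injOn
      simp only [Finset.coe_filter, Set.mem_toFinset, Set.mem_ofPred_eq] at hE ⊢
      refine ⟨hTinv s hs E hE.1, ?_⟩
      rw [hFs s hs E hE.1, ← hspq]
      exact Finset.mem_image_of_mem _ hE.2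
    have hdc := Finset.sum_card_bipartiteAbove_eq_sum_card_bipartiteBelow
      (r := fun E p => p ∈ F E) (s := T.toFinset) (t := Finset.univ.erase j)
    have hl : ∑ E ∈ T.toFinset, (Finset.bipartiteAbove (fun E p => p ∈ F E)
        (Finset.univ.erase j) E).card = T.toFinset.card * c := by
      rw [← smul_eq_mul, ← Finset.sum_const]
      refine Finset.sum_congr rfl fun E hE => ?_
      rw [Set.mem_toFinset] at hE
      rw [← hFc E hE]
      congr 1
      ext p
      simp only [Finset.mem_bipartiteAbove, Finset.mem_erase, Finset.mem_univ, and_true]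
      exact ⟨fun hp => hp.2, fun hp => ⟨fun e => hFj E hE (e ▸ hp), hp⟩⟩
    obtain ⟨p, hp⟩ : ∃ p : Fin 7, p ≠ j := exists_ne j
    have hr : ∑ q ∈ Finset.univ.erase j, (Finset.bipartiteBelow (fun E p => p ∈ F E)
        T.toFinset q).card = 6 * (T.toFinset.filter (fun E => p ∈ F E)).card := by
      rw [show (6 : ℕ) = (Finset.univ.erase j).card by simp, ← smul_eq_mul, ← Finset.sum_const]
      refine Finset.sum_congr rfl fun q hq => ?_
      have hq' : q ≠ j := (Finset.mem_erase.1 hq).1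
      exact le_antisymm (hN q hq' p hp) (hN p hp q hq')
    rw [hl, hr, ← Set.ncard_eq_toFinset_card', hTcard] at hdc
    omega
  -- conclusion
  have hDT : u • C ∈ T := ⟨⟨u, hu, rfl⟩, hne⟩
  set D := u • C with hD
  have hDco : Co A D := by
    have := (co_smul_iff u).2 hco
    rwa [smul_eq_self_of_mem hu] at this
  have hDB : D ≠ B := fun e => hDco.2 (e ▸ h)
  have hSB : ∀ s ∈ S, s • B = B := fun s hs => mem_nb_iff.1 hs.1.2
  by_cases hDf : Fr B D
  · exfalso
    by_cases hk : idx B D = j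
    · have hDs : D ∈ side A B := by rw [side_eq h]; exact ⟨⟨hDf, hk⟩, hDco.1⟩
      exact hne (side_tset_inj h hDs hC (tset_smul_mem hu C))
    have hTf : ∀ E ∈ T, Fr B E ∧ idx B E ≠ j := by
      intro E hE
      obtain ⟨s, hs, rfl⟩ := hTtrans D hDT E hE
      have hsf := fr_smul s hDf
      rw [hSB s hs] at hsf
      refine ⟨hsf, ?_⟩
      rw [idx_smul hs.1.2 hDf]
      intro e
      exact hk ((rr B s).injective (e.trans (hSfix s hs).symm))
    have := hincid (fun E => {idx B E}) 1 (fun E _ => Finset.card_singleton _)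
      (fun E hE => by simpa using (hTf E hE).2.symm)
      (fun s hs E hE => by rw [Finset.image_singleton, idx_smul hs.1.2 (hTf E hE).1])
    norm_num at this
  · refine ⟨⟨hDB, hDf⟩, ?_⟩
    by_contra hk
    have hTc : ∀ E ∈ T, Co B E ∧ j ∉ tset B E := by
      intro E hE
      obtain ⟨s, hs, rfl⟩ := hTtrans D hDT E hE
      have hsc := (co_smul_iff s).2 (show Co B D from ⟨hDB, hDf⟩)
      rw [hSB s hs] at hsc
      refine ⟨hsc, ?_⟩
      rw [tset_smul_nb hs.1.2, ← hSfix s hs, (rr B s).injective.mem_finset_image]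
      exact hk
    have := hincid (tset B) 3 (fun E hE => card_tset (hTc E hE).1) (fun E hE => (hTc E hE).2)
      (fun s hs E _ => tset_smul_nb hs.1.2 E)
    norm_num at this

theorem side_mem_star {A B C : K.V} (h : Fr A B) (hC : C ∈ side A B) :
    C ∈ star A (idx A B) :=
  mem_star.2 (Or.inr (Or.inr ⟨side_co h hC, side_mem_tset h hC⟩))

theorem star_subset {A B : K.V} (h : Fr A B) : star B (idx B A) ⊆ star A (idx A B) := by
  intro D hD
  rcases mem_star.1 hD with rfl | hD | hD
  · exact mem_star.2 (Or.inr (Or.inl ⟨h, rfl⟩))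
  · by_cases hA : D = A
    · exact mem_star.2 (Or.inl hA)
    · exact side_mem_star h (by rw [side_eq h]; exact ⟨hD, hA⟩)
  · obtain ⟨C, hC, v, hv, rfl⟩ := zset_cover (fr_symm h) hD
    by_cases he : v • C = C
    · rw [he]
      rw [side_eq (fr_symm h)] at hC
      exact mem_star.2 (Or.inr (Or.inl hC.1))
    · exact mem_star.2 (Or.inr (Or.inr (key_mem (fr_symm h) hC hv he)))

theorem star_eq {A B : K.V} (h : Fr A B) : star A (idx A B) = star B (idx B A) :=
  Set.Subset.antisymm (star_subset (fr_symm h)) (star_subset h)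

end Ctx

end Cfsg.Agent.Lib.M23Nse5
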