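import Cfsg.Agent.Lib.M23Nse5.Facts
import Cfsg.Agent.Lib.M23Nse.Hist

/-!
The counting hypothesis for the Mathieu group of degree 23 gives the facts used by the identification.
-/

set_option autoImplicit false

namespace Cfsg.Agent.Lib.M23Nse5

universe u

/-- The order and the set of the numbers of elements of each order determine the counts. -/
theorem facts_of_counts {G : Type u} [Group G] [Finite G] (hG : Nat.card G = 10200960)
    (hmem : ∀ n, 0 < Nat.card {g : G // orderOf g = n} → Nat.card {g : G // orderOf g = n} ∈
      [1, 3795, 56672, 318780, 680064, 850080, 1275120, 1360128, 1457280, 1854720, 887040])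
    (hex : ∀ c ∈ [1, 3795, 56672, 318780, 680064, 850080, 1275120, 1360128, 1457280, 1854720,
      887040], ∃ n, c = Nat.card {g : G // orderOf g = n}) : Facts G := by
  have hmem' : ∀ n, 0 < M22Nse57.Hist.cnt G n → M22Nse57.Hist.cnt G n ∈ M23Nse.Hist.vals := by
    intro n hn
    have h := hmem n hn
    simp only [M23Nse.Hist.vals, M22Nse57.Hist.cnt, List.mem_cons, List.not_mem_nil, or_false,
      Finset.mem_insert, Finset.mem_singleton] at h ⊢
    omega
  have hex' : ∀ v ∈ M23Nse.Hist.vals, ∃ n, M22Nse57.Hist.cnt G n = v := by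
    intro v hv
    obtain ⟨n, hn⟩ := hex v (by
      simp only [M23Nse.Hist.vals, List.mem_cons, List.not_mem_nil, or_false,
        Finset.mem_insert, Finset.mem_singleton] at hv ⊢
      omega)
    exact ⟨n, hn.symm⟩
  obtain ⟨h6, h48⟩ := M23Nse.Hist.exists_rest hG hmem' hex'
  simp only [M22Nse57.Hist.cnt] at h6 h48
  exact
    { card := hG
      ord_mem := M23Nse.Hist.ord_mem hG hmem' hex'
      c2 := M23Nse.Hist.cnt_two hex'
      c3 := M23Nse.Hist.cnt_three hG hmem' hex'
      c4 := by
        simp only [Finset.mem_insert, Finset.mem_singleton]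
        omega
      c5 := M23Nse.Hist.cnt_five hG hmem' hex'
      c6 := by
        simp only [Finset.mem_insert, Finset.mem_singleton]
        omega
      c7 := M23Nse.Hist.cnt_seven hG hmem' hex'
      c4ne6 := by omega
      c15 := M23Nse.Hist.cnt_fifteen hG hmem' hex' }

end Cfsg.Agent.Lib.M23Nse5
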