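/-
A group of order 1344 with trivial two-core, no proper subgroup of index at most seven and no
element of order three centralized by a four-group or a cyclic four does not exist.
-/
import Mathlib
import Cfsg.Agent.Lib.SmallGroups.Intersection

set_option autoImplicit false
set_option linter.unusedSectionVars false
set_option linter.style.haveILetI false

namespace Cfsg.Agent.Lib.M23Nse5.Inv41

open Subgroup MulAction
open Cfsg.Agent.Lib.SmallGroups

universe u

/-- A map of period three on a finite type fixes a congruent number of points. -/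
theorem mod_three {α : Type u} [Finite α] (f : α → α) (h3 : ∀ a, f (f (f a)) = a) :
    Nat.card α % 3 = Nat.card (Function.fixedPoints f) % 3 := by
  classical
  haveI := Fintype.ofFinite α
  haveI : Fact (Nat.Prime 3) := ⟨Nat.prime_three⟩
  let g : Function.End α := f
  have hf : g ^ 3 ^ 1 = 1 := by funext a; exact h3 a
  rw [Nat.card_eq_fintype_card, Nat.card_eq_fintype_card]
  exact Equiv.Perm.card_fixedPoints_modEq (f := g) (p := 3) (n := 1) hf

/-- A group of order sixteen with a fixed-point-free automorphism of order three is abelian. -/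
theorem comm_of_fpf {D : Type u} [Group D] [Finite D] (hD : Nat.card D = 16) (φ : D ≃* D)
    (h3 : ∀ a, φ (φ (φ a)) = a) (hfix : ∀ a, φ a = a → a = 1) : ∀ a b : D, a * b = b * a := by
  haveI : Fact (Nat.Prime 2) := ⟨Nat.prime_two⟩
  by_contra hne
  push Not at hne
  obtain ⟨a0, b0, hab0⟩ := hne
  set Z := center D with hZ
  have hinvset : ∀ (s : Set D), (∀ a ∈ s, φ a ∈ s) → (∀ a ∈ s, a ≠ 1) → 3 ∣ Nat.card s := by
    intro s hs hs1
    have h := mod_three (fun a : s => (⟨φ a, hs _ a.2⟩ : s)) (fun a => Subtype.ext (h3 a))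
    have h0 : IsEmpty (Function.fixedPoints fun a : s => (⟨φ a, hs _ a.2⟩ : s)) :=
      ⟨fun a => hs1 _ a.1.2 (hfix _ (congrArg Subtype.val a.2))⟩
    rw [Nat.card_of_isEmpty (α := Function.fixedPoints fun a : s => (⟨φ a, hs _ a.2⟩ : s))] at h
    exact Nat.dvd_of_mod_eq_zero (by simpa using h)
  have hZφ : ∀ z ∈ Z, φ z ∈ Z := fun z hz => mem_center_iff.mpr fun g => by
    obtain ⟨g, rfl⟩ := φ.surjective g
    rw [← map_mul, ← map_mul, mem_center_iff.mp hz g]
  have hZ4 : Nat.card Z = 4 := by
    have hp : IsPGroup 2 D := IsPGroup.of_card (n := 4) (by rw [hD]; norm_num)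
    haveI : Nontrivial D := Finite.one_lt_card_iff_nontrivial.mp (by rw [hD]; norm_num)
    haveI := hp.center_nontrivial
    have h1 : 1 < Nat.card Z := Finite.one_lt_card
    have hd : Nat.card Z ∣ 2 ^ 4 := by
      have := card_subgroup_dvd_card Z
      rw [hD] at this; simpa using this
    have hlt : Nat.card Z ≠ 16 := fun h => hab0 (by
      have : Z = ⊤ := Subgroup.eq_top_of_card_eq _ (h.trans hD.symm)
      exact (mem_center_iff.mp (hZ ▸ this ▸ mem_top b0) a0))
    have h3Z := hinvset ((Z : Set D) \ {1}) (fun a ha => ⟨hZφ a ha.1, fun h => ha.2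
      (φ.map_eq_one_iff.mp h)⟩) (fun a ha => ha.2)
    have hc : Nat.card ((Z : Set D) \ {1} : Set D) = Nat.card Z - 1 := by
      rw [Nat.card_coe_set_eq, Set.ncard_sdiff_singleton_of_mem (one_mem Z), ← Nat.card_coe_set_eq]
      rfl
    rw [hc] at h3Z
    obtain ⟨j, hj, hj'⟩ := (Nat.dvd_prime_pow Nat.prime_two).mp hd
    rw [hj'] at h1 hlt h3Z ⊢
    interval_cases j <;> omega
  -- centralizers of non-central elements
  have hcent : ∀ a : D, a ∉ Z → (centralizer ({a} : Set D)).index = 2 ∧
      Nat.card (centralizer ({a} : Set D)) = 8 := by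
    intro a ha
    set K := centralizer ({a} : Set D) with hK
    have hle : Z ≤ K := center_le_centralizer _
    have hlt : Nat.card Z < Nat.card K := lt_of_le_of_ne (card_le_of_le hle) fun h => ha
      ((Subgroup.eq_of_le_of_card_ge hle h.ge).symm ▸ mem_centralizer_singleton_iff.mpr rfl)
    have hne : Nat.card K ≠ 16 := fun h => ha (mem_center_iff.mpr fun g => by
      have hg : g ∈ K := Subgroup.eq_top_of_card_eq K (h.trans hD.symm) ▸ mem_top g
      exact mem_centralizer_singleton_iff.mp hg)
    have hd : Nat.card K ∣ 2 ^ 4 := by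
      have := card_subgroup_dvd_card K
      rw [hD] at this; simpa using this
    obtain ⟨j, hj, hj'⟩ := (Nat.dvd_prime_pow Nat.prime_two).mp hd
    have hm := K.card_mul_index
    rw [hD] at hm
    rw [hZ4] at hlt
    rw [hj'] at hlt hne hm ⊢
    interval_cases j <;> exact ⟨by omega, by omega⟩
  obtain ⟨a, haZ⟩ : ∃ a : D, a ∉ Z := ⟨a0, fun h => hab0 (mem_center_iff.mp h b0).symm⟩
  set b := φ a with hb
  have hbZ : b ∉ Z := fun h => haZ (by
    have := hZφ _ (hZφ _ h)
    rwa [hb, h3] at this)
  have hnab : b ∉ centralizer ({a} : Set D) := by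
    intro hba
    obtain ⟨hi, hc⟩ := hcent a haZ
    set K := centralizer ({a} : Set D) with hK
    -- `K` is abelian
    have hKab : K ≤ centralizer (K : Set D) := by
      have hsup : Z ⊔ zpowers a ≤ centralizer (K : Set D) ⊓ K := by
        refine sup_le (le_inf (center_le_centralizer _) (center_le_centralizer _))
          (zpowers_le.mpr ⟨mem_centralizer_iff.mpr fun g hg => mem_centralizer_singleton_iff.mp hg,
            mem_centralizer_singleton_iff.mpr rfl⟩)
      have h4 : 4 < Nat.card (Z ⊔ zpowers a : Subgroup D) := by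
        rw [← hZ4]
        exact lt_of_le_of_ne (card_le_of_le le_sup_left) fun h => haZ
          ((Subgroup.eq_of_le_of_card_ge le_sup_left h.ge).symm ▸
            le_sup_right (a := Z) (mem_zpowers a))
      have heq : Z ⊔ zpowers a = K := by
        refine Subgroup.eq_of_le_of_card_ge (hsup.trans inf_le_right) ?_
        have hd := card_dvd_of_le (hsup.trans inf_le_right)
        rw [hc, show (8 : ℕ) = 2 ^ 3 from rfl] at hd ⊢
        obtain ⟨j, hj, hj'⟩ := (Nat.dvd_prime_pow Nat.prime_two).mp hd
        rw [hj'] at h4 ⊢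
        interval_cases j <;> omega
      intro k hk
      exact (hsup (heq.symm ▸ hk)).1
    have hle : K ≤ centralizer ({b} : Set D) := fun k hk =>
      mem_centralizer_singleton_iff.mpr (mem_centralizer_iff.mp (hKab hk) b hba).symm
    have heq := Subgroup.eq_of_le_of_card_ge hle (by rw [hc, (hcent b hbZ).2])
    have h := hinvset ((K : Set D) \ (Z : Set D)) (fun c hc' => ⟨by
        change φ c ∈ K
        rw [heq, mem_centralizer_singleton_iff, hb, ← map_mul, ← map_mul,
          mem_centralizer_singleton_iff.mp hc'.1],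
      fun h => hc'.2 (by
        have := hZφ _ (hZφ _ h)
        rwa [h3] at this)⟩) (fun c hc' h => hc'.2 (h ▸ one_mem Z))
    rw [Nat.card_coe_set_eq, Set.ncard_sdiff (show (Z : Set D) ⊆ K from center_le_centralizer _),
      ← Nat.card_coe_set_eq, ← Nat.card_coe_set_eq] at h
    change 3 ∣ Nat.card K - Nat.card Z at h
    rw [hc, hZ4] at h
    norm_num at h
  have hconst : ∀ u : D, u ∉ Z → ∀ c d : D, c ∉ centralizer ({u} : Set D) →
      d ∉ centralizer ({u} : Set D) → c * u * c⁻¹ = d * u * d⁻¹ := by
    intro u hu c d hc hd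
    have hm : c⁻¹ * d ∈ centralizer ({u} : Set D) := by
      rw [Subgroup.mul_mem_iff_of_index_two (hcent u hu).1]
      simp [hc, hd]
    have := mem_centralizer_singleton_iff.mp hm
    calc c * u * c⁻¹ = c * (u * (c⁻¹ * d)) * d⁻¹ := by group
      _ = c * ((c⁻¹ * d) * u) * d⁻¹ := by rw [this]
      _ = d * u * d⁻¹ := by group
  set k := b * a * b⁻¹ * a⁻¹ with hk
  have hanb : a ∉ centralizer ({b} : Set D) := fun h => hnab
    (mem_centralizer_singleton_iff.mpr (mem_centralizer_singleton_iff.mp h).symm)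
  have hbb : φ b ∉ centralizer ({b} : Set D) := fun h => hnab (by
    rw [mem_centralizer_singleton_iff] at h ⊢
    apply φ.injective
    rw [map_mul, map_mul, ← hb]
    exact h)
  have hk1 : φ k = k⁻¹ := by
    rw [hk, map_mul, map_mul, map_mul, map_inv, map_inv, ← hb, hconst b hbZ _ a hbb hanb]
    group
  have hkk : k = k⁻¹ := by
    conv_lhs => rw [← h3 k, hk1, map_inv, hk1, inv_inv, hk1]
  have := hfix k (hk1.trans hkk.symm)
  rw [hk, mul_inv_eq_one, mul_inv_eq_iff_eq_mul] at this
  exact hnab (mem_centralizer_singleton_iff.mpr this)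

variable {H : Type u} [Group H] [Finite H]

/-- Elements permuting a set under conjugation. -/
theorem conj_mod_three (x : H) (hx : orderOf x = 3) (D : Subgroup H)
    (hn : x ∈ normalizer (D : Set H)) :
    Nat.card D % 3 = Nat.card (D ⊓ centralizer ({x} : Set H) : Subgroup H) % 3 := by
  have h3 : x ^ 3 = 1 := by rw [← hx]; exact pow_orderOf_eq_one x
  rw [pow_succ, pow_succ, pow_one] at h3
  rw [mod_three (fun a : D => (⟨x * a * x⁻¹, (mem_normalizer_iff.mp hn _).mp a.2⟩ : D))
    (fun a => Subtype.ext (by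
      calc x * (x * (x * (a : H) * x⁻¹) * x⁻¹) * x⁻¹
          = (x * x * x) * a * (x * x * x)⁻¹ := by group
        _ = a := by rw [h3]; group))]
  congr 1
  exact Nat.card_congr
    { toFun := fun a => ⟨a.1.1, a.1.2, mem_centralizer_singleton_iff.mpr
        (mul_inv_eq_iff_eq_mul.mp (congrArg Subtype.val a.2)).symm⟩
      invFun := fun a => ⟨⟨a.1, a.2.1⟩, Subtype.ext
        (mul_inv_eq_iff_eq_mul.mpr (mem_centralizer_singleton_iff.mp a.2.2).symm)⟩
      left_inv := fun a => rfl
      right_inv := fun a => rfl }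

/-- The nonexistence statement. -/
theorem no_group_1344 (hH : Nat.card H = 1344)
    (hO : ∀ N : Subgroup H, N.Normal → IsPGroup 2 N → N = ⊥)
    (hidx : ∀ M : Subgroup H, M ≠ ⊤ → 7 < M.index)
    (hC : ∀ x : H, orderOf x = 3 → ¬ 4 ∣ Nat.card (centralizer ({x} : Set H))) : False := by
  haveI h2 : Fact (Nat.Prime 2) := ⟨Nat.prime_two⟩
  haveI h3' : Fact (Nat.Prime 3) := ⟨Nat.prime_three⟩
  have hS : ∀ S : Sylow 2 H, Nat.card (S : Subgroup H) = 64 := by
    intro S
    obtain ⟨k, hk⟩ := S.2.exists_card_eq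
    have hd := card_subgroup_dvd_card (S : Subgroup H)
    have hm := (S : Subgroup H).card_mul_index
    have hn : ¬ 2 ∣ (S : Subgroup H).index := S.not_dvd_index
    rw [hk, hH] at hd hm
    rw [hk]
    have hk6 : k ≤ 6 := by
      by_contra hlt
      have := (pow_dvd_pow 2 (show 7 ≤ k by omega)).trans hd
      norm_num at this
    interval_cases k <;> omega
  have hne : ∀ D : Subgroup H, IsPGroup 2 D → D ≠ ⊥ → normalizer (D : Set H) ≠ ⊤ := by
    intro D hp hb h
    exact hb (hO D (normalizer_eq_top_iff.mp h) hp)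
  -- twenty-one Sylow two-subgroups
  obtain ⟨S⟩ : Nonempty (Sylow 2 H) := inferInstance
  have hn21 : Nat.card (Sylow 2 H) = 21 := by
    have hd : Nat.card (Sylow 2 H) ∣ 21 := by
      have := S.card_dvd_index
      have hm := (S : Subgroup H).card_mul_index
      rw [hS, hH] at hm
      rwa [show (S : Subgroup H).index = 21 by omega] at this
    have hgt : 7 < Nat.card (Sylow 2 H) := by
      rw [S.card_eq_index_normalizer, ← Sylow.coe_coe]
      refine hidx _ (hne _ S.2 fun h => ?_)
      have := hS S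
      rw [h, Subgroup.card_bot] at this
      norm_num at this
    have := Nat.le_of_dvd (by norm_num) hd
    interval_cases hv : Nat.card (Sylow 2 H) <;> omega
  -- subgroups of order divisible by sixty-four
  have h64 : ∀ M : Subgroup H, M ≠ ⊤ → 64 ∣ Nat.card M → Nat.card M = 64 := by
    intro M hM hd
    have hm := M.card_mul_index
    rw [hH] at hm
    have := hidx M hM
    obtain ⟨e, he⟩ := hd
    rw [he] at hm ⊢
    have he21 : e * M.index = 21 := by rw [mul_assoc] at hm; omega
    have hi : M.index ∣ 21 := Dvd.intro_left _ he21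
    have := Nat.le_of_dvd (by norm_num) hi
    interval_cases hv : M.index <;> omega
  have hlt : ∀ (P : Sylow 2 H) (D : Subgroup H), D ≤ (P : Subgroup H) →
      Nat.card D < Nat.card (P : Subgroup H) →
      Nat.card D < Nat.card ((P : Subgroup H) ⊓ normalizer (D : Set H) : Subgroup H) := by
    intro P D hle hc
    have h := lt_inf_normalizer P hle (fun h => by rw [h] at hc; exact lt_irrefl _ hc)
    exact lt_of_le_of_ne (card_le_of_le h.le) fun e =>
      h.ne (Subgroup.eq_of_le_of_card_ge h.le e.ge)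
  -- no intersection of index two
  have h32 : ∀ P R : Sylow 2 H, P ≠ R →
      Nat.card ((P : Subgroup H) ⊓ (R : Subgroup H) : Subgroup H) < 32 := by
    intro P R hPR
    by_contra hge
    push Not at hge
    set D := (P : Subgroup H) ⊓ (R : Subgroup H) with hD
    have hc : Nat.card D < 64 := by
      refine lt_of_le_of_ne (hS P ▸ card_le_of_le (inf_le_left : D ≤ _)) fun e => hPR ?_
      have e1 := Subgroup.eq_of_le_of_card_ge (inf_le_left : D ≤ (P : Subgroup H)) (by rw [e, hS])
      have e2 := Subgroup.eq_of_le_of_card_ge (inf_le_right : D ≤ (R : Subgroup H)) (by rw [e, hS])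
      exact Sylow.ext (e1.symm.trans e2)
    have hN : normalizer (D : Set H) ≠ ⊤ := hne D (P.2.to_le inf_le_left) fun h => by
      rw [h, Subgroup.card_bot] at hge; omega
    have key : ∀ T : Sylow 2 H, D ≤ (T : Subgroup H) →
        (T : Subgroup H) ≤ normalizer (D : Set H) := by
      intro T hT
      have h1 := hlt T D hT (by rw [hS]; omega)
      have hd := card_dvd_of_le (inf_le_left : (T : Subgroup H) ⊓ normalizer (D : Set H) ≤ _)
      rw [hS, show (64 : ℕ) = 2 ^ 6 from rfl] at hd
      obtain ⟨j, hj, hj'⟩ := (Nat.dvd_prime_pow Nat.prime_two).mp hd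
      rw [hj'] at h1
      have hj6 : j = 6 := by interval_cases j <;> omega
      exact inf_eq_left.mp (Subgroup.eq_of_le_of_card_ge inf_le_left (by rw [hS, hj', hj6]; norm_num))
    have hP := key P inf_le_left
    have hR := key R inf_le_right
    have hc64 := h64 _ hN (hS P ▸ card_dvd_of_le hP)
    have e1 := Subgroup.eq_of_le_of_card_ge hP (by rw [hc64, hS])
    have e2 := Subgroup.eq_of_le_of_card_ge hR (by rw [hc64, hS])
    exact hPR (Sylow.ext (e1.trans e2.symm))
  -- an intersection of index four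
  obtain ⟨P, R, hPR, hle4⟩ := exists_inter_index_le (G := H) 2 3 (by rw [hn21]; decide)
  set D := (P : Subgroup H) ⊓ (R : Subgroup H) with hDdef
  have hD : Nat.card D = 16 := by
    have hm := ((R : Subgroup H).subgroupOf (P : Subgroup H)).card_mul_index
    rw [hS] at hm
    have e : Nat.card ((R : Subgroup H).subgroupOf (P : Subgroup H)) = Nat.card D := by
      rw [← inf_subgroupOf_left, ← hDdef]
      exact Nat.card_congr (subgroupOfEquivOfLe inf_le_left).toEquiv
    rw [e] at hm
    have h := h32 P R hPR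
    rw [← hDdef] at h
    norm_num at hle4
    interval_cases hv : ((R : Subgroup H).subgroupOf (P : Subgroup H)).index <;> omega
  set N := normalizer (D : Set H) with hN
  have hNtop : N ≠ ⊤ := hne D (P.2.to_le inf_le_left) fun h => by
    rw [h, Subgroup.card_bot] at hD; norm_num at hD
  set U := (P : Subgroup H) ⊓ N with hU
  set W := (R : Subgroup H) ⊓ N with hW
  have hNne64 : ∀ T : Sylow 2 H, (T : Subgroup H) ≤ N → False := by
    intro T hT
    have hc := h64 N hNtop (hS T ▸ card_dvd_of_le hT)
    have eT := Subgroup.eq_of_le_of_card_ge hT (by rw [hc, hS])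
    have key : ∀ Q : Sylow 2 H, D ≤ (Q : Subgroup H) → Q = T := by
      intro Q hQ
      by_contra hne'
      have h1 := hlt Q D hQ (by rw [hS, hD]; norm_num)
      have hd := card_dvd_of_le (inf_le_left : (Q : Subgroup H) ⊓ N ≤ _)
      rw [hS, show (64 : ℕ) = 2 ^ 6 from rfl] at hd
      obtain ⟨j, hj, hj'⟩ := (Nat.dvd_prime_pow Nat.prime_two).mp hd
      rw [← hN, hj', hD] at h1
      have hlt32 := h32 Q T hne'
      rw [eT, hj'] at hlt32
      interval_cases j <;> omega
    exact hPR ((key P inf_le_left).trans (key R inf_le_right).symm)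
  have hcard : ∀ Q : Sylow 2 H, D ≤ (Q : Subgroup H) →
      Nat.card ((Q : Subgroup H) ⊓ N : Subgroup H) = 32 := by
    intro Q hQ
    have h1 := hlt Q D hQ (by rw [hS, hD]; norm_num)
    have hd := card_dvd_of_le (inf_le_left : (Q : Subgroup H) ⊓ N ≤ _)
    rw [hS, show (64 : ℕ) = 2 ^ 6 from rfl] at hd
    obtain ⟨j, hj, hj'⟩ := (Nat.dvd_prime_pow Nat.prime_two).mp hd
    rw [← hN, hj', hD] at h1
    rw [hj']
    interval_cases j <;> try omega
    exact absurd (inf_eq_left.mp (Subgroup.eq_of_le_of_card_ge inf_le_left (by rw [hS, hj']; norm_num)))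
      (hNne64 Q)
  have hUc : Nat.card U = 32 := hcard P inf_le_left
  have hWc : Nat.card W = 32 := hcard R inf_le_right
  have hUW : U ≠ W := by
    intro h
    have h1 : Nat.card U ≤ Nat.card D :=
      card_le_of_le (le_inf inf_le_left (h.le.trans inf_le_left))
    omega
  have hNc : Nat.card N = 96 := by
    have hm := N.card_mul_index
    rw [hH] at hm
    have hi := hidx N hNtop
    obtain ⟨e, he⟩ : 32 ∣ Nat.card N := hUc ▸ card_dvd_of_le inf_le_right
    rw [he] at hm ⊢
    have he42 : e * N.index = 42 := by rw [mul_assoc] at hm; omega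
    have he5 : e ≤ 5 := by
      by_contra hgt
      have : 6 * 8 ≤ e * N.index := Nat.mul_le_mul (by omega) (by omega)
      omega
    interval_cases e
    · omega
    · exact absurd ((Subgroup.eq_of_le_of_card_ge (inf_le_right : U ≤ N) (by rw [hUc, he])).trans
        (Subgroup.eq_of_le_of_card_ge (inf_le_right : W ≤ N) (by rw [hWc, he])).symm) hUW
    · exfalso
      obtain ⟨T, hT⟩ := (IsPGroup.of_card (p := 2) (n := 6)
        (show Nat.card N = 2 ^ 6 by rw [he]; norm_num)).exists_le_sylow
      exact hNne64 T (Subgroup.eq_of_le_of_card_ge hT (by rw [hS, he])).ge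
    all_goals omega
  obtain ⟨x, hx⟩ := exists_prime_orderOf_dvd_card' (G := N) 3 (by rw [hNc]; norm_num)
  have hx' : orderOf (x : H) = 3 := by rw [← hx, Subgroup.orderOf_coe]
  have hfix : ∀ a ∈ D, (x : H) * a = a * x → a = 1 := by
    intro a ha hc
    set K := D ⊓ centralizer ({(x : H)} : Set H) with hK
    have hd : Nat.card K ∣ 2 ^ 4 := by
      have := card_dvd_of_le (inf_le_left : K ≤ D); rwa [hD] at this
    obtain ⟨j, hj, hj'⟩ := (Nat.dvd_prime_pow Nat.prime_two).mp hd
    have hm := conj_mod_three (x : H) hx' D x.2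
    rw [hD, ← hK, hj'] at hm
    have hj1 : j ≤ 1 := by
      by_contra hgt
      exact hC _ hx' (((show 4 ∣ 2 ^ j from pow_dvd_pow 2 (show 2 ≤ j by omega)).trans
        hj'.symm.dvd).trans (card_dvd_of_le inf_le_right))
    have hK1 : K = ⊥ := by
      rw [← Subgroup.card_eq_one, hj']
      interval_cases j <;> simp_all
    have : a ∈ K := ⟨ha, mem_centralizer_singleton_iff.mpr hc.symm⟩
    rw [hK1, mem_bot] at this
    exact this
  have h3 : (x : H) ^ 3 = 1 := by rw [← hx']; exact pow_orderOf_eq_one _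
  have hDc : ∀ a ∈ D, ∀ b ∈ D, a * b = b * a := by
    let φ : D ≃* D :=
      { toFun := fun a => ⟨(x : H) * a * (x : H)⁻¹, (mem_normalizer_iff.mp x.2 _).mp a.2⟩
        invFun := fun a => ⟨(x : H)⁻¹ * a * x, (mem_normalizer_iff''.mp x.2 _).mp a.2⟩
        left_inv := fun a => Subtype.ext (by simp [mul_assoc])
        right_inv := fun a => Subtype.ext (by simp [mul_assoc])
        map_mul' := fun a b => Subtype.ext (by simp [mul_assoc]) }
    have h := comm_of_fpf hD φ (fun a => Subtype.ext (by
        change (x : H) * ((x : H) * ((x : H) * a * (x : H)⁻¹) * (x : H)⁻¹) * (x : H)⁻¹ = a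
        calc (x : H) * ((x : H) * ((x : H) * a * (x : H)⁻¹) * (x : H)⁻¹) * (x : H)⁻¹
            = ((x : H) * x * x) * a * ((x : H) * x * x)⁻¹ := by group
          _ = a := by
            rw [show (x : H) * x * x = 1 by rw [← h3, pow_succ, pow_succ, pow_one]]; group))
      (fun a ha => Subtype.ext (hfix a a.2 (mul_inv_eq_iff_eq_mul.mp (congrArg Subtype.val ha))))
    exact fun a ha b hb => congrArg Subtype.val (h ⟨a, ha⟩ ⟨b, hb⟩)
  obtain ⟨p, hp, hpU⟩ : ∃ p ∈ (P : Subgroup H), p ∉ U := by
    by_contra hc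
    push Not at hc
    have := card_le_of_le (show (P : Subgroup H) ≤ U from hc)
    rw [hS, hUc] at this
    omega
  have hpN : p ∉ N := fun h => hpU ⟨hp, h⟩
  have hUn : p ∈ normalizer (U : Set H) := by
    have hi : (U.subgroupOf (P : Subgroup H)).index = 2 := by
      have hm := (U.subgroupOf (P : Subgroup H)).card_mul_index
      rw [Nat.card_congr (subgroupOfEquivOfLe (inf_le_left : U ≤ _)).toEquiv, hUc, hS] at hm
      omega
    haveI := Subgroup.normal_of_index_eq_two hi
    exact (normal_subgroupOf_iff_le_normalizer inf_le_left).mp inferInstance hp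
  set D' := D.map (MulAut.conj p).toMonoidHom with hD'
  have hD'U : D' ≤ U := by
    rintro _ ⟨a, ha, rfl⟩
    exact (mem_normalizer_iff.mp hUn a).mp
      ⟨(inf_le_left : D ≤ _) ha, le_normalizer (H := D) ha⟩
  have hD'c : Nat.card D' = 16 := by
    rw [hD', card_map_of_injective (MulAut.conj p).injective, hD]
  obtain ⟨u, hu', huD⟩ : ∃ u ∈ D', u ∉ D := by
    by_contra hc
    push Not at hc
    apply hpN
    have e := Subgroup.eq_of_le_of_card_ge (show D' ≤ D from hc) (by rw [hD, hD'c])
    rw [hN, mem_normalizer_iff_map_conj_eq]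
    exact e
  have hD'comm : ∀ a ∈ D', ∀ b ∈ D', a * b = b * a := by
    rintro _ ⟨a, ha, rfl⟩ _ ⟨b, hb, rfl⟩
    rw [← map_mul, ← map_mul, hDc a ha b hb]
  have hDU : D ≤ U := le_inf inf_le_left le_normalizer
  set E := D ⊓ D' with hE
  have hEc : 8 ≤ Nat.card E := by
    have h1 : D'.relIndex D ≤ D'.relIndex U := relIndex_le_of_le_right hDU (Subgroup.index_ne_zero_of_finite (H := D'.subgroupOf U))
    have h2 : D'.relIndex U = 2 := by
      have := relIndex_mul_relIndex ⊥ D' U bot_le hD'U
      rw [relIndex_bot_left, relIndex_bot_left, hD'c, hUc] at this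
      omega
    have h3 := relIndex_mul_relIndex ⊥ E D bot_le inf_le_left
    rw [relIndex_bot_left, relIndex_bot_left, hD, hE, inf_relIndex_left, ← hE] at h3
    rw [h2] at h1
    interval_cases hv : D'.relIndex D <;> omega
  set X := MulAut.conj (x : H) with hX
  set I := E ⊓ E.map X.toMonoidHom with hI
  have hIc : 4 ≤ Nat.card I := by
    have hle : E.map X.toMonoidHom ≤ D := by
      rintro _ ⟨a, ha, rfl⟩
      exact (mem_normalizer_iff.mp x.2 a).mp ha.1
    have hc : Nat.card (E.map X.toMonoidHom) = Nat.card E := card_map_of_injective X.injective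
    have h1 : (E.map X.toMonoidHom).relIndex E ≤ (E.map X.toMonoidHom).relIndex D :=
      relIndex_le_of_le_right inf_le_left (Subgroup.index_ne_zero_of_finite (H := (E.map X.toMonoidHom).subgroupOf D))
    have h2 := relIndex_mul_relIndex ⊥ (E.map X.toMonoidHom) D bot_le hle
    rw [relIndex_bot_left, relIndex_bot_left, hD, hc] at h2
    have h3 := relIndex_mul_relIndex ⊥ I E bot_le inf_le_left
    rw [relIndex_bot_left, relIndex_bot_left, hI, inf_relIndex_left, ← hI] at h3
    have hr : (E.map X.toMonoidHom).relIndex D ≤ 2 := by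
      by_contra hgt
      have : 8 * 3 ≤ Nat.card E * (E.map X.toMonoidHom).relIndex D :=
        Nat.mul_le_mul hEc (by omega)
      omega
    have hr' : (E.map X.toMonoidHom).relIndex E ≤ 2 := h1.trans hr
    interval_cases hv : (E.map X.toMonoidHom).relIndex E <;> omega
  set L := centralizer (I : Set H) ⊓ N with hL
  have hIE : ∀ a ∈ I, a ∈ D ∧ a ∈ D' := fun a ha => ha.1
  have hDL : D ≤ L := le_inf (fun d hd => mem_centralizer_iff.mpr fun a ha =>
    hDc a (hIE a ha).1 d hd) le_normalizer
  have huU : u ∈ U := hD'U hu'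
  have huL : u ∈ L := ⟨mem_centralizer_iff.mpr fun a ha => hD'comm a (hIE a ha).2 u hu', huU.2⟩
  set v := (x : H) * u * (x : H)⁻¹ with hv
  have hvL : v ∈ L := by
    refine ⟨mem_centralizer_iff.mpr fun a ha => ?_, N.mul_mem (N.mul_mem x.2 huU.2) (N.inv_mem x.2)⟩
    obtain ⟨e, he, rfl⟩ := ha.2
    change (x : H) * e * (x : H)⁻¹ * v = v * ((x : H) * e * (x : H)⁻¹)
    calc (x : H) * e * (x : H)⁻¹ * v = (x : H) * (e * u) * (x : H)⁻¹ := by rw [hv]; group
      _ = (x : H) * (u * e) * (x : H)⁻¹ := by rw [hD'comm e he.2 u hu']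
      _ = v * ((x : H) * e * (x : H)⁻¹) := by rw [hv]; group
  have hUgen : U = D ⊔ zpowers u := by
    refine (Subgroup.eq_of_le_of_card_ge (sup_le hDU (zpowers_le.mpr huU)) ?_).symm
    have hd := card_dvd_of_le (sup_le hDU (zpowers_le.mpr huU))
    rw [hUc, show (32 : ℕ) = 2 ^ 5 from rfl] at hd
    obtain ⟨j, hj, hj'⟩ := (Nat.dvd_prime_pow Nat.prime_two).mp hd
    have hgt : Nat.card D < Nat.card (D ⊔ zpowers u : Subgroup H) :=
      lt_of_le_of_ne (card_le_of_le le_sup_left) fun h => huD
        ((Subgroup.eq_of_le_of_card_ge le_sup_left h.ge).symm ▸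
          le_sup_right (a := D) (mem_zpowers u))
    rw [hD, hj'] at hgt
    rw [hUc, hj']
    interval_cases j <;> omega
  have hUL : U ≤ L := hUgen ▸ sup_le hDL (zpowers_le.mpr huL)
  have hLN : L = N := by
    by_contra hne'
    have h32d : 32 ∣ Nat.card L := hUc ▸ card_dvd_of_le hUL
    have hd : Nat.card L ∣ 96 := hNc ▸ card_dvd_of_le inf_le_right
    have hlt' : Nat.card L < 96 := hNc ▸ lt_of_le_of_ne (card_le_of_le inf_le_right) fun h =>
      hne' (Subgroup.eq_of_le_of_card_ge inf_le_right h.ge)
    obtain ⟨e, he⟩ := h32d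
    rw [he] at hd hlt'
    have hLU : L = U := by
      refine (Subgroup.eq_of_le_of_card_ge hUL ?_).symm
      rw [he, hUc]
      obtain h | h | h : e = 0 ∨ e = 1 ∨ e = 2 := by omega
      · subst h; norm_num
      · subst h; norm_num
      · subst h; norm_num at hd
    rw [hLU] at hvL
    -- then `x` normalizes `U`
    have hxU : U.map X.toMonoidHom = U := by
      refine Subgroup.eq_of_le_of_card_ge ?_ (le_of_eq ?_)
      · rw [hUgen, Subgroup.map_sup, MonoidHom.map_zpowers, ← hUgen]
        refine sup_le ?_ (zpowers_le.mpr hvL)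
        rintro _ ⟨a, ha, rfl⟩
        exact hDU ((mem_normalizer_iff.mp x.2 a).mp ha)
      · rw [card_map_of_injective X.injective]
    set NU := normalizer (U : Set H) ⊓ N with hNU
    have hNUeq : NU = N := by
      refine Subgroup.eq_of_le_of_card_ge inf_le_right ?_
      have h1 : 32 ∣ Nat.card NU := hUc ▸ card_dvd_of_le (le_inf le_normalizer inf_le_right)
      have h2 : 3 ∣ Nat.card NU := hx' ▸ Subgroup.orderOf_dvd_natCard NU
        ⟨mem_normalizer_iff_map_conj_eq.mpr hxU, x.2⟩
      have := Nat.le_of_dvd Nat.card_pos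
        (Nat.Coprime.mul_dvd_of_dvd_of_dvd (by norm_num : Nat.Coprime 32 3) h1 h2)
      omega
    haveI : (U.subgroupOf N).Normal := (normal_subgroupOf_iff_le_normalizer inf_le_right).mpr
      (hNUeq.symm.le.trans inf_le_left)
    have hp2 : IsPGroup 2 (W.subgroupOf N ⊔ U.subgroupOf N : Subgroup N) :=
      IsPGroup.to_sup_of_normal_right
        ((R.2.to_le inf_le_left).comap_subtype) ((P.2.to_le inf_le_left).comap_subtype)
    obtain ⟨j, hj⟩ := hp2.exists_card_eq
    have hd2 := card_subgroup_dvd_card (W.subgroupOf N ⊔ U.subgroupOf N)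
    rw [hj, hNc] at hd2
    have hj5 : j ≤ 5 := by
      by_contra hgt
      have := (pow_dvd_pow 2 (show 6 ≤ j by omega)).trans hd2
      norm_num at this
    have hle : 2 ^ j ≤ 32 := by
      calc 2 ^ j ≤ 2 ^ 5 := Nat.pow_le_pow_right (by norm_num) hj5
        _ = 32 := by norm_num
    have hcU : Nat.card (U.subgroupOf N) = 32 := by
      rw [Nat.card_congr (subgroupOfEquivOfLe (inf_le_right : U ≤ N)).toEquiv, hUc]
    have e := Subgroup.eq_of_le_of_card_ge
      (le_sup_right : U.subgroupOf N ≤ W.subgroupOf N ⊔ U.subgroupOf N) (by rw [hj, hcU]; exact hle)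
    have hWU : W ≤ U := fun w hw => by
      have : (⟨w, hw.2⟩ : N) ∈ U.subgroupOf N :=
        e.symm ▸ le_sup_left (b := U.subgroupOf N) (show (⟨w, hw.2⟩ : N) ∈ W.subgroupOf N from hw)
      exact this
    exact hUW (Subgroup.eq_of_le_of_card_ge hWU (by rw [hWc, hUc])).symm
  have hxL : (x : H) ∈ centralizer (I : Set H) := (hLN.symm ▸ x.2 : (x : H) ∈ L).1
  have hI1 : I = ⊥ := by
    rw [eq_bot_iff]
    intro a ha
    exact mem_bot.mpr (hfix a (hIE a ha).1 (mem_centralizer_iff.mp hxL a ha).symm)
  rw [hI1, Subgroup.card_bot] at hIc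
  norm_num at hIc

end Cfsg.Agent.Lib.M23Nse5.Inv41
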