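/-
The centralizer of an involution in a group with the order and element counts of the Mathieu group
of degree 23: one class, order 2688, and a normal self-centralizing elementary abelian subgroup of
order sixteen.
-/
import Mathlib
import Cfsg.Agent.Lib.M23Nse5.Facts
import Cfsg.Agent.Lib.SmallGroups.PrimeSylow
import Cfsg.Agent.Lib.SmallGroups.Intersection
import Cfsg.Agent.Lib.M23Nse5.Order1344

set_option autoImplicit false
set_option linter.unusedSectionVars false
set_option linter.style.haveILetI false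

namespace Cfsg.Agent.Lib.M23Nse5.Inv41

open Subgroup MulAction
open Cfsg.Agent.Lib.SmallGroups

universe u

variable {G : Type u} [Group G] [Finite G]

/-- The centralizer of a single element. -/
abbrev Ct {G : Type u} [Group G] (t : G) : Subgroup G := centralizer ({t} : Set G)

/-- Coprime orders whose product is not an element order do not occur in one centralizer. -/
theorem not_dvd_cent (F : Facts G) {g : G} {p q : ℕ} (hp : p.Prime) (hg : orderOf g = q)
    (hco : Nat.Coprime p q)
    (hn : p * q ∉ ({1, 2, 3, 4, 5, 6, 7, 8, 11, 14, 15, 23} : Finset ℕ)) :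
    ¬ p ∣ Nat.card (centralizer ({g} : Set G)) := by
  intro h
  haveI := Fact.mk hp
  obtain ⟨a, ha⟩ := exists_prime_orderOf_dvd_card' p h
  have hc : Commute (a : G) g := mem_centralizer_singleton_iff.mp a.2
  have ho : orderOf (a : G) = p := by rw [← ha, Subgroup.orderOf_coe]
  have := F.ord_mem ((a : G) * g)
  rw [hc.orderOf_mul_eq_mul_orderOf_of_coprime (by rw [ho, hg]; exact hco), ho, hg] at this
  exact hn this

/-- A Sylow subgroup for a prime dividing the order once. -/
theorem card_sylow_prime {H : Type u} [Group H] [Finite H] {p : ℕ} [hp : Fact p.Prime]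
    (P : Sylow p H) (h1 : p ∣ Nat.card H) (h2 : ¬ p ^ 2 ∣ Nat.card H) :
    Nat.card (P : Subgroup H) = p := by
  obtain ⟨k, hk⟩ := P.2.exists_card_eq
  have hd := card_subgroup_dvd_card (P : Subgroup H)
  have h0 : p ∣ Nat.card (P : Subgroup H) := P.dvd_card_of_dvd_card h1
  rw [hk] at hd h0 ⊢
  rcases Nat.lt_or_ge k 2 with hlt | hge
  · interval_cases k
    · exact absurd (by simpa using h0) hp.out.not_dvd_one
    · exact pow_one p
  · exact absurd ((pow_dvd_pow p hge).trans hd) h2

/-- A Sylow two-subgroup of order `2 ^ 7`. -/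
theorem card_sylow_two {H : Type u} [Group H] [Finite H] [Fact (Nat.Prime 2)]
    (S : Sylow 2 H) (h1 : 128 ∣ Nat.card H) (h2 : ¬ 256 ∣ Nat.card H) :
    Nat.card (S : Subgroup H) = 128 := by
  obtain ⟨k, hk⟩ := S.2.exists_card_eq
  have h7 := S.pow_dvd_card_of_pow_dvd_card (n := 7) (by simpa using h1)
  have hd := card_subgroup_dvd_card (S : Subgroup H)
  rw [hk] at h7 hd ⊢
  have hge : 7 ≤ k := (Nat.pow_dvd_pow_iff_le_right (by norm_num)).mp h7
  have hle : k ≤ 7 := by
    by_contra hgt
    exact h2 ((show (256 : ℕ) ∣ 2 ^ k from pow_dvd_pow 2 (show 8 ≤ k by omega)).trans hd)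
  obtain rfl : k = 7 := by omega
  norm_num

/-- The Sylow subgroup through an element of order seven. -/
theorem seven_normalizer (F : Facts G) {y : G} (hy : orderOf y = 7) :
    Nat.card (normalizer (zpowers y : Set G)) = 42 := by
  haveI : Fact (Nat.Prime 7) := ⟨by norm_num⟩
  obtain ⟨P⟩ : Nonempty (Sylow 7 G) := inferInstance
  have hP := card_sylow_prime P (by rw [F.card]; norm_num) (by rw [F.card]; norm_num)
  obtain ⟨R, hR, -⟩ := existsUnique_sylow_of_orderOf P hP hy
  have hn := card_orderOf_eq_prime P hP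
  rw [F.c7, R.card_eq_index_normalizer, ← Sylow.coe_coe R, hR] at hn
  have hm := Subgroup.index_mul_card (normalizer (zpowers y : Set G))
  rw [F.card] at hm
  have h : (normalizer (zpowers y : Set G)).index = 242880 := by omega
  rw [h] at hm
  omega

/-- An element of order seven centralizes exactly one involution. -/
theorem seven (F : Facts G) {y : G} (hy : orderOf y = 7) :
    ∃ u : G, orderOf u = 2 ∧ u * y = y * u ∧
      (∀ v : G, v * y = y * v → v ^ 128 = 1 → v = 1 ∨ v = u) ∧
      ∀ g ∈ normalizer (zpowers y : Set G), g * u = u * g := by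
  haveI h2 : Fact (Nat.Prime 2) := ⟨Nat.prime_two⟩
  haveI h7 : Fact (Nat.Prime 7) := ⟨by norm_num⟩
  classical
  haveI := Fintype.ofFinite G
  -- an involution fixed by conjugation
  obtain ⟨u, hu, huy⟩ : ∃ u : G, orderOf u = 2 ∧ u * y = y * u := by
    let f : Function.End {g : G // orderOf g = 2} := fun g =>
      ⟨MulAut.conj y g.1, by rw [MulEquiv.orderOf_eq]; exact g.2⟩
    have hpow : ∀ n : ℕ, ∀ g, ((f ^ n) g).1 = y ^ n * g.1 * (y ^ n)⁻¹ := by
      intro n
      induction n with
      | zero => intro g; simp only [pow_zero, one_mul, inv_one, mul_one]; rfl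
      | succ n ih =>
        intro g
        rw [pow_succ']
        change MulAut.conj y ((f ^ n) g).1 = _
        rw [ih, MulAut.conj_apply, pow_succ']
        group
    have hf : f ^ 7 ^ 1 = 1 := by
      funext g
      apply Subtype.ext
      rw [hpow, pow_one, ← hy, pow_orderOf_eq_one, one_mul, inv_one, mul_one]
      rfl
    have hm := Equiv.Perm.card_fixedPoints_modEq (p := 7) (n := 1) hf
    have hc : Fintype.card {g : G // orderOf g = 2} = 3795 := by
      rw [← Nat.card_eq_fintype_card]; exact F.c2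
    rw [hc] at hm
    obtain ⟨⟨g, hg⟩⟩ : Nonempty (Function.fixedPoints f) := by
      rw [← Fintype.card_pos_iff]
      rcases Nat.eq_zero_or_pos (Fintype.card (Function.fixedPoints f)) with h | h
      · rw [h] at hm; exact absurd hm (by decide)
      · exact h
    refine ⟨g.1, g.2, ?_⟩
    have h : y * g.1 * y⁻¹ = g.1 := congrArg Subtype.val hg
    exact (mul_inv_eq_iff_eq_mul.mp h).symm
  have hC : Nat.card (centralizer ({y} : Set G)) ∣ 42 := by
    rw [← seven_normalizer F hy]
    refine card_dvd_of_le ?_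
    have : centralizer ({y} : Set G) = centralizer (zpowers y : Set G) := by
      rw [zpowers_eq_closure, centralizer_closure]
    rw [this]
    exact centralizer_le_normalizer' _
  have h3 : ¬ 3 ∣ Nat.card (centralizer ({y} : Set G)) :=
    not_dvd_cent F Nat.prime_three hy (by norm_num) (by decide)
  have ho : orderOf (u * y) = 14 := by
    rw [Commute.orderOf_mul_eq_mul_orderOf_of_coprime huy (by rw [hu, hy]; norm_num), hu, hy]
  have hle : zpowers (u * y) ≤ centralizer ({y} : Set G) := by
    rw [zpowers_le, mem_centralizer_singleton_iff, mul_assoc]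
    nth_rewrite 1 [← mul_assoc, huy]
    group
  have hcyc : zpowers (u * y) = centralizer ({y} : Set G) := by
    refine Subgroup.eq_of_le_of_card_ge hle ?_
    rw [Nat.card_zpowers, ho]
    have hd : Nat.card (centralizer ({y} : Set G)) ∣ 14 :=
      (Nat.Coprime.dvd_of_dvd_mul_left
        ((Nat.prime_three.coprime_iff_not_dvd.mpr h3).symm) (show _ ∣ 3 * 14 from hC))
    exact Nat.le_of_dvd (by norm_num) hd
  have huniq : ∀ v : G, v * y = y * v → v ^ 128 = 1 → v = 1 ∨ v = u := by
    intro v hv hv2
    have hmem : v ∈ zpowers (u * y) := hcyc ▸ mem_centralizer_singleton_iff.mpr hv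
    have h14 : v ^ 14 = 1 := by
      obtain ⟨k, rfl⟩ := mem_zpowers_iff.mp hmem
      rw [← zpow_natCast, ← zpow_mul, mul_comm, zpow_mul, zpow_natCast, ← ho, pow_orderOf_eq_one,
        one_zpow]
    have h22 : v ^ 2 = 1 := by
      have := (pow_gcd_eq_one (a := v) (m := 128) (n := 14)).mpr ⟨hv2, h14⟩
      simpa using this
    obtain ⟨k, hk, rfl⟩ : ∃ k < 14, (u * y) ^ k = v := by
      obtain ⟨k, rfl⟩ := (mem_powers_iff_mem_zpowers).mpr hmem
      exact ⟨k % 14, Nat.mod_lt _ (by norm_num), by rw [← ho, pow_mod_orderOf]⟩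
    rw [← pow_mul, ← orderOf_dvd_iff_pow_eq_one, ho] at h22
    obtain rfl | rfl : k = 0 ∨ k = 7 := by omega
    · exact Or.inl (pow_zero _)
    · right
      rw [Commute.mul_pow huy, ← hy, pow_orderOf_eq_one, mul_one, hy]
      rw [show (7 : ℕ) = 2 * 3 + 1 from rfl, pow_succ, pow_mul, ← hu, pow_orderOf_eq_one, one_pow,
        one_mul]
  refine ⟨u, hu, huy, huniq, fun g hg => ?_⟩
  have hcu : ∀ a ∈ zpowers y, u * a = a * u := by
    intro a ha
    obtain ⟨k, rfl⟩ := mem_zpowers_iff.mp ha
    exact (Commute.zpow_right huy k)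
  have hgy : g⁻¹ * y * g ∈ zpowers y := by
    have := (mem_normalizer_iff''.mp hg y).mp (mem_zpowers y)
    exact this
  have h1 : (g * u * g⁻¹) * y = y * (g * u * g⁻¹) := by
    have := hcu _ hgy
    calc g * u * g⁻¹ * y = g * (u * (g⁻¹ * y * g)) * g⁻¹ := by group
      _ = g * ((g⁻¹ * y * g) * u) * g⁻¹ := by rw [this]
      _ = y * (g * u * g⁻¹) := by group
  have h2' : (g * u * g⁻¹) ^ 128 = 1 := by
    rw [conj_pow, show (128 : ℕ) = 2 * 64 from rfl, pow_mul, ← hu, pow_orderOf_eq_one, one_pow,
      mul_one, mul_inv_cancel]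
  rcases huniq _ h1 h2' with h | h
  · exfalso
    have : u = 1 := by simpa using h
    rw [this, orderOf_one] at hu
    norm_num at hu
  · exact mul_inv_eq_iff_eq_mul.mp h

/-- The class, the centralizer order and the Sylow seven-normalizer inside the centralizer. -/
theorem cent_two (F : Facts G) {t : G} (ht : orderOf t = 2) :
    Nat.card (centralizer ({t} : Set G)) = 2688 ∧
      (∀ s : G, orderOf s = 2 → ∃ g : G, g * t * g⁻¹ = s) ∧
      ∀ y : G, orderOf y = 7 → y * t = t * y →
        normalizer (zpowers y : Set G) ≤ centralizer ({t} : Set G) := by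
  classical
  haveI h7 : Fact (Nat.Prime 7) := ⟨by norm_num⟩
  set C := centralizer ({t} : Set G) with hCdef
  let f : G ⧸ C → {g : G // orderOf g = 2} := Quotient.lift
    (fun g => ⟨MulAut.conj g t, by rw [MulEquiv.orderOf_eq]; exact ht⟩) (by
      intro a b hab
      replace hab := QuotientGroup.leftRel_apply.mp hab
      rw [hCdef, mem_centralizer_singleton_iff] at hab
      apply Subtype.ext
      simp only [MulAut.conj_apply]
      calc a * t * a⁻¹ = a * (t * (a⁻¹ * b)) * b⁻¹ := by group
        _ = a * ((a⁻¹ * b) * t) * b⁻¹ := by rw [hab]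
        _ = b * t * b⁻¹ := by group)
  have hinj : Function.Injective f := by
    intro a b
    induction a using QuotientGroup.induction_on
    induction b using QuotientGroup.induction_on
    rename_i a b
    intro h
    have h' : a * t * a⁻¹ = b * t * b⁻¹ := congrArg Subtype.val h
    rw [QuotientGroup.eq, hCdef, mem_centralizer_singleton_iff]
    calc a⁻¹ * b * t = a⁻¹ * (b * t * b⁻¹) * b := by group
      _ = a⁻¹ * (a * t * a⁻¹) * b := by rw [h']
      _ = t * (a⁻¹ * b) := by group
  have hle := Nat.card_le_card_of_injective f hinj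
  rw [F.c2, ← Subgroup.index_eq_card] at hle
  have hmul := Subgroup.index_mul_card C
  rw [F.card] at hmul
  have hdiv : Nat.card C ∣ 10200960 := Dvd.intro_left _ hmul
  have h5 : Nat.Coprime (Nat.card C) 5 :=
    ((Nat.Prime.coprime_iff_not_dvd (by norm_num : Nat.Prime 5)).mpr
      (not_dvd_cent F (by norm_num) ht (by norm_num) (by decide))).symm
  have h11 : Nat.Coprime (Nat.card C) 11 :=
    ((Nat.Prime.coprime_iff_not_dvd (by norm_num : Nat.Prime 11)).mpr
      (not_dvd_cent F (by norm_num) ht (by norm_num) (by decide))).symm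
  have h23 : Nat.Coprime (Nat.card C) 23 :=
    ((Nat.Prime.coprime_iff_not_dvd (by norm_num : Nat.Prime 23)).mpr
      (not_dvd_cent F (by norm_num) ht (by norm_num) (by decide))).symm
  have hcop : Nat.Coprime (Nat.card C) 1265 := by
    rw [show (1265 : ℕ) = 5 * 11 * 23 by norm_num]
    exact (h5.mul_right h11).mul_right h23
  obtain ⟨k, hk⟩ : Nat.card C ∣ 8064 :=
    hcop.dvd_of_dvd_mul_right (by norm_num; exact hdiv)
  have hge : 2688 ≤ Nat.card C := by
    by_contra hlt
    have h2 : C.index * Nat.card C ≤ 3795 * 2687 := Nat.mul_le_mul hle (by omega)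
    rw [hmul] at h2
    omega
  have hk3 : k ≤ 3 := by
    by_contra hlt
    have : 2688 * 4 ≤ Nat.card C * k := Nat.mul_le_mul hge (by omega)
    omega
  have hk0 : 0 < k := by
    rcases Nat.eq_zero_or_pos k with rfl | h
    · omega
    · exact h
  have hkey : ∀ y : G, orderOf y = 7 → y * t = t * y →
      normalizer (zpowers y : Set G) ≤ C := by
    intro y hy hyt
    obtain ⟨u, hu, huy, huniq, hun⟩ := seven F hy
    have : t = u := by
      rcases huniq t hyt.symm (by
        rw [show (128 : ℕ) = 2 * 64 from rfl, pow_mul, ← ht, pow_orderOf_eq_one, one_pow]) with h | h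
      · rw [h, orderOf_one] at ht; norm_num at ht
      · exact h
    intro g hg
    rw [hCdef, mem_centralizer_singleton_iff, this]
    exact hun g hg
  have hcard : Nat.card C = 2688 := by
    have h7d : 7 ∣ Nat.card C := by
      interval_cases k <;> omega
    obtain ⟨P⟩ : Nonempty (Sylow 7 C) := inferInstance
    have hP := card_sylow_prime P h7d (by interval_cases k <;>
      (have : Nat.card C = 8064 ∨ Nat.card C = 4032 ∨ Nat.card C = 2688 := by omega
       rcases this with e | e | e <;> rw [e] <;> norm_num))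
    obtain ⟨y, hy⟩ := exists_prime_orderOf_dvd_card' 7 h7d
    obtain ⟨R, hR, -⟩ := existsUnique_sylow_of_orderOf P hP hy
    have hy' : orderOf (y : G) = 7 := by rw [← hy, Subgroup.orderOf_coe]
    have hyt : (y : G) * t = t * (y : G) := mem_centralizer_singleton_iff.mp y.2
    have hN : normalizer (zpowers y : Set C) =
        (normalizer (zpowers (y : G) : Set G)).subgroupOf C := by
      have h1 : zpowers y = (zpowers (y : G)).subgroupOf C := by
        apply Subgroup.map_injective C.subtype_injective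
        rw [MonoidHom.map_zpowers, subgroupOf_map_subtype, inf_of_le_left (zpowers_le.mpr y.2)]
        rfl
      rw [h1, subgroupOf_normalizer_eq (zpowers_le.mpr y.2)]
    have hn : Nat.card (normalizer (zpowers y : Set C)) = 42 := by
      rw [hN, Nat.card_congr (subgroupOfEquivOfLe (hkey _ hy' hyt)).toEquiv]
      exact seven_normalizer F hy'
    have hidx := Subgroup.index_mul_card (normalizer (zpowers y : Set C))
    rw [hn] at hidx
    have hmod : Nat.card (Sylow 7 C) % 7 = 1 % 7 := card_sylow_modEq_one 7 C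
    rw [R.card_eq_index_normalizer, ← Sylow.coe_coe R, hR] at hmod
    interval_cases k <;> omega
  refine ⟨hcard, fun s hs => ?_, hkey⟩
  have hidx : C.index = 3795 := by rw [hcard] at hmul; omega
  have hbij : Function.Bijective f := (Nat.bijective_iff_injective_and_card f).mpr
    ⟨hinj, by rw [← Subgroup.index_eq_card, hidx, F.c2]⟩
  obtain ⟨q, hq⟩ := hbij.2 ⟨s, hs⟩
  induction q using QuotientGroup.induction_on
  rename_i g
  exact ⟨g, congrArg Subtype.val hq⟩

/-- Some element of order three commuting with an involution is inverted in its centralizer. -/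
theorem exists_inverter (F : Facts G) :
    ∃ i x g : G, orderOf i = 2 ∧ orderOf x = 3 ∧ x * i = i * x ∧ g * i = i * g ∧
      g * x * g⁻¹ = x⁻¹ := by
  haveI h5 : Fact (Nat.Prime 5) := ⟨by norm_num⟩
  haveI h2 : Fact (Nat.Prime 2) := ⟨Nat.prime_two⟩
  obtain ⟨⟨w, hw⟩⟩ : Nonempty {g : G // orderOf g = 15} := by
    refine (Nat.card_pos_iff.mp ?_).1
    rw [F.c15]; norm_num
  have hz : orderOf (w ^ 3) = 5 := by
    rw [orderOf_pow, hw]; norm_num
  have hx : orderOf (w ^ 5) = 3 := by
    rw [orderOf_pow, hw]; norm_num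
  obtain ⟨z, hzdef⟩ : ∃ z, z = w ^ 3 := ⟨_, rfl⟩
  rw [← hzdef] at hz
  obtain ⟨P⟩ : Nonempty (Sylow 5 G) := inferInstance
  have hP := card_sylow_prime P (by rw [F.card]; norm_num) (by rw [F.card]; norm_num)
  obtain ⟨R, hR, -⟩ := existsUnique_sylow_of_orderOf P hP hz
  have hN : Nat.card (normalizer (zpowers (z) : Set G)) = 60 := by
    have hn := card_orderOf_eq_prime P hP
    rw [F.c5, R.card_eq_index_normalizer, ← Sylow.coe_coe R, hR] at hn
    have hm := Subgroup.index_mul_card (normalizer (zpowers (z) : Set G))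
    rw [F.card] at hm
    have h : (normalizer (zpowers (z) : Set G)).index = 170016 := by omega
    rw [h] at hm
    omega
  have hle : centralizer ({z} : Set G) ≤ normalizer (zpowers (z) : Set G) := by
    have : centralizer ({z} : Set G) = centralizer (zpowers (z) : Set G) := by
      rw [zpowers_eq_closure, centralizer_closure]
    rw [this]
    exact centralizer_le_normalizer' _
  have hC2 : ¬ 2 ∣ Nat.card (centralizer ({z} : Set G)) :=
    not_dvd_cent F Nat.prime_two hz (by norm_num) (by decide)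
  have hcyc : zpowers w = centralizer ({z} : Set G) := by
    refine Subgroup.eq_of_le_of_card_ge (zpowers_le.mpr
      (mem_centralizer_singleton_iff.mpr (hzdef ▸ ((Commute.refl w).pow_right 3)))) ?_
    rw [Nat.card_zpowers, hw]
    have hd : Nat.card (centralizer ({z} : Set G)) ∣ 60 := hN ▸ card_dvd_of_le hle
    exact Nat.le_of_dvd (by norm_num) (Nat.Coprime.dvd_of_dvd_mul_left
      (((Nat.prime_two.coprime_iff_not_dvd.mpr hC2).pow_left 2).symm) (show _ ∣ 2 ^ 2 * 15 from hd))
  obtain ⟨T, hT⟩ := Sylow.exists_subgroup_card_pow_prime (G := normalizer (zpowers (z) : Set G))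
    2 (n := 2) (by rw [hN]; norm_num)
  have hzmem : ∀ τ : T, (τ.1 : G) * z * (τ.1 : G)⁻¹ ∈ zpowers z := fun τ =>
    (mem_normalizer_iff.mp τ.1.2 z).mp (mem_zpowers z)
  let f : T → {a : zpowers z // a ≠ 1} := fun τ => ⟨⟨_, hzmem τ⟩, fun h => by
    have h' : (τ.1 : G) * z * (τ.1 : G)⁻¹ = 1 := congrArg Subtype.val h
    have : z = 1 := by simpa using h'
    rw [this, orderOf_one] at hz
    norm_num at hz⟩
  have hinj : Function.Injective f := by
    intro a b h
    have h' : (a.1 : G) * z * (a.1 : G)⁻¹ = (b.1 : G) * z * (b.1 : G)⁻¹ :=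
      congrArg (fun q => (q.1 : G)) h
    have hd : ((b⁻¹ * a : T).1 : G) ∈ centralizer ({z} : Set G) := by
      rw [mem_centralizer_singleton_iff]
      simp only [Subgroup.coe_mul, InvMemClass.coe_inv]
      calc (b.1 : G)⁻¹ * a.1 * z = (b.1 : G)⁻¹ * (a.1 * z * (a.1 : G)⁻¹) * a.1 := by group
        _ = (b.1 : G)⁻¹ * (b.1 * z * (b.1 : G)⁻¹) * a.1 := by rw [h']
        _ = z * ((b.1 : G)⁻¹ * a.1) := by group
    have h4 : ((b⁻¹ * a : T).1 : G) ^ 4 = 1 := by
      have : (b⁻¹ * a) ^ (2 ^ 2) = 1 := by rw [← hT]; exact pow_card_eq_one'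
      exact congrArg (fun q : T => (q.1 : G)) this
    have h15 : ((b⁻¹ * a : T).1 : G) ^ 15 = 1 := by
      rw [← hcyc] at hd
      obtain ⟨k, hk⟩ := mem_zpowers_iff.mp hd
      rw [← hk, ← zpow_natCast, ← zpow_mul, mul_comm, zpow_mul, zpow_natCast, ← hw,
        pow_orderOf_eq_one, one_zpow]
    have h1 := (pow_gcd_eq_one (a := ((b⁻¹ * a : T).1 : G))).mpr ⟨h4, h15⟩
    norm_num at h1
    exact (inv_mul_eq_one.mp (Subtype.ext (Subtype.ext h1) : b⁻¹ * a = 1)).symm
  have hbij : Function.Bijective f := by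
    rw [Nat.bijective_iff_injective_and_card]
    refine ⟨hinj, ?_⟩
    haveI := Fintype.ofFinite (zpowers z)
    classical
    rw [hT, Nat.card_eq_fintype_card, Fintype.card_subtype_compl, Fintype.card_subtype_eq,
      ← Nat.card_eq_fintype_card, Nat.card_zpowers, hz]
    rfl
  have hz2 : z ^ 2 ≠ 1 := fun h => by
    have := orderOf_dvd_of_pow_eq_one h
    rw [hz] at this; norm_num at this
  obtain ⟨τ, hτ⟩ := hbij.2 ⟨⟨z ^ 2, pow_mem (mem_zpowers z) 2⟩,
    fun h => hz2 (congrArg Subtype.val h)⟩
  set g : G := (τ.1 : G) with hgdef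
  have hg : g * z * g⁻¹ = z ^ 2 := congrArg (fun q => (q.1 : G)) hτ
  have hg4 : g ^ 4 = 1 := by
    have : τ ^ (2 ^ 2) = 1 := by rw [← hT]; exact pow_card_eq_one'
    exact congrArg (fun q : T => (q.1 : G)) this
  have hg2 : g ^ 2 ≠ 1 := by
    intro h
    have h1 : g ^ 2 * z * (g ^ 2)⁻¹ = z ^ 4 := by
      rw [pow_two g, mul_inv_rev, show g * g * z * (g⁻¹ * g⁻¹) = g * (g * z * g⁻¹) * g⁻¹ by group,
        hg, ← conj_pow, hg, ← pow_mul]
    rw [h, one_mul, inv_one, mul_one] at h1
    have h3 : z ^ 3 = 1 := by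
      apply mul_left_cancel (a := z)
      rw [← pow_succ', mul_one, ← h1]
    have := orderOf_dvd_of_pow_eq_one h3
    rw [hz] at this; norm_num at this
  have hi : orderOf (g ^ 2) = 2 :=
    orderOf_eq_prime (by rw [← pow_mul]; exact hg4) hg2
  -- conjugation on the centralizer of `z`
  set x := w ^ 5 with hxdef
  have hgw : g * w * g⁻¹ ∈ zpowers w := by
    rw [hcyc, mem_centralizer_singleton_iff]
    have hc : g * w * g⁻¹ * (g * z * g⁻¹) = g * z * g⁻¹ * (g * w * g⁻¹) := by
      have : w * z = z * w := hzdef ▸ ((Commute.refl w).pow_right 3).eq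
      calc g * w * g⁻¹ * (g * z * g⁻¹) = g * (w * z) * g⁻¹ := by group
        _ = g * (z * w) * g⁻¹ := by rw [this]
        _ = g * z * g⁻¹ * (g * w * g⁻¹) := by group
    rw [hg] at hc
    have hz6 : z = (z ^ 2) ^ 3 := by
      rw [← pow_mul, show 2 * 3 = 5 + 1 from rfl, pow_add, ← hz, pow_orderOf_eq_one, one_mul,
        pow_one]
    rw [hz6]
    exact (Commute.pow_right hc 3).eq
  obtain ⟨k, hk⟩ := mem_powers_iff_mem_zpowers.mpr hgw
  have hgx : g * x * g⁻¹ = x ^ k := by
    change w ^ k = g * w * g⁻¹ at hk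
    rw [hxdef, ← conj_pow, ← hk, ← pow_mul, ← pow_mul, mul_comm]
  have hk3 : k % 3 ≠ 0 := by
    intro h
    have h1 : x ^ k = 1 := orderOf_dvd_iff_pow_eq_one.mp (by rw [hx]; exact Nat.dvd_of_mod_eq_zero h)
    rw [h1] at hgx
    have : x = 1 := by simpa using hgx
    rw [this, orderOf_one] at hx
    norm_num at hx
  rw [← pow_mod_orderOf x k, hx] at hgx
  obtain h | h : k % 3 = 1 ∨ k % 3 = 2 := by omega
  · exfalso
    rw [h, pow_one, mul_inv_eq_iff_eq_mul] at hgx
    have ho : orderOf g = 4 := by
      have := orderOf_eq_prime_pow (p := 2) (n := 1) (x := g) (by simpa using hg2)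
        (by simpa using hg4)
      simpa using this
    have := F.ord_mem (g * x)
    rw [Commute.orderOf_mul_eq_mul_orderOf_of_coprime hgx (by rw [ho, hx]; norm_num), ho, hx]
      at this
    revert this
    decide
  · have hinv : x ^ 2 = x⁻¹ := eq_inv_of_mul_eq_one_left (by
      rw [← pow_succ, show 2 + 1 = 3 from rfl, ← hx, pow_orderOf_eq_one])
    rw [h, hinv] at hgx
    refine ⟨g ^ 2, x, g, hi, hx, ?_, ((Commute.refl g).pow_right 2).eq, hgx⟩
    have hh : g ^ 2 * x * (g ^ 2)⁻¹ = x := by
      calc g ^ 2 * x * (g ^ 2)⁻¹ = g * (g * x * g⁻¹) * g⁻¹ := by rw [pow_two]; group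
        _ = g * x⁻¹ * g⁻¹ := by rw [hgx]
        _ = (g * x * g⁻¹)⁻¹ := by group
        _ = x := by rw [hgx, inv_inv]
    exact (mul_inv_eq_iff_eq_mul.mp hh).symm

/-- In the centralizer of an involution some element of order three is inverted. -/
theorem exists_inverted (F : Facts G) {t : G} (ht : orderOf t = 2) :
    ∃ x g : (Ct t), orderOf x = 3 ∧ g * x * g⁻¹ = x⁻¹ := by
  obtain ⟨i, x, g, hi, hx, hxi, hgi, hgx⟩ := exists_inverter F
  obtain ⟨h, hh⟩ := (cent_two F hi).2.1 t ht
  have hmem : ∀ a : G, a * i = i * a → h * a * h⁻¹ ∈ (Ct t) := by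
    intro a ha
    rw [mem_centralizer_singleton_iff, ← hh]
    calc h * a * h⁻¹ * (h * i * h⁻¹) = h * (a * i) * h⁻¹ := by group
      _ = h * (i * a) * h⁻¹ := by rw [ha]
      _ = h * i * h⁻¹ * (h * a * h⁻¹) := by group
  refine ⟨⟨_, hmem x hxi⟩, ⟨_, hmem g hgi⟩, ?_, ?_⟩
  · rw [Subgroup.orderOf_mk, ← MulAut.conj_apply, MulEquiv.orderOf_eq, hx]
  · apply Subtype.ext
    simp only [Subgroup.coe_mul, InvMemClass.coe_inv]
    calc h * g * h⁻¹ * (h * x * h⁻¹) * (h * g * h⁻¹)⁻¹ = h * (g * x * g⁻¹) * h⁻¹ := by group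
      _ = h * x⁻¹ * h⁻¹ := by rw [hgx]
      _ = (h * x * h⁻¹)⁻¹ := by group

/-- Sylow seven data inside the centralizer. -/
theorem seven_cent (F : Facts G) {t : G} (ht : orderOf t = 2)
    (P : Sylow 7 (Ct t)) :
    Nat.card (P : Subgroup (Ct t)) = 7 ∧
      Nat.card (normalizer ((P : Subgroup (Ct t)) :
        Set (Ct t))) = 42 ∧
      Nat.card (Sylow 7 (Ct t)) = 64 := by
  haveI h7 : Fact (Nat.Prime 7) := ⟨by norm_num⟩
  obtain ⟨hcard, -, hkey⟩ := cent_two F ht
  have hP := card_sylow_prime P (by rw [hcard]; norm_num) (by rw [hcard]; norm_num)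
  obtain ⟨y, hy⟩ := exists_prime_orderOf_dvd_card' 7
    (show 7 ∣ Nat.card (P : Subgroup (Ct t)) by rw [hP])
  have hy1 : orderOf (y : (Ct t)) = 7 := by rw [Subgroup.orderOf_coe, hy]
  have hy' : orderOf ((y : (Ct t)) : G) = 7 := by rw [Subgroup.orderOf_coe, hy1]
  have hyt : ((y : (Ct t)) : G) * t = t * ((y : (Ct t)) : G) := mem_centralizer_singleton_iff.mp y.1.2
  have hz : zpowers (y : (Ct t)) = (P : Subgroup (Ct t)) :=
    zpowers_eq_of_prime hP y.2 (fun h => by rw [h, orderOf_one] at hy1; norm_num at hy1)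
  have h1 : zpowers (y : (Ct t)) = (zpowers ((y : (Ct t)) : G)).subgroupOf (Ct t) := by
    apply Subgroup.map_injective (Ct t).subtype_injective
    rw [MonoidHom.map_zpowers, subgroupOf_map_subtype, inf_of_le_left (zpowers_le.mpr y.1.2)]
    rfl
  have hn : Nat.card (normalizer ((P : Subgroup (Ct t)) : Set (Ct t))) = 42 := by
    rw [← hz, h1, ← subgroupOf_normalizer_eq (zpowers_le.mpr y.1.2),
      Nat.card_congr (subgroupOfEquivOfLe (hkey _ hy' hyt)).toEquiv]
    exact seven_normalizer F hy'
  refine ⟨hP, hn, ?_⟩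
  have hidx := Subgroup.index_mul_card (normalizer ((P : Subgroup (Ct t)) : Set (Ct t)))
  rw [hn, hcard] at hidx
  rw [P.card_eq_index_normalizer, ← Sylow.coe_coe P]
  omega

/-- A normal subgroup of the centralizer of order prime to seven is a two-group. -/
theorem isPGroup_of_not_dvd (F : Facts G) {t : G} (ht : orderOf t = 2)
    (N : Subgroup (Ct t)) [N.Normal] (h7 : ¬ 7 ∣ Nat.card N) :
    IsPGroup 2 N := by
  haveI h2' : Fact (Nat.Prime 2) := ⟨Nat.prime_two⟩
  haveI h3' : Fact (Nat.Prime 3) := ⟨Nat.prime_three⟩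
  haveI h7' : Fact (Nat.Prime 7) := ⟨by norm_num⟩
  obtain ⟨hcard, -, -⟩ := cent_two F ht
  have hd : Nat.card N ∣ 384 := by
    have := card_subgroup_dvd_card N
    rw [hcard, show (2688 : ℕ) = 7 * 384 from rfl] at this
    exact ((Nat.Prime.coprime_iff_not_dvd h7'.out).mpr h7).symm.dvd_of_dvd_mul_left this
  by_cases h3 : 3 ∣ Nat.card N
  · exfalso
    obtain ⟨X⟩ : Nonempty (Sylow 3 N) := inferInstance
    have hX : Nat.card (X : Subgroup N) = 3 :=
      card_sylow_prime X h3 fun h => by have := h.trans hd; norm_num at this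
    set X' : Subgroup (Ct t) := (X : Subgroup N).map N.subtype with hX'def
    have hX' : Nat.card X' = 3 := by rw [hX'def, card_map_of_injective N.subtype_injective, hX]
    have hf := Sylow.normalizer_sup_eq_top X
    have hidx : N.index ∣ Nat.card (normalizer (X' : Set (Ct t))) := by
      have e : N.index = N.relIndex ⊤ := (relIndex_top_right N).symm
      rw [e, ← hf, relIndex_sup_right]
      exact relIndex_dvd_card _ _
    have h7i : 7 ∣ N.index := by
      have := N.card_mul_index
      rw [hcard] at this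
      have h' : 7 ∣ Nat.card N * N.index := ⟨384, by rw [this]⟩
      exact (h7'.out.dvd_mul.mp h').resolve_left h7
    obtain ⟨e, he, hN⟩ := exists_card_normalizer_eq hX'
    have h7c : 7 ∣ Nat.card (centralizer (X' : Set (Ct t))) := by
      have := h7i.trans hidx
      rw [hN] at this
      refine (h7'.out.dvd_mul.mp this).resolve_left fun h => ?_
      have := Nat.le_of_dvd (by norm_num) (h.trans he)
      omega
    obtain ⟨y, hy⟩ := exists_prime_orderOf_dvd_card' 7 h7c
    obtain ⟨x, hx⟩ := exists_prime_orderOf_dvd_card' 3 (show 3 ∣ Nat.card X' by rw [hX'])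
    have hc : Commute ((x : (Ct t)) : G) ((y : (Ct t)) : G) :=
      congrArg (fun c : (Ct t) => (c : G)) (mem_centralizer_iff.mp y.2 x x.2)
    have := F.ord_mem (((x : (Ct t)) : G) * ((y : (Ct t)) : G))
    rw [hc.orderOf_mul_eq_mul_orderOf_of_coprime (by
      rw [Subgroup.orderOf_coe, Subgroup.orderOf_coe, Subgroup.orderOf_coe, Subgroup.orderOf_coe,
        hx, hy]; norm_num), Subgroup.orderOf_coe, Subgroup.orderOf_coe, Subgroup.orderOf_coe,
        Subgroup.orderOf_coe, hx, hy] at this
    revert this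
    decide
  · rw [show (384 : ℕ) = 3 * 2 ^ 7 from rfl] at hd
    have h128 : Nat.card N ∣ 2 ^ 7 :=
      ((Nat.prime_three.coprime_iff_not_dvd).mpr h3).symm.dvd_of_dvd_mul_left hd
    obtain ⟨j, -, hj⟩ := (Nat.dvd_prime_pow Nat.prime_two).mp h128
    exact IsPGroup.of_card hj

/-- The largest normal two-subgroup of a finite group. -/
noncomputable def core2 (H : Type u) [Group H] [Finite H] : Subgroup H :=
  ((default : Sylow 2 H) : Subgroup H).normalCore

instance core2_normal (H : Type u) [Group H] [Finite H] : (core2 H).Normal :=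
  Subgroup.normalCore_normal _

theorem core2_isPGroup (H : Type u) [Group H] [Finite H] : IsPGroup 2 (core2 H) :=
  (default : Sylow 2 H).2.to_le (Subgroup.normalCore_le _)

theorem le_core2 {H : Type u} [Group H] [Finite H] {N : Subgroup H} [N.Normal]
    (h : IsPGroup 2 N) : N ≤ core2 H :=
  Subgroup.normal_le_normalCore.mpr (h.le_sylow_of_normal _)

/-- The involution as an element of its centralizer. -/
def self (t : G) : (Ct t) := ⟨t, mem_centralizer_singleton_iff.mpr rfl⟩

theorem self_comm (t : G) (a : (Ct t)) : a * self t = self t * a :=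
  Subtype.ext (mem_centralizer_singleton_iff.mp a.2)

theorem self_mem_core2 {t : G} (ht : orderOf t = 2) : self t ∈ core2 (Ct t) := by
  haveI : Fact (Nat.Prime 2) := ⟨Nat.prime_two⟩
  haveI : (zpowers (self t)).Normal := ⟨fun a ha g => by
    obtain ⟨k, rfl⟩ := mem_zpowers_iff.mp ha
    rw [(Commute.zpow_right (self_comm t g) k).eq, mul_inv_cancel_right]
    exact zpow_mem (mem_zpowers _) k⟩
  refine le_core2 (N := zpowers (self t)) (IsPGroup.of_card (n := 1) ?_) (mem_zpowers _)
  rw [Nat.card_zpowers, ← Subgroup.orderOf_coe, pow_one]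
  exact ht

/-- An element of order seven fixes only two elements of the core. -/
theorem core2_fixed (F : Facts G) {t : G} (ht : orderOf t = 2)
    {a y : (Ct t)} (ha : a ∈ core2 (Ct t))
    (hy : orderOf y = 7) (hay : a * y = y * a) : a = 1 ∨ a = self t := by
  obtain ⟨hcard, -, -⟩ := cent_two F ht
  have hy' : orderOf (y : G) = 7 := by rw [← hy, Subgroup.orderOf_coe]
  obtain ⟨u, hu, huy, huniq, -⟩ := seven F hy'
  have htu : t = u := by
    rcases huniq t ((mem_centralizer_singleton_iff.mp y.2).symm) (by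
      rw [show (128 : ℕ) = 2 * 64 from rfl, pow_mul, ← ht, pow_orderOf_eq_one, one_pow]) with h | h
    · rw [h, orderOf_one] at ht; norm_num at ht
    · exact h
  have h128 : (a : G) ^ 128 = 1 := by
    obtain ⟨k, hk⟩ := (core2_isPGroup (Ct t)).exists_card_eq
    have hd : 2 ^ k ∣ 2688 := hk ▸ hcard ▸ card_subgroup_dvd_card _
    have hk7 : k ≤ 7 := by
      by_contra hlt
      have := (pow_dvd_pow 2 (show 8 ≤ k by omega)).trans hd
      norm_num at this
    have h1 : (⟨a, ha⟩ : core2 (Ct t)) ^ (2 ^ k) = 1 := by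
      rw [← hk]; exact pow_card_eq_one'
    have h2 : (a : G) ^ (2 ^ k) = 1 :=
      congrArg (fun q : core2 (Ct t) => ((q : (Ct t)) : G)) h1
    obtain ⟨c, hc⟩ := pow_dvd_pow 2 hk7
    rw [show (128 : ℕ) = 2 ^ 7 from rfl, hc, pow_mul, h2, one_pow]
  rcases huniq (a : G) (congrArg Subtype.val hay) h128 with h | h
  · exact Or.inl (Subtype.ext h)
  · exact Or.inr (Subtype.ext (h.trans htu.symm))

/-- The core has order 2, 16 or 128. -/
theorem card_core2_cases (F : Facts G) {t : G} (ht : orderOf t = 2) :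
    Nat.card (core2 (Ct t)) = 2 ∨
      Nat.card (core2 (Ct t)) = 16 ∨
      Nat.card (core2 (Ct t)) = 128 := by
  haveI h7 : Fact (Nat.Prime 7) := ⟨by norm_num⟩
  classical
  obtain ⟨hcard, -, -⟩ := cent_two F ht
  haveI := Fintype.ofFinite (Ct t)
  obtain ⟨y, hy⟩ := exists_prime_orderOf_dvd_card' (G := (Ct t)) 7 (by rw [hcard]; norm_num)
  set Q := core2 (Ct t) with hQ
  let f : Function.End Q := fun a => ⟨y * a * y⁻¹, (core2_normal (Ct t)).conj_mem _ a.2 y⟩
  have hpow : ∀ n : ℕ, ∀ a, (((f ^ n) a : Q) : (Ct t)) = y ^ n * a * (y ^ n)⁻¹ := by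
    intro n
    induction n with
    | zero => intro a; simp only [pow_zero, one_mul, inv_one, mul_one]; rfl
    | succ n ih =>
      intro a
      rw [pow_succ']
      change y * (((f ^ n) a : Q) : (Ct t)) * y⁻¹ = _
      rw [ih, pow_succ']
      group
  have hf : f ^ 7 ^ 1 = 1 := by
    funext a
    apply Subtype.ext
    rw [hpow, pow_one, ← hy, pow_orderOf_eq_one, one_mul, inv_one, mul_one]
    rfl
  haveI := Fintype.ofFinite Q
  have hm := Equiv.Perm.card_fixedPoints_modEq (p := 7) (n := 1) hf
  have htQ : self t ∈ Q := self_mem_core2 ht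
  have hself : self t ≠ 1 := fun h => by
    have : t = 1 := congrArg Subtype.val h
    rw [this, orderOf_one] at ht; norm_num at ht
  have hfix : Fintype.card (Function.fixedPoints f) = 2 := by
    rw [← Nat.card_eq_fintype_card, Nat.card_coe_set_eq, Set.ncard_eq_two]
    refine ⟨1, ⟨self t, htQ⟩, fun h => hself (congrArg Subtype.val h).symm, ?_⟩
    ext a
    constructor
    · intro h
      have h' : y * (a : (Ct t)) * y⁻¹ = a := congrArg Subtype.val h
      rcases core2_fixed F ht a.2 hy (mul_inv_eq_iff_eq_mul.mp h').symm with e | e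
      · exact Or.inl (Subtype.ext e)
      · exact Or.inr (Subtype.ext e)
    · rintro (rfl | rfl)
      · apply Subtype.ext
        change y * ((1 : Q) : (Ct t)) * y⁻¹ = 1
        simp
      · apply Subtype.ext
        change y * self t * y⁻¹ = self t
        rw [self_comm t y, mul_inv_cancel_right]
  obtain ⟨k, hk⟩ := (core2_isPGroup (Ct t)).exists_card_eq
  have hk7 : k ≤ 7 := by
    by_contra hlt
    have hd : 2 ^ k ∣ 2688 := hk ▸ hcard ▸ card_subgroup_dvd_card _
    have := (pow_dvd_pow 2 (show 8 ≤ k by omega)).trans hd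
    norm_num at this
  rw [hfix, ← Nat.card_eq_fintype_card] at hm
  rw [← hQ] at hk
  rw [hk] at hm ⊢
  interval_cases k <;> first | omega | exact absurd hm (by decide)

/-- The Sylow two-subgroup is not normal in the centralizer. -/
theorem card_core2_ne_128 (F : Facts G) {t : G} (ht : orderOf t = 2) :
    Nat.card (core2 (Ct t)) ≠ 128 := by
  intro h
  obtain ⟨hcard, -, -⟩ := cent_two F ht
  obtain ⟨x, g, hx, hgx⟩ := exists_inverted F ht
  have hidx : Nat.card ((Ct t) ⧸ core2 (Ct t)) = 21 := by
    have := (core2 (Ct t)).index_mul_card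
    rw [h, hcard] at this
    rw [← Subgroup.index_eq_card]
    omega
  set a : (Ct t) ⧸ core2 (Ct t) := QuotientGroup.mk' (core2 (Ct t)) g with ha
  set b : (Ct t) ⧸ core2 (Ct t) := QuotientGroup.mk' (core2 (Ct t)) x with hb
  have hab : a * b * a⁻¹ = b⁻¹ := by
    rw [ha, hb, ← map_mul, ← map_inv, ← map_mul, ← map_inv, hgx]
  have h2 : Commute (a ^ 2) b := by
    show a ^ 2 * b = b * a ^ 2
    have : a * (a * b * a⁻¹) * a⁻¹ = b := by
      rw [hab, ← conj_inv, hab, inv_inv]
    calc a ^ 2 * b = a * (a * b * a⁻¹) * a⁻¹ * a ^ 2 := by rw [pow_two]; group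
      _ = b * a ^ 2 := by rw [this]
  have h21 : a ^ 21 = 1 := by rw [← hidx]; exact pow_card_eq_one'
  have hcomm : Commute a b := by
    have : a = (a ^ 2) ^ 11 := by
      rw [← pow_mul, show 2 * 11 = 21 + 1 from rfl, pow_succ, h21, one_mul]
    rw [this]
    exact h2.pow_left 11
  rw [hcomm.eq, mul_inv_cancel_right] at hab
  have hb2 : b ^ 2 = 1 := by rw [pow_two]; nth_rewrite 2 [hab]; exact mul_inv_cancel b
  have hb3 : b ^ 3 = 1 := by
    rw [hb, ← map_pow, ← hx, pow_orderOf_eq_one, map_one]
  have hb1 : b = 1 := by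
    have := (pow_gcd_eq_one (a := b)).mpr ⟨hb2, hb3⟩
    simpa using this
  have hxQ : x ∈ core2 (Ct t) := (QuotientGroup.eq_one_iff x).mp hb1
  have hd := Subgroup.orderOf_dvd_natCard (core2 (Ct t)) hxQ
  rw [hx, h] at hd
  norm_num at hd

/-- An element of order three has centralizer of order twelve inside an involution centralizer. -/
theorem cent_three (F : Facts G) {t : G} (ht : orderOf t = 2) {x : Ct t} (hx : orderOf x = 3) :
    Nat.card (centralizer ({x} : Set (Ct t))) = 12 := by
  haveI h3' : Fact (Nat.Prime 3) := ⟨Nat.prime_three⟩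
  classical
  obtain ⟨hcard, hconj, -⟩ := cent_two F ht
  -- elements of order six
  let m : G → ℕ := fun s => Nat.card {a : G // orderOf a = 3 ∧ a * s = s * a}
  have hm : ∀ s : G, orderOf s = 2 → m s = m t := by
    intro s hs
    obtain ⟨g, rfl⟩ := hconj s hs
    refine (Nat.card_congr ((MulAut.conj g).toEquiv.subtypeEquiv fun a => ?_)).symm
    change orderOf a = 3 ∧ a * t = t * a ↔
      orderOf (MulAut.conj g a) = 3 ∧ MulAut.conj g a * MulAut.conj g t =
        MulAut.conj g t * MulAut.conj g a
    rw [MulEquiv.orderOf_eq, ← map_mul, ← map_mul, (MulAut.conj g).injective.eq_iff]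
  have h6 : Nat.card {g : G // orderOf g = 6} = 3795 * m t := by
    haveI := Fintype.ofFinite {g : G // orderOf g = 2}
    have e : {g : G // orderOf g = 6} ≃
        Σ s : {g : G // orderOf g = 2}, {a : G // orderOf a = 3 ∧ a * s.1 = s.1 * a} :=
      { toFun := fun g => ⟨⟨g.1 ^ 3, by rw [orderOf_pow, g.2]; norm_num⟩, g.1 ^ 4,
          by rw [orderOf_pow, g.2]; norm_num, by rw [← pow_add, ← pow_add]⟩
        invFun := fun p => ⟨p.1.1 * p.2.1, by
          have hc : Commute p.1.1 p.2.1 := p.2.2.2.symm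
          rw [hc.orderOf_mul_eq_mul_orderOf_of_coprime (by rw [p.1.2, p.2.2.1]; norm_num),
            p.1.2, p.2.2.1]⟩
        left_inv := fun g => Subtype.ext (by
          change g.1 ^ 3 * g.1 ^ 4 = g.1
          rw [← pow_add, show 3 + 4 = 6 + 1 from rfl, pow_succ,
            orderOf_dvd_iff_pow_eq_one.mp g.2.dvd, one_mul])
        right_inv := fun p => by
          obtain ⟨⟨s, hs⟩, a, ha, hc⟩ := p
          have hc' : Commute s a := hc.symm
          have hs2 : s ^ 2 = 1 := by rw [← hs]; exact pow_orderOf_eq_one s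
          have ha3 : a ^ 3 = 1 := by rw [← ha]; exact pow_orderOf_eq_one a
          refine Sigma.subtype_ext (Subtype.ext ?_) ?_
          · change (s * a) ^ 3 = s
            rw [hc'.mul_pow, ha3, mul_one, pow_succ, hs2, one_mul]
          · change (s * a) ^ 4 = a
            rw [hc'.mul_pow, show 4 = 2 * 2 from rfl, pow_mul, hs2, one_pow, one_mul,
              show 2 * 2 = 3 + 1 from rfl, pow_succ, ha3, one_mul] }
    rw [Nat.card_congr e, Nat.card_sigma, Finset.sum_congr rfl (fun s _ => hm s.1 s.2),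
      Finset.sum_const, Finset.card_univ, smul_eq_mul, ← Nat.card_eq_fintype_card, F.c2]
  have hmt : m t = Nat.card {a : Ct t // orderOf a = 3} := Nat.card_congr
    { toFun := fun a => ⟨⟨a.1, mem_centralizer_singleton_iff.mpr a.2.2⟩,
        by rw [← Subgroup.orderOf_coe]; exact a.2.1⟩
      invFun := fun a => ⟨a.1.1, by rw [Subgroup.orderOf_coe]; exact a.2,
        mem_centralizer_singleton_iff.mp a.1.2⟩
      left_inv := fun a => rfl
      right_inv := fun a => rfl }
  obtain ⟨P⟩ : Nonempty (Sylow 3 (Ct t)) := inferInstance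
  have hP := card_sylow_prime P (by rw [hcard]; norm_num) (by rw [hcard]; norm_num)
  rw [hmt, card_orderOf_eq_prime P hP] at h6
  have hmod : Nat.card (Sylow 3 (Ct t)) % 3 = 1 % 3 := card_sylow_modEq_one 3 (Ct t)
  have h6' := F.c6
  simp only [Finset.mem_insert, Finset.mem_singleton] at h6'
  have hn : Nat.card (Sylow 3 (Ct t)) = 112 := by omega
  obtain ⟨R, hR, -⟩ := existsUnique_sylow_of_orderOf P hP hx
  have hN : Nat.card (normalizer (zpowers x : Set (Ct t))) = 24 := by
    have hidx := Subgroup.index_mul_card (normalizer (zpowers x : Set (Ct t)))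
    rw [R.card_eq_index_normalizer, ← Sylow.coe_coe R, hR] at hn
    rw [hn, hcard] at hidx
    omega
  have hX : Nat.card (zpowers x) = 3 := by rw [Nat.card_zpowers, hx]
  obtain ⟨e, he, hNe⟩ := exists_card_normalizer_eq hX
  have hcx : centralizer ({x} : Set (Ct t)) = centralizer (zpowers x : Set (Ct t)) := by
    rw [zpowers_eq_closure, centralizer_closure]
  rw [hcx]
  rcases (Nat.dvd_prime Nat.prime_two).mp (show e ∣ 2 from he) with rfl | rfl
  swap
  · omega
  exfalso
  rw [one_mul] at hNe
  have hNC : normalizer (zpowers x : Set (Ct t)) = centralizer (zpowers x : Set (Ct t)) :=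
    (Subgroup.eq_of_le_of_card_ge (centralizer_le_normalizer' _) hNe.le).symm
  obtain ⟨x0, g, hx0, hgx⟩ := exists_inverted F ht
  obtain ⟨R0, hR0, -⟩ := existsUnique_sylow_of_orderOf P hP hx0
  obtain ⟨c, hc⟩ := exists_smul_eq (Ct t) R0 R
  have hmem : c * x0 * c⁻¹ ∈ zpowers x := by
    rw [← hR, ← hc, Sylow.coe_subgroup_smul, hR0,
      Subgroup.mem_pointwise_smul_iff_inv_smul_mem]
    simp [mul_assoc]
  set a := c * x0 * c⁻¹ with ha
  have haa : c * g * c⁻¹ * a * (c * g * c⁻¹)⁻¹ = a⁻¹ := by
    calc c * g * c⁻¹ * a * (c * g * c⁻¹)⁻¹ = c * (g * x0 * g⁻¹) * c⁻¹ := by rw [ha]; group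
      _ = a⁻¹ := by rw [hgx, ha]; group
  have ha3 : orderOf a = 3 := by rw [ha, ← MulAut.conj_apply, MulEquiv.orderOf_eq, hx0]
  have ha1 : a ≠ 1 := fun h => by rw [h, orderOf_one] at ha3; norm_num at ha3
  have hza : zpowers a = zpowers x := zpowers_eq_of_prime hX hmem ha1
  have hgn : c * g * c⁻¹ ∈ normalizer (zpowers x : Set (Ct t)) := by
    rw [mem_normalizer_iff_map_conj_eq, ← hza, MonoidHom.map_zpowers]
    change zpowers (c * g * c⁻¹ * a * (c * g * c⁻¹)⁻¹) = zpowers a
    rw [haa, zpowers_inv]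
  rw [hNC] at hgn
  have := mem_centralizer_iff.mp hgn a hmem
  rw [← this, mul_inv_cancel_right] at haa
  have h2 : a ^ 2 = 1 := by rw [pow_two]; nth_rewrite 2 [haa]; exact mul_inv_cancel a
  have := orderOf_dvd_of_pow_eq_one h2
  rw [ha3] at this
  norm_num at this

/-- The centralizer modulo the involution is not simple. -/
theorem card_core2_ne_two (F : Facts G) {t : G} (ht : orderOf t = 2) :
    Nat.card (core2 (Ct t)) ≠ 2 := by
  haveI h2' : Fact (Nat.Prime 2) := ⟨Nat.prime_two⟩
  haveI h7' : Fact (Nat.Prime 7) := ⟨by norm_num⟩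
  classical
  intro hQ
  obtain ⟨hcard, -, -⟩ := cent_two F ht
  have hsc := seven_cent F ht
  have hpgd := isPGroup_of_not_dvd F ht
  have hfx := fun (a y : (Ct t)) => core2_fixed F ht (a := a) (y := y)
  have htQ := self_mem_core2 ht
  have hcomm := self_comm t
  set t' : (Ct t) := self t with ht'
  have hto : orderOf t' = 2 := by rw [← Subgroup.orderOf_coe]; exact ht
  have hQz : core2 (Ct t) = zpowers t' :=
    (Subgroup.eq_of_le_of_card_ge (zpowers_le.mpr htQ) (by rw [hQ, Nat.card_zpowers, hto])).symm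
  -- normal subgroups containing the involution
  have hnormal : ∀ N : Subgroup (Ct t), N.Normal → t' ∈ N → N = ⊤ ∨ N = core2 (Ct t) := by
    intro N hN htN
    by_cases h7 : 7 ∣ Nat.card N
    swap
    · exact Or.inr (le_antisymm (le_core2 (hpgd N h7)) (hQz ▸ zpowers_le.mpr htN))
    left
    obtain ⟨P⟩ : Nonempty (Sylow 7 N) := inferInstance
    have hd := card_subgroup_dvd_card N
    rw [hcard] at hd
    have hP : Nat.card (P : Subgroup N) = 7 :=
      card_sylow_prime P h7 fun h => by have := h.trans hd; norm_num at this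
    have hall : ∀ y : (Ct t), orderOf y = 7 → y ∈ N := by
      intro y hy
      by_contra hyN
      obtain ⟨y0, hy0⟩ := exists_prime_orderOf_dvd_card' 7 h7
      obtain ⟨R⟩ : Nonempty (Sylow 7 (Ct t)) := inferInstance
      obtain ⟨hR, -, -⟩ := hsc R
      obtain ⟨R1, hR1, -⟩ := existsUnique_sylow_of_orderOf R hR hy
      obtain ⟨R2, hR2, -⟩ := existsUnique_sylow_of_orderOf R hR
        (show orderOf (y0 : (Ct t)) = 7 by rw [Subgroup.orderOf_coe, hy0])
      obtain ⟨c, hc⟩ := exists_smul_eq (Ct t) R2 R1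
      apply hyN
      have hle : (R2 : Subgroup (Ct t)) ≤ N := by rw [hR2]; exact zpowers_le.mpr y0.2
      have hy' : y ∈ ((c • R2 : Sylow 7 (Ct t)) : Subgroup (Ct t)) := by rw [hc, hR1]; exact mem_zpowers y
      rw [Sylow.coe_subgroup_smul, Subgroup.mem_pointwise_smul_iff_inv_smul_mem] at hy'
      have h' : c⁻¹ * y * c ∈ N := hle (by simpa using hy')
      have := hN.conj_mem _ h' c
      simpa [mul_assoc] using this
    set P' : Subgroup (Ct t) := (P : Subgroup N).map N.subtype with hP'def
    have hP' : Nat.card P' = 7 := by rw [hP'def, card_map_of_injective N.subtype_injective, hP]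
    obtain ⟨R, hR⟩ := (IsPGroup.of_card (n := 1) (hP'.trans (pow_one 7).symm)).exists_le_sylow
      (p := 7) (G := (Ct t))
    obtain ⟨hRc, hRn, hn64⟩ := hsc R
    have hPR : P' = (R : Subgroup (Ct t)) := Subgroup.eq_of_le_of_card_ge hR (by rw [hRc, hP'])
    have hf := Sylow.normalizer_sup_eq_top P
    rw [← hP'def, hPR] at hf
    have hidx : N.index ∣ 3 := by
      have e : N.index = N.relIndex ⊤ := (relIndex_top_right N).symm
      rw [e, ← hf, relIndex_sup_right, ← inf_relIndex_right]
      set K := normalizer ((R : Subgroup (Ct t)) : Set (Ct t)) with hK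
      have h14 : 14 ∣ Nat.card (N ⊓ K : Subgroup (Ct t)) := by
        show 2 * 7 ∣ _
        refine Nat.Coprime.mul_dvd_of_dvd_of_dvd (by norm_num) ?_ ?_
        · rw [← hto]
          refine Subgroup.orderOf_dvd_natCard _ ⟨htN, mem_normalizer_iff.mpr fun h => ?_⟩
          rw [← hcomm h, mul_inv_cancel_right]
        · rw [← hP', hPR]
          exact card_dvd_of_le (le_inf (hPR ▸ Subgroup.map_subtype_le _) le_normalizer)
      have hm := ((N ⊓ K).subgroupOf K).card_mul_index
      rw [Nat.card_congr (subgroupOfEquivOfLe (inf_le_right : N ⊓ K ≤ K)).toEquiv, hRn] at hm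
      obtain ⟨c, hc⟩ := h14
      rw [hc] at hm
      change ((N ⊓ K).subgroupOf K).index ∣ 3
      exact ⟨c, by rw [mul_comm]; nlinarith⟩
    rcases (Nat.dvd_prime Nat.prime_three).mp hidx with h | h
    · exact index_eq_one.mp h
    exfalso
    have hNc : Nat.card N = 896 := by
      have := N.card_mul_index
      rw [h, hcard] at this
      omega
    -- too many elements outside the Sylow two-subgroups
    obtain ⟨S⟩ : Nonempty (Sylow 2 N) := inferInstance
    haveI := Fintype.ofFinite (Ct t)
    let A : Finset (Ct t) := Finset.univ.filter fun y => orderOf y = 7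
    have hA : A.card = 384 := by
      have := card_orderOf_eq_prime R hRc
      rw [hn64] at this
      rw [show 384 = 64 * (7 - 1) from rfl, ← this, Nat.card_eq_fintype_card,
        Fintype.card_subtype]
    let B : Finset (Ct t) := A.image fun y => y * t'
    have hB : B.card = 384 := by
      rw [Finset.card_image_of_injective _ (mul_left_injective t'), hA]
    let Z : Finset (Ct t) := Finset.univ.filter fun a => a ∈ N ∧ a ^ 128 = 1
    have hord : ∀ y ∈ A, orderOf (y * t') = 14 := by
      intro y hy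
      rw [(show Commute y t' from hcomm y).orderOf_mul_eq_mul_orderOf_of_coprime
        (by rw [(Finset.mem_filter.mp hy).2, hto]; norm_num), (Finset.mem_filter.mp hy).2, hto]
    have hAB : Disjoint A B := by
      rw [Finset.disjoint_left]
      intro a ha hb
      obtain ⟨y, hy, rfl⟩ := Finset.mem_image.mp hb
      have := hord y hy
      rw [(Finset.mem_filter.mp ha).2] at this
      norm_num at this
    have hABZ : Disjoint (A ∪ B) Z := by
      rw [Finset.disjoint_left]
      intro a ha hz
      have hd := orderOf_dvd_of_pow_eq_one (Finset.mem_filter.mp hz).2.2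
      rcases Finset.mem_union.mp ha with ha | ha
      · rw [(Finset.mem_filter.mp ha).2] at hd; norm_num at hd
      · obtain ⟨y, hy, rfl⟩ := Finset.mem_image.mp ha
        rw [hord y hy] at hd; norm_num at hd
    have hsub : A ∪ B ∪ Z ⊆ Finset.univ.filter fun a => a ∈ N := by
      intro a ha
      refine Finset.mem_filter.mpr ⟨Finset.mem_univ _, ?_⟩
      rcases Finset.mem_union.mp ha with ha | ha
      · rcases Finset.mem_union.mp ha with ha | ha
        · exact hall a (Finset.mem_filter.mp ha).2
        · obtain ⟨y, hy, rfl⟩ := Finset.mem_image.mp ha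
          exact N.mul_mem (hall y (Finset.mem_filter.mp hy).2) htN
      · exact (Finset.mem_filter.mp ha).2.1
    have hle := Finset.card_le_card hsub
    rw [Finset.card_union_of_disjoint hABZ, Finset.card_union_of_disjoint hAB, hA, hB] at hle
    have hfN : (Finset.univ.filter fun a => a ∈ N).card = 896 := by
      rw [← hNc, Nat.card_eq_fintype_card, Fintype.card_subtype]
    rw [hfN] at hle
    have hScard : ∀ S : Sylow 2 N, Nat.card (S : Subgroup N) = 128 := by
      intro S
      exact card_sylow_two S (by rw [hNc]; norm_num) (by rw [hNc]; norm_num)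
    have hSZ : ∀ S : Sylow 2 N,
        ((S : Subgroup N).map N.subtype : Set (Ct t)) = (Z : Set (Ct t)) := by
      intro S
      have hsubS : ((S : Subgroup N).map N.subtype : Set (Ct t)) ⊆ (Z : Set (Ct t)) := by
        rintro _ ⟨a, ha, rfl⟩
        refine Finset.mem_filter.mpr ⟨Finset.mem_univ _, a.2, ?_⟩
        have h1 : (⟨a, ha⟩ : (S : Subgroup N)) ^ 128 = 1 := by
          rw [← hScard S]; exact pow_card_eq_one'
        exact congrArg (fun q : (S : Subgroup N) => ((q : N) : (Ct t))) h1
      refine Set.eq_of_subset_of_ncard_le hsubS ?_ (Set.toFinite _)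
      rw [Set.ncard_coe_finset]
      show Z.card ≤ _
      rw [← Nat.card_coe_set_eq]
      show Z.card ≤ Nat.card ((S : Subgroup N).map N.subtype)
      rw [card_map_of_injective N.subtype_injective, hScard]
      omega
    haveI : Subsingleton (Sylow 2 N) := ⟨fun S S' => Sylow.ext
      (map_injective N.subtype_injective (SetLike.coe_injective ((hSZ S).trans (hSZ S').symm)))⟩
    haveI := S.characteristic_of_subsingleton
    have hle2 := le_core2 (N := (S : Subgroup N).map N.subtype) (S.2.map N.subtype)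
    have := card_dvd_of_le hle2
    rw [card_map_of_injective N.subtype_injective, hScard, hQ] at this
    norm_num at this
  -- three, seven or twenty-one Sylow two-subgroups
  obtain ⟨S⟩ : Nonempty (Sylow 2 (Ct t)) := inferInstance
  have hScard : ∀ S : Sylow 2 (Ct t), Nat.card (S : Subgroup (Ct t)) = 128 := by
    intro S
    exact card_sylow_two S (by rw [hcard]; norm_num) (by rw [hcard]; norm_num)
  have hsmall : ∀ (X : Type u) [MulAction (Ct t) X] [IsPretransitive (Ct t) X] [Finite X],
      1 < Nat.card X → Nat.card X ≤ 7 → (∀ p : X, t' • p = p) → False := by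
    intro X _ _ _ h1 h2 hfix
    set φ := MulAction.toPermHom (Ct t) X with hφ
    have hker : φ.ker = core2 (Ct t) := by
      refine (hnormal φ.ker inferInstance (Equiv.ext hfix)).resolve_left fun h => ?_
      haveI : Nontrivial X := Finite.one_lt_card_iff_nontrivial.mp h1
      obtain ⟨a, b, hab⟩ := exists_pair_ne X
      obtain ⟨c, hc⟩ := exists_smul_eq (Ct t) a b
      have hc1 : φ c = 1 := MonoidHom.mem_ker.mp (h ▸ mem_top c)
      exact hab ((Equiv.congr_fun hc1 a).symm.trans hc)
    have hr : Nat.card φ.range = 1344 := by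
      rw [← index_ker, hker]
      have := (core2 (Ct t)).card_mul_index
      rw [hQ, hcard] at this
      omega
    have hd := card_subgroup_dvd_card φ.range
    rw [hr, Nat.card_perm] at hd
    interval_cases (Nat.card X) <;> norm_num [Nat.factorial] at hd
  -- pass to the quotient
  set π := QuotientGroup.mk' (core2 (Ct t)) with hπ
  have hπt : π t' = 1 := (QuotientGroup.eq_one_iff t').mpr htQ
  have hcomap : ∀ M : Subgroup ((Ct t) ⧸ core2 (Ct t)),
      (M.comap π).index = M.index := fun M =>
    M.index_comap_of_surjective (QuotientGroup.mk'_surjective _)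
  have hHc : Nat.card ((Ct t) ⧸ core2 (Ct t)) = 1344 := by
    rw [← Subgroup.index_eq_card]
    have := (core2 (Ct t)).card_mul_index
    rw [hQ, hcard] at this
    omega
  refine no_group_1344 hHc ?_ ?_ ?_
  · intro N hN hp
    haveI := hN
    have hker : IsPGroup 2 π.ker := by
      rw [hπ, QuotientGroup.ker_mk']; exact core2_isPGroup _
    have hle := le_core2 (hp.comap_of_ker_isPGroup π hker)
    rw [eq_bot_iff]
    intro a ha
    obtain ⟨c, rfl⟩ := QuotientGroup.mk'_surjective _ a
    exact mem_bot.mpr ((QuotientGroup.eq_one_iff c).mpr (hle ha))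
  · intro M hM
    by_contra hle
    push Not at hle
    have hne : (M.comap π).index ≠ 1 := fun h => hM (index_eq_one.mp ((hcomap M).symm.trans h))
    have h0 : (M.comap π).index ≠ 0 := Subgroup.index_ne_zero_of_finite
    refine hsmall ((Ct t) ⧸ M.comap π) (by rw [← Subgroup.index_eq_card]; omega)
      (by rw [← Subgroup.index_eq_card, hcomap]; exact hle) fun p => ?_
    induction p using QuotientGroup.induction_on
    rename_i c
    change QuotientGroup.mk (t' * c) = QuotientGroup.mk c
    rw [QuotientGroup.eq, ← hcomm c, mul_inv_rev, inv_mul_cancel_right]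
    refine inv_mem ?_
    rw [Subgroup.mem_comap, hπt]
    exact one_mem M
  · intro x hx h4
    obtain ⟨x0, rfl⟩ := QuotientGroup.mk'_surjective _ x
    have h32 : x0 ^ 3 * x0 ^ 3 = 1 := by
      have h : x0 ^ 3 ∈ core2 (Ct t) := by
        rw [← QuotientGroup.eq_one_iff, ← QuotientGroup.mk'_apply, map_pow, ← hx]
        exact pow_orderOf_eq_one _
      have h1 : (⟨_, h⟩ : core2 (Ct t)) ^ 2 = 1 := by rw [← hQ]; exact pow_card_eq_one'
      rw [← pow_two]
      exact congrArg Subtype.val h1
    set x1 := x0 ^ 4 with hx1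
    have hπx : π x1 = π x0 := by
      rw [hx1, map_pow, show 4 = 3 + 1 from rfl, pow_succ]
      nth_rewrite 1 [← hx]
      rw [pow_orderOf_eq_one, one_mul]
    have h13 : x1 ^ 3 = 1 := by
      rw [hx1, ← pow_mul, show 4 * 3 = (3 + 3) * 2 from rfl, pow_mul, pow_add, h32, one_pow]
    have ho : orderOf x1 = 3 := orderOf_eq_prime h13 fun h => by
      rw [h, map_one] at hπx
      rw [← hπx, orderOf_one] at hx
      norm_num at hx
    rw [← hπx] at h4
    have heq : (centralizer ({π x1} : Set _)).comap π = centralizer ({x1} : Set (Ct t)) := by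
      refine le_antisymm (fun g hg => ?_) (fun g hg => ?_)
      · rw [Subgroup.mem_comap, mem_centralizer_singleton_iff, ← map_mul, ← map_mul] at hg
        have hq : x1⁻¹ * (g * x1 * g⁻¹) ∈ core2 (Ct t) := by
          rw [← QuotientGroup.eq_one_iff, ← QuotientGroup.mk'_apply, ← hπ, map_mul,
            map_mul _ _ g⁻¹, hg, map_mul π x1 g, mul_assoc (π x1), map_inv, map_inv,
            mul_inv_cancel, mul_one, inv_mul_cancel]
        rw [hQz] at hq
        obtain ⟨k, hk⟩ := mem_zpowers_iff.mp hq
        have hgx : g * x1 * g⁻¹ = x1 * t' ^ k := by rw [hk]; group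
        have hk0 : t' ^ k = 1 := by
          have h3 : (x1 * t' ^ k) ^ 3 = 1 := by rw [← hgx, conj_pow, h13]; group
          have hc : Commute x1 (t' ^ k) := (show Commute x1 t' from hcomm x1).zpow_right k
          rw [hc.mul_pow, h13, one_mul] at h3
          have h2 : (t' ^ k) ^ 2 = 1 := by
            rw [pow_two, ← zpow_add, show k + k = 2 * k by ring, zpow_mul,
              show (2 : ℤ) = ((2 : ℕ) : ℤ) from rfl, zpow_natCast, ← hto, pow_orderOf_eq_one,
              one_zpow]
          have := (pow_gcd_eq_one (a := t' ^ k)).mpr ⟨h2, h3⟩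
          simpa using this
        rw [hk0, mul_one] at hgx
        exact mem_centralizer_singleton_iff.mpr (mul_inv_eq_iff_eq_mul.mp hgx)
      · rw [Subgroup.mem_comap, mem_centralizer_singleton_iff, ← map_mul, ← map_mul,
          mem_centralizer_singleton_iff.mp hg]
    have h12 := cent_three F ht ho
    have hm := (centralizer ({x1} : Set (Ct t))).card_mul_index
    rw [← heq, hcomap, heq, h12, hcard] at hm
    have hm' := (centralizer ({π x1} : Set ((Ct t) ⧸ core2 (Ct t)))).card_mul_index
    rw [hHc] at hm'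
    obtain ⟨e, he⟩ := h4
    have he' : Nat.card (centralizer ({π x1} : Set ((Ct t) ⧸ core2 (Ct t)))) = 4 * e := he
    have hi : (centralizer ({π x1} : Set ((Ct t) ⧸ core2 (Ct t)))).index = 224 := by omega
    rw [he', hi] at hm'
    omega

theorem card_core2 (F : Facts G) {t : G} (ht : orderOf t = 2) :
    Nat.card (core2 (Ct t)) = 16 := by
  rcases card_core2_cases F ht with h | h | h
  · exact absurd h (card_core2_ne_two F ht)
  · exact h
  · exact absurd h (card_core2_ne_128 F ht)

/-- In a group of order sixteen with a central involution whose complement carries two free orbits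
of an element of order seven, every element is an involution. -/
theorem core2_sq (F : Facts G) {t : G} (ht : orderOf t = 2)
    (a : (Ct t)) (ha : a ∈ core2 (Ct t)) :
    a * a = 1 := by
  haveI h2 : Fact (Nat.Prime 2) := ⟨Nat.prime_two⟩
  haveI h7 : Fact (Nat.Prime 7) := ⟨by norm_num⟩
  classical
  obtain ⟨hcard, -, -⟩ := cent_two F ht
  have hQ := card_core2 F ht
  have hfx := fun (a y : (Ct t)) => core2_fixed F ht (a := a) (y := y)
  have htQ := self_mem_core2 ht
  have hcomm := self_comm t
  set t' : (Ct t) := self t with ht'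
  have hto : orderOf t' = 2 := by rw [← Subgroup.orderOf_coe]; exact ht
  have htt : t' * t' = 1 := by rw [← pow_two, ← hto]; exact pow_orderOf_eq_one _
  haveI := Fintype.ofFinite (Ct t)
  let Q : Finset (Ct t) := Finset.univ.filter fun a => a ∈ core2 (Ct t)
  have hmemQ : ∀ a : (Ct t), a ∈ Q ↔ a ∈ core2 (Ct t) := fun a => by simp [Q]
  have hQc : Q.card = 16 := by rw [← hQ, Nat.card_eq_fintype_card, Fintype.card_subtype]
  -- some element outside the centre squares into it
  obtain ⟨s, hs, hs1, hst, hs2⟩ : ∃ s ∈ core2 (Ct t), s ≠ 1 ∧ s ≠ t' ∧ (s * s = 1 ∨ s * s = t') := by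
    obtain ⟨b, hb, hb'⟩ := Finset.exists_mem_notMem_of_card_lt_card
      (show ({1, t'} : Finset (Ct t)).card < Q.card by
        rw [hQc]; exact lt_of_le_of_lt Finset.card_le_two (by norm_num))
    rw [hmemQ] at hb
    simp only [Finset.mem_insert, Finset.mem_singleton, not_or] at hb'
    have h16 : b ^ (2 ^ 4) = 1 := by
      have : (⟨b, hb⟩ : core2 (Ct t)) ^ (2 ^ 4) = 1 := by
        rw [show 2 ^ 4 = Nat.card (core2 (Ct t)) by rw [hQ]; norm_num]; exact pow_card_eq_one'
      exact congrArg Subtype.val this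
    have hex : ∃ j, b ^ (2 ^ j) = 1 ∨ b ^ (2 ^ j) = t' := ⟨4, Or.inl h16⟩
    obtain ⟨j, hj, hmin⟩ : ∃ j, (b ^ (2 ^ j) = 1 ∨ b ^ (2 ^ j) = t') ∧
        ∀ i < j, ¬ (b ^ (2 ^ i) = 1 ∨ b ^ (2 ^ i) = t') :=
      ⟨Nat.find hex, Nat.find_spec hex, fun i hi => Nat.find_min hex hi⟩
    rcases Nat.eq_zero_or_pos j with rfl | hpos
    · rw [pow_zero, pow_one] at hj
      exact absurd hj (by rintro (h | h); exacts [hb'.1 h, hb'.2 h])
    · obtain ⟨i, rfl⟩ : ∃ i, j = i + 1 := ⟨j - 1, by omega⟩
      have := hmin i (by omega)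
      push Not at this
      refine ⟨b ^ (2 ^ i), pow_mem hb _, this.1, this.2, ?_⟩
      rw [pow_succ, pow_mul, pow_two] at hj
      exact hj
  obtain ⟨y, hy⟩ := exists_prime_orderOf_dvd_card' (G := (Ct t)) 7 (by rw [hcard]; norm_num)
  let orb : Fin 7 × Fin 2 → (Ct t) := fun q => y ^ (q.1 : ℕ) * s * (y ^ (q.1 : ℕ))⁻¹ * t' ^ (q.2 : ℕ)
  have horbQ : ∀ q, orb q ∈ core2 (Ct t) := fun q =>
    mul_mem ((core2_normal (Ct t)).conj_mem _ hs _) (pow_mem htQ _)
  have hys : ∀ d : ℕ, ¬ 7 ∣ d → ∀ c : Fin 2, y ^ d * s * (y ^ d)⁻¹ ≠ s * t' ^ (c : ℕ) := by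
    intro d hd c hc
    have hd7 : orderOf (y ^ d) = 7 := by
      rw [orderOf_pow, hy, Nat.Coprime.gcd_eq_one ((h7.out.coprime_iff_not_dvd).mpr hd),
        Nat.div_one]
    set z := y ^ d with hz
    have hpow : ∀ n : ℕ, z ^ n * s * (z ^ n)⁻¹ = s * (t' ^ (c : ℕ)) ^ n := by
      intro n
      induction n with
      | zero => simp
      | succ n ih =>
        rw [pow_succ', pow_succ' (t' ^ (c : ℕ))]
        calc z * z ^ n * s * (z * z ^ n)⁻¹ = z * (z ^ n * s * (z ^ n)⁻¹) * z⁻¹ := by group
          _ = z * s * z⁻¹ * (z * (t' ^ (c : ℕ)) ^ n * z⁻¹) := by rw [ih]; group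
          _ = s * (t' ^ (c : ℕ) * (t' ^ (c : ℕ)) ^ n) := by
            rw [hc, ← pow_mul, (show Commute z t' from hcomm z).pow_right _ |>.eq,
              mul_inv_cancel_right, mul_assoc]
    have h := hpow 7
    rw [← hd7, pow_orderOf_eq_one, one_mul, inv_one, mul_one, left_eq_mul, hd7, ← pow_mul] at h
    have hc0 : (c : ℕ) = 0 := by
      have := orderOf_dvd_of_pow_eq_one h
      rw [hto] at this
      have := c.isLt
      omega
    rw [hc0, pow_zero, mul_one] at hc
    rcases hfx s z hs hd7 (mul_inv_eq_iff_eq_mul.mp hc).symm with h' | h'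
    · exact hs1 h'
    · exact hst h'
  have horbinj : Function.Injective orb := by
    have key : ∀ (i j : ℕ), i < j → j < 7 → ∀ b c : Fin 2,
        y ^ i * s * (y ^ i)⁻¹ * t' ^ (b : ℕ) ≠ y ^ j * s * (y ^ j)⁻¹ * t' ^ (c : ℕ) := by
      intro i j hij hj b c h
      refine hys (j - i) (fun hdd => by have := Nat.le_of_dvd (by omega) hdd; omega)
        ⟨((b : ℕ) + c) % 2, Nat.mod_lt _ (by norm_num)⟩ ?_
      simp only
      have emod : ∀ n : ℕ, t' ^ (n % 2) = t' ^ n := fun n => by
        rw [← hto]; exact pow_mod_orderOf t' n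
      rw [emod, pow_add]
      have ht2 : t' ^ (c : ℕ) * t' ^ (c : ℕ) = 1 := by
        rw [← (show Commute t' t' from Commute.refl _).mul_pow, htt, one_pow]
      have hct : ∀ (n : ℕ) (g : (Ct t)), g * t' ^ n = t' ^ n * g := fun n g =>
        ((show Commute g t' from hcomm g).pow_right n).eq
      obtain ⟨e, rfl⟩ : ∃ e, j = i + e := ⟨j - i, by omega⟩
      rw [Nat.add_sub_cancel_left]
      rw [pow_add] at h
      apply mul_left_cancel (a := y ^ i)
      apply mul_right_cancel (b := (y ^ i)⁻¹)
      calc y ^ i * (y ^ e * s * (y ^ e)⁻¹) * (y ^ i)⁻¹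
          = y ^ i * y ^ e * s * (y ^ i * y ^ e)⁻¹ * (t' ^ (c : ℕ) * t' ^ (c : ℕ)) := by
            rw [ht2, mul_one]; group
        _ = y ^ i * s * (y ^ i)⁻¹ * (t' ^ (b : ℕ) * t' ^ (c : ℕ)) := by
            rw [← mul_assoc, ← h, mul_assoc]
        _ = y ^ i * (s * (t' ^ (b : ℕ) * t' ^ (c : ℕ))) * (y ^ i)⁻¹ := by
            rw [← pow_add]
            simp only [mul_assoc]
            rw [← hct ((b : ℕ) + c) (y ^ i)⁻¹]
    rintro ⟨i, b⟩ ⟨j, c⟩ h
    rcases lt_trichotomy (i : ℕ) (j : ℕ) with hlt | heq | hgt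
    · exact absurd h (key i j hlt j.isLt b c)
    · obtain rfl : i = j := Fin.ext heq
      have hbc : t' ^ (b : ℕ) = t' ^ (c : ℕ) := mul_left_cancel h
      have : (b : ℕ) = (c : ℕ) := by
        have := pow_inj_mod.mp hbc
        rw [hto] at this
        have := b.isLt; have := c.isLt
        omega
      exact Prod.ext rfl (Fin.ext this)
    · exact absurd h.symm (key j i hgt i.isLt c b)
  have hsqorb : ∀ q, orb q * orb q = s * s := by
    rintro ⟨i, b⟩
    have hct : ∀ g : (Ct t), g * t' ^ (b : ℕ) = t' ^ (b : ℕ) * g := fun g =>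
      ((show Commute g t' from hcomm g).pow_right _).eq
    have hb2 : t' ^ (b : ℕ) * t' ^ (b : ℕ) = 1 := by
      rw [← (show Commute t' t' from Commute.refl _).mul_pow, htt, one_pow]
    set k := y ^ (i : ℕ) with hk
    calc k * s * k⁻¹ * t' ^ (b : ℕ) * (k * s * k⁻¹ * t' ^ (b : ℕ))
        = k * s * k⁻¹ * (k * s * k⁻¹) * (t' ^ (b : ℕ) * t' ^ (b : ℕ)) := by
          exact (show Commute (t' ^ (b : ℕ)) (k * s * k⁻¹) from
            (hct _).symm).mul_mul_mul_comm _ _
      _ = k * (s * s) * k⁻¹ := by rw [hb2]; group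
      _ = s * s := by
        rcases hs2 with h | h <;> rw [h]
        · simp
        · rw [hcomm k, mul_inv_cancel_right]
  have hsq : ∀ b ∈ core2 (Ct t), b ≠ 1 → b ≠ t' → b * b = s * s := by
    intro b hb hb1 hbt
    by_cases hex : ∃ q, orb q = b
    · obtain ⟨q, rfl⟩ := hex; exact hsqorb q
    exfalso
    push Not at hex
    have hsub : insert 1 (insert t' (insert b (Finset.univ.image orb))) ⊆ Q := by
      intro z hz
      rw [hmemQ]
      simp only [Finset.mem_insert, Finset.mem_image, Finset.mem_univ, true_and] at hz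
      rcases hz with rfl | rfl | rfl | ⟨q, rfl⟩
      exacts [one_mem _, htQ, hb, horbQ q]
    have hno : ∀ q, orb q ≠ 1 ∧ orb q ≠ t' := by
      rintro ⟨i, c⟩
      have h1 : y ^ (i : ℕ) * s * (y ^ (i : ℕ))⁻¹ ∉ ({1, t'} : Set (Ct t)) := by
        rintro (h | h)
        · exact hs1 (by simpa using h)
        · refine hst (mul_left_cancel (a := y ^ (i : ℕ))
            ((mul_inv_eq_iff_eq_mul.mp h).trans (hcomm _).symm))
      have ht1 : t' ≠ 1 := fun h => by rw [h, orderOf_one] at hto; norm_num at hto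
      obtain hc | hc : (c : ℕ) = 0 ∨ (c : ℕ) = 1 := by have := c.isLt; omega
      · simp only [orb, hc, pow_zero, mul_one]
        exact ⟨fun h => h1 (Or.inl h), fun h => h1 (Or.inr h)⟩
      · simp only [orb, hc, pow_one]
        refine ⟨fun h => h1 (Or.inr ?_), fun h => h1 (Or.inl ?_)⟩
        · rw [eq_inv_of_mul_eq_one_left h]; exact inv_eq_of_mul_eq_one_right htt
        · exact mul_right_cancel (h.trans (one_mul t').symm)
    have hc := Finset.card_le_card hsub
    rw [Finset.card_insert_of_notMem, Finset.card_insert_of_notMem, Finset.card_insert_of_notMem,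
      Finset.card_image_of_injective _ horbinj, Finset.card_univ, Fintype.card_prod,
      Fintype.card_fin, Fintype.card_fin, hQc] at hc
    · omega
    · simp only [Finset.mem_image, Finset.mem_univ, true_and, not_exists]
      exact hex
    · simp only [Finset.mem_insert, Finset.mem_image, Finset.mem_univ, true_and, not_or,
        not_exists]
      exact ⟨Ne.symm hbt, fun q => (hno q).2⟩
    · simp only [Finset.mem_insert, Finset.mem_image, Finset.mem_univ, true_and, not_or,
        not_exists]
      exact ⟨fun h => by rw [← h, orderOf_one] at hto; norm_num at hto, Ne.symm hb1,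
        fun q => (hno q).1⟩
  rcases eq_or_ne a 1 with rfl | ha1
  · exact one_mul 1
  rcases eq_or_ne a t' with rfl | hat
  · exact htt
  rw [hsq a ha ha1 hat]
  refine hs2.resolve_right fun hst2 => ?_
  -- if all squares equal the involution, distinct cosets anticommute
  have hne : ∀ z : (Ct t), z ∈ core2 (Ct t) → z ≠ 1 → z ≠ t' → z * z = t' := fun z h h1 h2 =>
    (hsq z h h1 h2).trans hst2
  have hanti : ∀ u v : (Ct t), u ∈ core2 (Ct t) → v ∈ core2 (Ct t) → u ≠ 1 → u ≠ t' → v ≠ 1 → v ≠ t' →
      u * v ≠ 1 → u * v ≠ t' → v * u = t' * (u * v) := by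
    intro u v hu hv hu1 hut hv1 hvt huv1 huvt
    have e1 := hne u hu hu1 hut
    have e2 := hne v hv hv1 hvt
    have e3 := hne _ (mul_mem hu hv) huv1 huvt
    calc v * u = u⁻¹ * (u * v * (u * v)) * v⁻¹ := by group
      _ = t' * (u⁻¹ * v⁻¹) := by rw [e3, ← mul_assoc t', ← hcomm u⁻¹]
      _ = t' * (u * v) := by
        have hu' : u⁻¹ = t' * u := inv_eq_of_mul_eq_one_left (by rw [mul_assoc, e1, htt])
        have hv' : v⁻¹ = v * t' := inv_eq_of_mul_eq_one_right (by rw [← mul_assoc, e2, htt])
        congr 1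
        rw [hu', hv', mul_assoc, ← mul_assoc u, hcomm (u * v), ← mul_assoc t' t', htt, one_mul]
  obtain ⟨b, hb, hbn⟩ := Finset.exists_mem_notMem_of_card_lt_card
    (show ({1, t', s, s * t'} : Finset (Ct t)).card < Q.card by
      rw [hQc]; exact lt_of_le_of_lt Finset.card_le_four (by norm_num))
  rw [hmemQ] at hb
  simp only [Finset.mem_insert, Finset.mem_singleton, not_or] at hbn
  obtain ⟨c, hc, hcn⟩ := Finset.exists_mem_notMem_of_card_lt_card
    (show (({1, t', s, s * t'} : Finset (Ct t)) ∪
        ({b, b * t', b * s, b * s * t'} : Finset (Ct t))).card < Q.card by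
      rw [hQc]
      refine lt_of_le_of_lt ((Finset.card_union_le _ _).trans
        (Nat.add_le_add Finset.card_le_four Finset.card_le_four)) (by norm_num))
  rw [hmemQ] at hc
  simp only [Finset.mem_union, Finset.mem_insert, Finset.mem_singleton, not_or] at hcn
  obtain ⟨⟨hb1, hbt, hbs, hbst⟩, ⟨⟨hc1, hct, hcs, hcst⟩, hcb, hcbt, hcbs, hcbst⟩⟩ :=
    And.intro hbn hcn
  have hcases : ∀ u v : (Ct t), u ∈ core2 (Ct t) → u * u = t' → v ≠ u → v ≠ u * t' →
      u * v ≠ 1 ∧ u * v ≠ t' := by
    intro u v hu e hvu hvut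
    constructor
    · intro h
      apply hvut
      apply mul_left_cancel (a := u)
      rw [h, ← mul_assoc, e, htt]
    · intro h
      exact hvu (mul_left_cancel (h.trans e.symm))
  have esb := hcases s b hs hst2 hbs hbst
  have esc := hcases s c hs hst2 hcs hcst
  have eb : b * b = t' := hne b hb hb1 hbt
  have ec : c * c = t' := hne c hc hc1 hct
  have ebc := hcases b c hb eb hcb hcbt
  have esbc : s * (b * c) ≠ 1 ∧ s * (b * c) ≠ t' := by
    have hsb : b * s = t' * (s * b) := hanti s b hs hb hs1 hst hb1 hbt esb.1 esb.2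
    constructor
    · intro h
      -- `c = b⁻¹ s⁻¹ = b s`
      apply hcbs
      apply mul_left_cancel (a := s * b)
      rw [mul_assoc, h]
      calc (1 : (Ct t)) = t' * t' := htt.symm
        _ = s * (t' * s) := by rw [← hcomm s, ← mul_assoc, hst2]
        _ = s * (b * b * s) := by rw [eb]
        _ = s * b * (b * s) := by group
    · intro h
      apply hcbst
      apply mul_left_cancel (a := s * b)
      rw [mul_assoc, h]
      calc t' = t' * t' * t' := by rw [htt, one_mul]
        _ = s * (t' * s) * t' := by rw [← hcomm s, ← mul_assoc s, hst2]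
        _ = s * (b * b * s) * t' := by rw [eb]
        _ = s * b * (b * s * t') := by group
  have hsb : b * s = t' * (s * b) := hanti s b hs hb hs1 hst hb1 hbt esb.1 esb.2
  have hsc' : c * s = t' * (s * c) := hanti s c hs hc hs1 hst hc1 hct esc.1 esc.2
  have hsbc : b * c * s = t' * (s * (b * c)) :=
    hanti s (b * c) hs (mul_mem hb hc) hs1 hst ebc.1 ebc.2 esbc.1 esbc.2
  have h2eq : b * c * s = s * (b * c) := by
    calc b * c * s = b * (c * s) := mul_assoc _ _ _
      _ = b * (t' * (s * c)) := by rw [hsc']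
      _ = t' * (b * s) * c := by rw [← mul_assoc b t', hcomm b]; group
      _ = t' * t' * (s * (b * c)) := by rw [hsb]; group
      _ = s * (b * c) := by rw [htt, one_mul]
  have : t' = 1 := by
    have := h2eq.symm.trans hsbc
    exact (right_eq_mul.mp this)
  rw [this, orderOf_one] at hto
  norm_num at hto

end Cfsg.Agent.Lib.M23Nse5.Inv41

namespace Cfsg.Agent.Lib.M23Nse5

open Subgroup Inv41

universe u

/-- The involution centralizers of a group with the counts of the Mathieu group of degree 23. -/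
theorem inv_of_facts {G : Type u} [Group G] [Finite G] (F : Facts G) : Inv G := by
  refine ⟨fun s t hs ht => (cent_two F hs).2.1 t ht, fun t ht => (cent_two F ht).1, fun t ht => ?_⟩
  obtain ⟨hcard, -, -⟩ := cent_two F ht
  have hQ := card_core2 F ht
  have hsq := core2_sq F ht
  have hpgd := isPGroup_of_not_dvd F ht
  have hfx := fun (a y : (Ct t)) => core2_fixed F ht (a := a) (y := y)
  have htQ := self_mem_core2 ht
  set A : Subgroup G := (core2 (Ct t)).map (Ct t).subtype with hA
  have hAcard : Nat.card A = 16 := by rw [hA, card_map_of_injective (Ct t).subtype_injective, hQ]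
  have htA : t ∈ A := ⟨self t, htQ, rfl⟩
  have hnorm : (Ct t) ≤ normalizer (A : Set G) := by
    intro g hg
    rw [mem_normalizer_iff]
    intro h
    constructor
    · rintro ⟨a, ha, rfl⟩
      exact ⟨⟨g, hg⟩ * a * ⟨g, hg⟩⁻¹, (core2_normal (Ct t)).conj_mem _ ha _, rfl⟩
    · rintro ⟨a, ha, hag⟩
      refine ⟨⟨g, hg⟩⁻¹ * a * ⟨g, hg⟩, ?_, ?_⟩
      · simpa using (core2_normal (Ct t)).conj_mem _ ha ⟨g, hg⟩⁻¹
      · change g⁻¹ * (a : G) * g = h
        rw [show (a : G) = g * h * g⁻¹ from hag]
        group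
  refine ⟨A, htA, hAcard, ?_, ?_, hnorm, ?_⟩
  · rintro _ ⟨a, ha, rfl⟩
    exact congrArg Subtype.val (hsq a ha)
  · intro g hg
    have hgC : g ∈ (Ct t) := mem_centralizer_singleton_iff.mpr (mem_centralizer_iff.mp hg t htA).symm
    let N : Subgroup (Ct t) := centralizer (core2 (Ct t) : Set (Ct t))
    have h7 : ¬ 7 ∣ Nat.card N := by
      intro h7
      haveI : Fact (Nat.Prime 7) := ⟨by norm_num⟩
      obtain ⟨y, hy⟩ := exists_prime_orderOf_dvd_card' 7 h7
      have hy' : orderOf (y : (Ct t)) = 7 := by rw [Subgroup.orderOf_coe, hy]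
      classical
      have hsub : ∀ a ∈ core2 (Ct t), a = 1 ∨ a = self t := fun a ha =>
        hfx a y ha hy' (mem_centralizer_iff.mp y.2 a ha)
      have hle : Nat.card (core2 (Ct t)) ≤ 2 := by
        refine le_trans (Nat.card_le_card_of_injective
          (fun a : core2 (Ct t) => (if (a : (Ct t)) = 1 then (0 : Fin 2) else 1)) ?_) (by simp)
        intro a b hab
        rcases hsub a a.2 with ea | ea <;> rcases hsub b b.2 with eb | eb
        · exact Subtype.ext (ea.trans eb.symm)
        · by_cases e : self t = 1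
          · exact Subtype.ext (ea.trans (eb.trans e).symm)
          · simp [ea, eb, e] at hab
        · by_cases e : self t = 1
          · exact Subtype.ext ((ea.trans e).trans eb.symm)
          · simp [ea, eb, e] at hab
        · exact Subtype.ext (ea.trans eb.symm)
      omega
    have hN := le_core2 (hpgd N h7)
    refine ⟨⟨g, hgC⟩, hN ?_, rfl⟩
    rw [mem_centralizer_iff]
    intro a ha
    exact Subtype.ext (mem_centralizer_iff.mp hg a ⟨a, ha, rfl⟩)
  · intro B hB hBC hCB
    haveI : (B.subgroupOf (Ct t)).Normal := (normal_subgroupOf_iff_le_normalizer hBC).mpr hCB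
    have hBc : Nat.card (B.subgroupOf (Ct t)) = 16 := by
      rw [Nat.card_congr (subgroupOfEquivOfLe hBC).toEquiv, hB]
    have hle := le_core2 (IsPGroup.of_card (p := 2) (n := 4) (hBc.trans (by norm_num)))
    have he := Subgroup.eq_of_le_of_card_ge hle (by rw [hQ, hBc])
    rw [hA, ← he, subgroupOf_map_subtype, inf_of_le_left hBC]

/-- The centralizer of a commuting pair of elements of orders two and three has order twelve. -/
theorem card_cent_three {G : Type u} [Group G] [Finite G] (F : Facts G) :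
    ∀ t x : G, orderOf t = 2 → orderOf x = 3 → x * t = t * x →
      Nat.card ↥(Subgroup.centralizer ({t} : Set G) ⊓ Subgroup.centralizer ({x} : Set G)) = 12 := by
  intro t x ht hx hc
  have hx' : orderOf (⟨x, mem_centralizer_singleton_iff.mpr hc⟩ : Ct t) = 3 := by
    rw [Subgroup.orderOf_mk]; exact hx
  have h := cent_three F ht hx'
  have e : centralizer ({(⟨x, mem_centralizer_singleton_iff.mpr hc⟩ : Ct t)} : Set (Ct t)) =
      (Subgroup.centralizer ({t} : Set G) ⊓ Subgroup.centralizer ({x} : Set G)).subgroupOf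
        (Ct t) := by
    ext g
    constructor
    · intro hg
      exact ⟨g.2, mem_centralizer_singleton_iff.mpr
        (congrArg Subtype.val (mem_centralizer_singleton_iff.mp hg))⟩
    · intro hg
      exact mem_centralizer_singleton_iff.mpr (Subtype.ext (mem_centralizer_singleton_iff.mp hg.2))
  rw [e, Nat.card_congr (subgroupOfEquivOfLe inf_le_left).toEquiv] at h
  exact h

end Cfsg.Agent.Lib.M23Nse5
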