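import Cfsg.Agent.Lib.M23Nse5.Facts
import Cfsg.Agent.Lib.SFourFree.Rigid
import Cfsg.Agent.Lib.SmallGroups.PrimeSylow

/-!
The subgroup of order sixteen attached to an involution of a group with the counts of the Mathieu
group of degree 23 is attached to all fifteen of its involutions.
-/

set_option autoImplicit false

namespace Cfsg.Agent.Lib.M23Nse5

universe u

variable {G : Type u} [Group G]

namespace LocalAux

open Subgroup

theorem mem_cen {t g : G} : g ∈ centralizer ({t} : Set G) ↔ g * t = t * g := by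
  simp [mem_centralizer_iff, eq_comm]

theorem mem_cj {g : G} {A : Subgroup G} {x : G} : x ∈ cj g A ↔ g⁻¹ * x * g ∈ A := by
  constructor
  · rintro ⟨a, ha, rfl⟩
    simpa [mul_assoc] using ha
  · intro h
    exact ⟨g⁻¹ * x * g, h, by simp [mul_assoc]⟩

theorem conj_mem_cj {g a : G} {A : Subgroup G} (ha : a ∈ A) : g * a * g⁻¹ ∈ cj g A :=
  ⟨a, ha, by simp⟩

theorem cj_mul (g h : G) (A : Subgroup G) : cj g (cj h A) = cj (g * h) A := by
  ext x
  simp only [mem_cj, mul_inv_rev, mul_assoc]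

theorem card_cj (g : G) (A : Subgroup G) : Nat.card ↥(cj g A) = Nat.card A :=
  card_map_of_injective (MulAut.conj g).injective

theorem mem_norm_of_cj_eq {g : G} {A : Subgroup G} (h : cj g A = A) :
    g ∈ normalizer (A : Set G) := by
  rw [mem_normalizer_iff]
  intro y
  constructor
  · intro hy
    rw [← h]
    exact conj_mem_cj hy
  · intro hy
    rw [← h] at hy
    simpa [mem_cj, mul_assoc] using hy

theorem cj_norm (g : G) (A : Subgroup G) {n : G} (hn : n ∈ normalizer (A : Set G)) :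
    g * n * g⁻¹ ∈ normalizer (cj g A : Set G) := by
  rw [mem_normalizer_iff] at hn ⊢
  intro y
  rw [mem_cj, mem_cj, hn,
    show n * (g⁻¹ * y * g) * n⁻¹ = g⁻¹ * (g * n * g⁻¹ * y * (g * n * g⁻¹)⁻¹) * g by group]

theorem commute_of_sq {A : Subgroup G} (hA : ∀ a ∈ A, a * a = 1) {a b : G} (ha : a ∈ A)
    (hb : b ∈ A) : a * b = b * a := by
  have ia : a⁻¹ = a := inv_eq_of_mul_eq_one_right (hA a ha)
  have ib : b⁻¹ = b := inv_eq_of_mul_eq_one_right (hA b hb)
  have h := inv_eq_of_mul_eq_one_right (hA _ (mul_mem ha hb))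
  rw [mul_inv_rev, ia, ib] at h
  exact h.symm

theorem orderOf_two {a : G} (h : a * a = 1) (h1 : a ≠ 1) : orderOf a = 2 :=
  orderOf_eq_prime (by rw [pow_two, h]) h1

theorem mul_self_of_two {a : G} (h : orderOf a = 2) : a * a = 1 := by
  rw [← pow_two, ← h, pow_orderOf_eq_one]

variable [Finite G]

/-- `A` is the subgroup of order sixteen attached to the involution `t`. -/
structure Six (t : G) (A : Subgroup G) : Prop where
  inv : orderOf t = 2
  mem : t ∈ A
  card : Nat.card A = 16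
  sq : ∀ a ∈ A, a * a = 1
  cent : centralizer (A : Set G) ≤ A
  norm : centralizer ({t} : Set G) ≤ normalizer (A : Set G)

theorem Six.le_cen {t : G} {A : Subgroup G} (h : Six t A) {a : G} (ha : a ∈ A) :
    A ≤ centralizer ({a} : Set G) :=
  fun _ hb => mem_cen.2 (commute_of_sq h.sq hb ha)

theorem exists_six (I : Inv G) {t : G} (ht : orderOf t = 2) : ∃ A : Subgroup G, Six t A := by
  obtain ⟨A, h1, h2, h3, h4, h5, -⟩ := I.exists_sixteen t ht
  exact ⟨A, ht, h1, h2, h3, h4, h5⟩

theorem Six.eq (I : Inv G) {t : G} {A B : Subgroup G} (hA : Six t A) (hB : Six t B) : A = B := by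
  obtain ⟨C, -, -, -, -, -, hu⟩ := I.exists_sixteen t hA.inv
  rw [hu A hA.card (hA.le_cen hA.mem) hA.norm, hu B hB.card (hB.le_cen hB.mem) hB.norm]

theorem Six.conj {t : G} {A : Subgroup G} (h : Six t A) (g : G) :
    Six (g * t * g⁻¹) (cj g A) := by
  refine ⟨?_, conj_mem_cj h.mem, (card_cj g A).trans h.card, ?_, ?_, ?_⟩
  · rw [← h.inv]
    exact orderOf_injective (MulAut.conj g).toMonoidHom (MulAut.conj g).injective t
  · rintro _ ⟨a, ha, rfl⟩
    rw [← map_mul, h.sq a ha, map_one]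
  · intro c hc
    rw [mem_cj]
    refine h.cent (mem_centralizer_iff.2 fun a ha => ?_)
    have h2 := congrArg (fun z => g⁻¹ * z * g) (mem_centralizer_iff.1 hc _ (conj_mem_cj ha))
    simpa [mul_assoc] using h2
  · intro c hc
    rw [mem_cen] at hc
    have h2 : g⁻¹ * c * g ∈ centralizer ({t} : Set G) := by
      rw [mem_cen]
      have := congrArg (fun z => g⁻¹ * z * g) hc
      simpa [mul_assoc] using this
    have h3 := cj_norm g A (h.norm h2)
    simpa [mul_assoc] using h3

/-- The centralizer data of elements of order three. -/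
def ThreeHyp (G : Type u) [Group G] : Prop :=
  ∀ t x : G, orderOf t = 2 → orderOf x = 3 → x * t = t * x →
    Nat.card ↥(centralizer ({t} : Set G) ⊓ centralizer ({x} : Set G)) = 12

theorem two_pow_le_four {P : Subgroup G} (hP : IsPGroup 2 P) (h : Nat.card P ∣ 12) :
    Nat.card P ≤ 4 := by
  obtain ⟨k, hk⟩ := IsPGroup.iff_card.1 hP
  rw [hk] at h ⊢
  have : 2 ^ k ≤ 12 := Nat.le_of_dvd (by norm_num) h
  have hk' : k ≤ 3 := by
    by_contra hc
    have : 2 ^ 4 ≤ 2 ^ k := Nat.pow_le_pow_right (by norm_num) (by omega)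
    omega
  interval_cases k <;> revert h <;> norm_num

theorem isPGroup_two {A : Subgroup G} (h : ∀ a ∈ A, a * a = 1) : IsPGroup 2 A :=
  fun a => ⟨1, Subtype.ext (by simpa [pow_two] using h a a.2)⟩

/-- The configuration: an involution `t`, another one `s` in its subgroup, and an element `x` of
order three fixing both. -/
structure Conf (t s x : G) (A : Subgroup G) : Prop where
  six : Six t A
  hs : s ∈ A
  hs1 : s ≠ 1
  hst : s ≠ t
  hx : orderOf x = 3
  hxt : x * t = t * x
  hxs : x * s = s * x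

namespace Conf

variable {t s x : G} {A : Subgroup G} (c : Conf t s x A)

include c

theorem ts_comm : t * s = s * t := commute_of_sq c.six.sq c.six.mem c.hs

theorem s_two : orderOf s = 2 := orderOf_two (c.six.sq s c.hs) c.hs1

theorem t_ne : t ≠ 1 := fun h => by
  have := c.six.inv
  rw [h, orderOf_one] at this
  exact absurd this (by norm_num)

theorem ts_ne : t * s ≠ 1 := fun h => c.hst (by
  have h1 : t * t = 1 := c.six.sq t c.six.mem
  exact mul_left_cancel (h.trans h1.symm))

theorem ts_two : orderOf (t * s) = 2 :=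
  orderOf_two (c.six.sq _ (mul_mem c.six.mem c.hs)) c.ts_ne

theorem hxts : x * (t * s) = t * s * x := by
  rw [← mul_assoc, c.hxt, mul_assoc, c.hxs, mul_assoc]

theorem mem_or {P : Subgroup G} (h4 : Nat.card P ≤ 4) (ht : t ∈ P) (hs : s ∈ P) {a : G}
    (ha : a ∈ P) : a = 1 ∨ a = t ∨ a = s ∨ a = t * s := by
  classical
  by_contra hc
  push Not at hc
  obtain ⟨h1, h2, h3, h4'⟩ := hc
  have hsub : (({1, t, s, t * s, a} : Finset G) : Set G) ⊆ (P : Set G) := by
    intro z hz
    simp only [Finset.coe_insert, Finset.coe_singleton, Set.mem_insert_iff,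
      Set.mem_singleton_iff] at hz
    rcases hz with rfl | rfl | rfl | rfl | rfl
    exacts [one_mem _, ht, hs, mul_mem ht hs, ha]
  have hcard : ({1, t, s, t * s, a} : Finset G).card = 5 := by
    have e1 : t ≠ t * s := fun h => c.hs1 (left_eq_mul.1 h)
    have e2 : s ≠ t * s := fun h => c.t_ne (right_eq_mul.1 h)
    simp [Ne.symm c.t_ne, Ne.symm c.hs1, Ne.symm c.ts_ne, Ne.symm c.hst, Ne.symm h1, Ne.symm h2,
      Ne.symm h3, Ne.symm h4', e1, e2]
  have := Set.ncard_le_ncard hsub (Set.toFinite _)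
  rw [Set.ncard_coe_finset, hcard] at this
  have h' : (P : Set G).ncard = Nat.card P := (Nat.card_coe_set_eq _).symm
  omega

theorem fix_mem (H3 : ThreeHyp G) {P : Subgroup G} (hP : IsPGroup 2 P)
    (hPt : P ≤ centralizer ({t} : Set G)) (ht : t ∈ P) (hs : s ∈ P) {a : G} (ha : a ∈ P)
    (hax : a * x = x * a) : a = 1 ∨ a = t ∨ a = s ∨ a = t * s := by
  refine c.mem_or (P := P ⊓ centralizer ({x} : Set G)) ?_ ⟨ht, mem_cen.2 c.hxt.symm⟩
    ⟨hs, mem_cen.2 c.hxs.symm⟩ ⟨ha, mem_cen.2 hax⟩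
  refine two_pow_le_four (hP.to_le inf_le_left) ?_
  rw [← H3 t x c.six.inv c.hx c.hxt]
  exact card_dvd_of_le (inf_le_inf_right _ hPt)

theorem no_step (H3 : ThreeHyp G) {H K : Subgroup G} (hK : IsPGroup 2 K)
    (hKt : K ≤ centralizer ({t} : Set G)) (hle : H ≤ K) (ht : t ∈ H) (hs : s ∈ H)
    (hxH : x ∈ normalizer (H : Set G)) (hxK : x ∈ normalizer (K : Set G)) :
    3 ∣ Nat.card K - Nat.card H := by
  classical
  by_contra hc
  let X := zpowers x
  have hX : IsPGroup 3 X := IsPGroup.of_card (n := 1) (by rw [Nat.card_zpowers, c.hx, pow_one])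
  have hst : ∀ z : X, ∀ k : G, k ∈ (K : Set G) \ H → (z : G) * k * (z : G)⁻¹ ∈ (K : Set G) \ H := by
    rintro ⟨z, hz⟩ k ⟨hk1, hk2⟩
    have zK : z ∈ normalizer (K : Set G) := zpowers_le.2 hxK hz
    have zH : z ∈ normalizer (H : Set G) := zpowers_le.2 hxH hz
    exact ⟨(mem_normalizer_iff.1 zK k).1 hk1, fun h => hk2 ((mem_normalizer_iff.1 zH k).2 h)⟩
  letI : MulAction X ↥((K : Set G) \ H) :=
    { smul := fun z k => ⟨z * k * (z : G)⁻¹, hst z k k.2⟩
      one_smul := fun k => Subtype.ext (show ((1 : X) : G) * k * ((1 : X) : G)⁻¹ = k by simp)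
      mul_smul := fun z w k => Subtype.ext
        (show ((z * w : X) : G) * k * ((z * w : X) : G)⁻¹ = z * (w * k * (w : G)⁻¹) * (z : G)⁻¹ by
          push_cast; group) }
  have : Fact (Nat.Prime 3) := ⟨Nat.prime_three⟩
  have hcard : Nat.card ↥((K : Set G) \ H) = Nat.card K - Nat.card H := by
    rw [Nat.card_coe_set_eq, Set.ncard_sdiff hle (Set.toFinite _)]
    rfl
  obtain ⟨⟨k, hk1, hk2⟩, hfix⟩ :=
    hX.nonempty_fixed_point_of_prime_not_dvd_card ↥((K : Set G) \ H) (by rwa [hcard])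
  have he : x * k * x⁻¹ = k := congrArg Subtype.val (hfix ⟨x, mem_zpowers x⟩)
  rcases c.fix_mem H3 hK hKt (hle ht) (hle hs) hk1 (mul_inv_eq_iff_eq_mul.1 he).symm with
    rfl | rfl | rfl | rfl
  exacts [hk2 (one_mem _), hk2 ht, hk2 hs, hk2 (mul_mem ht hs)]

/-- The joint centralizer of `t`, `s` and `x`. -/
theorem cent_eq (H3 : ThreeHyp G) {v : G} (hv : v = t ∨ v = s ∨ v = t * s) :
    centralizer ({v} : Set G) ⊓ centralizer ({x} : Set G) ≤
      centralizer ({t} : Set G) ⊓ centralizer ({s} : Set G) := by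
  have hv2 : orderOf v = 2 := by
    rcases hv with rfl | rfl | rfl
    exacts [c.six.inv, c.s_two, c.ts_two]
  have hxv : x * v = v * x := by
    rcases hv with rfl | rfl | rfl
    exacts [c.hxt, c.hxs, c.hxts]
  set D := centralizer ({t} : Set G) ⊓ centralizer ({s} : Set G) ⊓ centralizer ({x} : Set G)
  have hle : D ≤ centralizer ({v} : Set G) ⊓ centralizer ({x} : Set G) := by
    rintro g ⟨⟨h1, h2⟩, h3⟩
    refine ⟨mem_cen.2 ?_, h3⟩
    have e1 := mem_cen.1 h1
    have e2 := mem_cen.1 h2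
    rcases hv with rfl | rfl | rfl
    · exact e1
    · exact e2
    · rw [← mul_assoc, e1, mul_assoc, e2, mul_assoc]
  have hmem : ∀ a, a * t = t * a → a * s = s * a → a * x = x * a → a ∈ D :=
    fun a h1 h2 h3 => ⟨⟨mem_cen.2 h1, mem_cen.2 h2⟩, mem_cen.2 h3⟩
  have h3 : 3 ∣ Nat.card D := by
    rw [← c.hx, ← Nat.card_zpowers]
    exact card_dvd_of_le (zpowers_le.2 (hmem x c.hxt c.hxs rfl))
  have h4 : 4 ∣ Nat.card D := by
    let P : Subgroup G := A ⊓ centralizer ({x} : Set G)
    have hP : 4 ≤ Nat.card P := by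
      classical
      have hsub : (({1, t, s, t * s} : Finset G) : Set G) ⊆ (P : Set G) := by
        intro z hz
        simp only [Finset.coe_insert, Finset.coe_singleton, Set.mem_insert_iff,
          Set.mem_singleton_iff] at hz
        rcases hz with rfl | rfl | rfl | rfl
        exacts [one_mem _, ⟨c.six.mem, mem_cen.2 c.hxt.symm⟩, ⟨c.hs, mem_cen.2 c.hxs.symm⟩,
          ⟨mul_mem c.six.mem c.hs, mem_cen.2 c.hxts.symm⟩]
      have hcard : ({1, t, s, t * s} : Finset G).card = 4 := by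
        have e1 : t ≠ t * s := fun h => c.hs1 (left_eq_mul.1 h)
        have e2 : s ≠ t * s := fun h => c.t_ne (right_eq_mul.1 h)
        simp [Ne.symm c.t_ne, Ne.symm c.hs1, Ne.symm c.ts_ne, Ne.symm c.hst, e1, e2]
      have := Set.ncard_le_ncard hsub (Set.toFinite _)
      rw [Set.ncard_coe_finset, hcard] at this
      exact this.trans_eq (Nat.card_coe_set_eq _).symm
    have h4' : Nat.card P = 4 := by
      have : Nat.card P ≤ 4 := by
        refine two_pow_le_four ((isPGroup_two c.six.sq).to_le inf_le_left) ?_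
        rw [← H3 t x c.six.inv c.hx c.hxt]
        exact card_dvd_of_le (inf_le_inf_right _ (c.six.le_cen c.six.mem))
      omega
    rw [← h4']
    exact card_dvd_of_le fun a ha => hmem a (commute_of_sq c.six.sq ha.1 c.six.mem)
      (commute_of_sq c.six.sq ha.1 c.hs) (mem_cen.1 ha.2)
  have h12 : 12 ∣ Nat.card D := Nat.Coprime.mul_dvd_of_dvd_of_dvd (m := 3) (n := 4) (by norm_num) h3 h4
  have heq : D = centralizer ({v} : Set G) ⊓ centralizer ({x} : Set G) :=
    eq_of_le_of_card_ge hle (by rw [H3 v x hv2 c.hx hxv]; exact Nat.le_of_dvd Nat.card_pos h12)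
  rw [← heq]
  exact inf_le_left

omit c in
theorem odd_mem {z g : G} (n : ℕ) (hg : orderOf g = 2 * n + 1) {X : Subgroup G}
    (h : g ^ 2 = z) (hz : z ∈ X) : g ∈ X := by
  subst h
  have : (g ^ 2) ^ (n + 1) = g := by
    rw [← pow_mul, show 2 * (n + 1) = orderOf g + 1 by omega, pow_succ, pow_orderOf_eq_one, one_mul]
  exact this ▸ X.pow_mem hz _

theorem exists_rot (F : Facts G) (H3 : ThreeHyp G) :
    ∃ g : G, g * t * g⁻¹ = s ∧ g * s * g⁻¹ = t * s := by
  classical
  have : Fact (Nat.Prime 2) := ⟨Nat.prime_two⟩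
  have : Fact (Nat.Prime 3) := ⟨Nat.prime_three⟩
  set C := centralizer ({x} : Set G)
  set V0 : Subgroup G := A ⊓ C
  have hVmem : ∀ a ∈ V0, a = 1 ∨ a = t ∨ a = s ∨ a = t * s := fun a ha =>
    c.fix_mem H3 (isPGroup_two c.six.sq) (c.six.le_cen c.six.mem) c.six.mem c.hs ha.1
      (mem_cen.1 ha.2)
  have htV : t ∈ V0 := ⟨c.six.mem, mem_cen.2 c.hxt.symm⟩
  have hsV : s ∈ V0 := ⟨c.hs, mem_cen.2 c.hxs.symm⟩
  have hVp : IsPGroup 2 (V0.subgroupOf C) :=
    ((isPGroup_two c.six.sq).to_le inf_le_left).of_equiv (subgroupOfEquivOfLe inf_le_right).symm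
  obtain ⟨P, hVP⟩ := hVp.exists_le_sylow
  have htP : (⟨t, htV.2⟩ : C) ∈ (P : Subgroup C) := hVP (mem_subgroupOf.2 htV)
  have hsP : (⟨s, hsV.2⟩ : C) ∈ (P : Subgroup C) := hVP (mem_subgroupOf.2 hsV)
  -- `P` is the four-group
  have hP : ∀ p ∈ (P : Subgroup C), (p : G) = 1 ∨ (p : G) = t ∨ (p : G) = s ∨ (p : G) = t * s := by
    have : Nontrivial (P : Subgroup C) := by
      refine ⟨⟨⟨_, htP⟩, 1, fun h => c.t_ne ?_⟩⟩
      exact congrArg (fun q : (P : Subgroup C) => ((q : C) : G)) h
    have := P.isPGroup'.center_nontrivial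
    have hdvd : 2 ∣ Nat.card (center (P : Subgroup C)) := by
      obtain ⟨n, hn⟩ := IsPGroup.iff_card.1 (P.isPGroup'.to_subgroup (center (P : Subgroup C)))
      rw [hn]
      refine dvd_pow_self 2 fun h => ?_
      rw [h, pow_zero] at hn
      exact absurd hn (Finite.one_lt_card).ne'
    obtain ⟨z, hz⟩ := exists_prime_orderOf_dvd_card' 2 hdvd
    set v : G := (((z : (P : Subgroup C)) : C) : G)
    have hv2 : orderOf v = 2 := by
      simp only [v, Subgroup.orderOf_coe, hz]
    have hvx : v * x = x * v := mem_cen.1 ((z : (P : Subgroup C)) : C).2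
    have hcomm : ∀ p ∈ (P : Subgroup C), v * (p : G) = (p : G) * v := fun p hp =>
      (congrArg (fun q : (P : Subgroup C) => ((q : C) : G)) (mem_center_iff.1 z.2 ⟨p, hp⟩)).symm
    have hvt : v * t = t * v := hcomm _ htP
    have hvs : v * s = s * v := hcomm _ hsP
    let Q : Subgroup G := (P : Subgroup C).map C.subtype ⊓ centralizer ({t} : Set G)
    have hQ : IsPGroup 2 Q := (P.isPGroup'.map C.subtype).to_le inf_le_left
    have hv : v = 1 ∨ v = t ∨ v = s ∨ v = t * s :=
      c.fix_mem H3 hQ inf_le_right ⟨⟨_, htP, rfl⟩, mem_cen.2 rfl⟩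
        ⟨⟨_, hsP, rfl⟩, mem_cen.2 c.ts_comm.symm⟩
        ⟨⟨_, (z : (P : Subgroup C)).2, rfl⟩, mem_cen.2 hvt⟩ hvx
    have hv' : v = t ∨ v = s ∨ v = t * s := hv.resolve_left fun h => by
      rw [h, orderOf_one] at hv2
      exact absurd hv2 (by norm_num)
    intro p hp
    have h1 : (p : G) ∈ centralizer ({t} : Set G) ⊓ centralizer ({s} : Set G) :=
      c.cent_eq H3 hv' ⟨mem_cen.2 (hcomm p hp).symm, p.2⟩
    exact c.fix_mem H3 hQ inf_le_right ⟨⟨_, htP, rfl⟩, mem_cen.2 rfl⟩
      ⟨⟨_, hsP, rfl⟩, mem_cen.2 c.ts_comm.symm⟩ ⟨⟨_, hp, rfl⟩, h1.1⟩ (mem_cen.1 p.2)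
  by_contra hno
  -- otherwise the four-group is central in its normalizer
  have hNC : normalizer ((P : Subgroup C) : Set C) ≤ centralizer ((P : Subgroup C) : Set C) := by
    intro g hg
    have himg : ∀ q ∈ (P : Subgroup C), (q : G) ≠ 1 →
        (g : G) * q * (g : G)⁻¹ = t ∨ (g : G) * q * (g : G)⁻¹ = s ∨
          (g : G) * q * (g : G)⁻¹ = t * s := by
      intro q hq hq1
      have := hP _ ((mem_normalizer_iff.1 hg q).1 hq)
      simp only [coe_mul, InvMemClass.coe_inv] at this
      exact this.resolve_left (by simpa using hq1)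
    have hfix : ∀ v : G, (v = t ∨ v = s ∨ v = t * s) → (g : G) * v * (g : G)⁻¹ = v →
        (g : G) * t = t * g ∧ (g : G) * s = s * g := by
      intro v hv he
      have := c.cent_eq H3 hv ⟨mem_cen.2 (mul_inv_eq_iff_eq_mul.1 he), g.2⟩
      exact ⟨mem_cen.1 this.1, mem_cen.1 this.2⟩
    have key : (g : G) * t = t * g ∧ (g : G) * s = s * g := by
      rcases himg _ htP c.t_ne with ht' | ht' | ht'
      · exact hfix t (Or.inl rfl) ht'
      · rcases himg _ hsP c.hs1 with hs' | hs' | hs'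
        · refine hfix (t * s) (Or.inr (Or.inr rfl)) ?_
          rw [show (g : G) * (t * s) * (g : G)⁻¹ = (g * t * (g : G)⁻¹) * (g * s * (g : G)⁻¹) by group]
          rw [show (g : G) * t * (g : G)⁻¹ = s from ht', show (g : G) * s * (g : G)⁻¹ = t from hs']
          exact c.ts_comm.symm
        · exact hfix s (Or.inr (Or.inl rfl)) hs'
        · exact absurd ⟨g, ht', hs'⟩ hno
      · rcases himg _ hsP c.hs1 with hs' | hs' | hs'
        · refine absurd ⟨(g : G)⁻¹, ?_, ?_⟩ hno
          · rw [inv_inv]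
            have := congrArg (fun z => (g : G)⁻¹ * z * g) hs'
            simpa [mul_assoc] using this.symm
          · rw [inv_inv]
            have e1 := congrArg (fun z => (g : G)⁻¹ * z * g) hs'
            have e2 := congrArg (fun z => (g : G)⁻¹ * z * g) ht'
            simp [mul_assoc] at e1 e2
            have : (g : G)⁻¹ * (t * s) * g = t := by simpa [mul_assoc] using e2.symm
            have h5 : (g : G)⁻¹ * s * g = ((g : G)⁻¹ * t * g) * ((g : G)⁻¹ * (t * s) * g) := by
              have h2 : t * (t * s) = s := by rw [← mul_assoc, c.six.sq t c.six.mem, one_mul]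
              rw [show ((g : G)⁻¹ * t * g) * ((g : G)⁻¹ * (t * s) * g) =
                (g : G)⁻¹ * (t * (t * s)) * g by group, h2]
            rw [h5, this, show (g : G)⁻¹ * t * g = s by simpa [mul_assoc] using e1.symm]
            exact c.ts_comm.symm
        · exact hfix s (Or.inr (Or.inl rfl)) hs'
        · have h6 : (g : G) * t * (g : G)⁻¹ = g * s * (g : G)⁻¹ := ht'.trans hs'.symm
          exact absurd (mul_left_cancel (mul_right_cancel h6)).symm c.hst
    refine mem_centralizer_iff.2 fun q hq => Subtype.ext ?_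
    simp only [coe_mul]
    rcases hP q hq with h | h | h | h <;> rw [h]
    · simp
    · exact key.1.symm
    · exact key.2.symm
    · rw [mul_assoc, ← key.2, ← mul_assoc, ← key.1, mul_assoc]
  -- Burnside
  set f := MonoidHom.transferSylow P hNC
  have hcompl := MonoidHom.ker_transferSylow_isComplement' P hNC
  have hodd : ¬ 2 ∣ Nat.card f.ker := MonoidHom.not_dvd_card_ker_transferSylow P hNC
  have hMX : ∀ m ∈ f.ker, (m : G) ∈ zpowers x := by
    have hfixX : ∀ v : G, (v = t ∨ v = s ∨ v = t * s) → ∀ m ∈ f.ker, (m : G) * v = v * m →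
        (m : G) ∈ zpowers x := by
      intro v hv m hm hmv
      have hxv : x * v = v * x := by
        rcases hv with rfl | rfl | rfl
        exacts [c.hxt, c.hxs, c.hxts]
      have hv2 : orderOf v = 2 := by
        rcases hv with rfl | rfl | rfl
        exacts [c.six.inv, c.s_two, c.ts_two]
      set D := centralizer ({v} : Set G) ⊓ C
      have hXD : zpowers x ≤ D := zpowers_le.2 ⟨mem_cen.2 hxv, mem_cen.2 rfl⟩
      have : ((zpowers x).subgroupOf D).Normal := by
        refine ⟨fun a ha d => ?_⟩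
        rw [mem_subgroupOf] at ha ⊢
        obtain ⟨k, hk⟩ := mem_zpowers_iff.1 ha
        have hdx : (d : G) * x = x * d := mem_cen.1 d.2.2
        simp only [coe_mul, InvMemClass.coe_inv]
        rw [← hk, ((Commute.zpow_right hdx k)).eq, mul_inv_cancel_right]
        exact zpow_mem (mem_zpowers x) k
      have hidx : ((zpowers x).subgroupOf D).index = 4 := by
        have h := ((zpowers x).subgroupOf D).card_mul_index
        rw [Nat.card_congr (subgroupOfEquivOfLe hXD).toEquiv, Nat.card_zpowers, c.hx,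
          H3 v x hv2 c.hx hxv] at h
        omega
      have hmD : (m : G) ∈ D := ⟨mem_cen.2 hmv, m.2⟩
      have h4 : (m : G) ^ 4 ∈ zpowers x := by
        have := Subgroup.pow_index_mem ((zpowers x).subgroupOf D) (⟨_, hmD⟩ : D)
        rw [hidx, mem_subgroupOf] at this
        exact this
      have ho : ¬ 2 ∣ orderOf (m : G) := fun hd => hodd (hd.trans (by
        rw [Subgroup.orderOf_coe]
        exact f.ker.orderOf_dvd_natCard hm))
      obtain ⟨n, hn⟩ : Odd (orderOf (m : G)) := Nat.odd_iff.2 (by omega)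
      exact odd_mem n hn rfl (odd_mem n (by
        rw [Nat.Coprime.orderOf_pow (by rw [Nat.coprime_two_right, hn]; exact ⟨n, rfl⟩), hn])
        (show ((m : G) ^ 2) ^ 2 = (m : G) ^ 4 by rw [← pow_mul]) h4)
    have hinv : ∀ v : G, ∀ hv : v = t ∨ v = s ∨ v = t * s, ∀ hvC : v ∈ C, ∀ m ∈ f.ker,
        v * (m : G) * v * m ∈ zpowers x := by
      intro v hv hvC m hm
      have hv2 : v * v = 1 := by
        rcases hv with rfl | rfl | rfl
        exacts [c.six.sq _ c.six.mem, c.six.sq _ c.hs, c.six.sq _ (mul_mem c.six.mem c.hs)]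
      have hvi : v⁻¹ = v := inv_eq_of_mul_eq_one_right hv2
      let cv : G →* G := (MulAut.conj v).toMonoidHom
      have hcv : ∀ a, cv a = v * a * v := fun a => by simp [cv, hvi]
      have hcc : ∀ a, cv (cv a) = a := fun a => by
        rw [hcv, hcv, show v * (v * a * v) * v = (v * v) * a * (v * v) by group, hv2, one_mul,
          mul_one]
      set k : C := m⁻¹ * (⟨v, hvC⟩ * m * ⟨v, hvC⟩⁻¹) with hk
      have hkM : k ∈ f.ker := mul_mem (inv_mem hm) ((MonoidHom.normal_ker f).conj_mem m hm _)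
      have hkv : (k : G) = (m : G)⁻¹ * cv m := by simp [hk, hcv, hvi]
      have hko : ¬ 2 ∣ orderOf k := fun hd => hodd (hd.trans (by
        exact f.ker.orderOf_dvd_natCard hkM))
      obtain ⟨n, hn⟩ : Odd (orderOf k) := Nat.odd_iff.2 (by omega)
      set r : C := k ^ (n + 1)
      have hrr : r * r = k := by
        rw [← pow_add, show n + 1 + (n + 1) = orderOf k + 1 by omega, pow_succ, pow_orderOf_eq_one,
          one_mul]
      have hrv : cv (r : G) = (r : G)⁻¹ := by
        have : cv (k : G) = (k : G)⁻¹ := by rw [hkv, map_mul, map_inv, hcc, mul_inv_rev, inv_inv]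
        simp only [r, coe_pow, map_pow, this, inv_pow]
      have hfix : cv ((m : G) * r) = (m : G) * r := by
        have : cv (m : G) = (m : G) * ((r : G) * r) := by
          rw [← coe_mul, hrr, hkv, mul_inv_cancel_left]
        rw [map_mul, hrv, this]
        group
      have hz : ((m : G) * r) ∈ zpowers x := by
        have := hfixX v hv (m * r) (mul_mem hm (pow_mem hkM _)) (by
          rw [hcv] at hfix
          have h2 := congrArg (fun a => v * a) hfix
          simpa [← mul_assoc, hv2, coe_mul] using h2)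
        simpa using this
      obtain ⟨j, hj⟩ := mem_zpowers_iff.1 hz
      have hrx : Commute (r : G) (x ^ j) := (Commute.zpow_right (mem_cen.1 r.2) j)
      have e1 : v * (m : G) * v = (x ^ j) * r := by
        rw [← hcv, show cv (m : G) = ((m : G) * r) * r by rw [mul_assoc, ← coe_mul, hrr, hkv,
          mul_inv_cancel_left], ← hj]
      have e2 : (m : G) = x ^ j * (r : G)⁻¹ := by rw [hj]; group
      rw [e1, e2, show x ^ j * (r : G) * (x ^ j * (r : G)⁻¹) = x ^ j * ((r : G) * x ^ j) * (r : G)⁻¹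
        by group, hrx.eq, show x ^ j * (x ^ j * (r : G)) * (r : G)⁻¹ = x ^ j * x ^ j by group]
      exact mul_mem (zpow_mem (mem_zpowers x) j) (zpow_mem (mem_zpowers x) j)
    intro m hm
    have hXc : ∀ a ∈ zpowers x, ∀ q : C, Commute (q : G) a := by
      intro a ha q
      obtain ⟨j, rfl⟩ := mem_zpowers_iff.1 ha
      exact Commute.zpow_right (mem_cen.1 q.2) j
    have tt := c.six.sq t c.six.mem
    obtain ⟨α, hαX, hα⟩ : ∃ α ∈ zpowers x, t * (m : G) * t = α * (m : G)⁻¹ :=
      ⟨_, hinv t (Or.inl rfl) htV.2 m hm, by group⟩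
    obtain ⟨β, hβX, hβ⟩ : ∃ β ∈ zpowers x, s * (m : G) * s = β * (m : G)⁻¹ :=
      ⟨_, hinv s (Or.inr (Or.inl rfl)) hsV.2 m hm, by group⟩
    have h3 := hinv (t * s) (Or.inr (Or.inr rfl)) (mul_mem htV.2 hsV.2) m hm
    have htβ : t * β = β * t := (hXc β hβX ⟨t, htV.2⟩).eq
    have ti : t⁻¹ = t := inv_eq_of_mul_eq_one_right tt
    have e : t * s * (m : G) * (t * s) = β * ((m : G) * α⁻¹) := by
      calc t * s * (m : G) * (t * s) = t * s * (m : G) * (s * t) := by rw [c.ts_comm]
        _ = t * (s * (m : G) * s) * t := by group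
        _ = (t * β) * (m : G)⁻¹ * t := by rw [hβ]; group
        _ = β * (t * (m : G) * t)⁻¹ := by
          rw [htβ, mul_inv_rev, mul_inv_rev, ti]; group
        _ = _ := by rw [hα]; group
    rw [e] at h3
    have hcomm : Commute (m : G) α⁻¹ := hXc _ (inv_mem hαX) m
    rw [show β * ((m : G) * α⁻¹) * m = β * ((m : G) * (α⁻¹ * m)) by group, ← hcomm.eq,
      ← mul_assoc (m : G), ← mul_assoc β] at h3
    have h2 : (m : G) ^ 2 ∈ zpowers x := by
      have := mul_mem (mul_mem (inv_mem hβX) h3) hαX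
      rw [pow_two]
      simpa [mul_assoc] using this
    have ho : ¬ 2 ∣ orderOf (m : G) := fun hd => hodd (hd.trans (by
      rw [Subgroup.orderOf_coe]
      exact f.ker.orderOf_dvd_natCard hm))
    obtain ⟨n, hn⟩ : Odd (orderOf (m : G)) := Nat.odd_iff.2 (by omega)
    exact odd_mem n hn rfl h2
  have hMle : Nat.card f.ker ∣ 3 := by
    have hle : f.ker.map C.subtype ≤ zpowers x := by
      rintro _ ⟨m, hm, rfl⟩
      exact hMX m hm
    have := card_dvd_of_le hle
    rwa [card_map_of_injective C.subtype_injective, Nat.card_zpowers, c.hx] at this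
  -- nine divides the centralizer
  obtain ⟨Q, hQ⟩ := (IsPGroup.of_card (p := 3) (n := 1) (G := zpowers x)
    (by rw [Nat.card_zpowers, c.hx, pow_one])).exists_le_sylow
  have hQ9 : Nat.card (Q : Subgroup G) = 3 ^ 2 := by
    rw [Q.card_eq_multiplicity, F.card]
    congr 1
    rw [Nat.factorization_def _ Nat.prime_three]
    exact padicValNat.eq_zero_of_not_dvd (p := 3) (n := 1133440) (by norm_num) |> fun h => by
      rw [show (10200960 : ℕ) = 3 ^ 2 * 1133440 by norm_num,
        padicValNat.mul (by norm_num) (by norm_num), padicValNat.prime_pow, h]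
  have hQC : (Q : Subgroup G) ≤ C := fun q hq => by
    have := (IsPGroup.isMulCommutative_of_card_eq_prime_sq hQ9)
    exact mem_cen.2 (congrArg Subtype.val
      (this.is_comm.comm (⟨q, hq⟩ : (Q : Subgroup G)) ⟨x, hQ (mem_zpowers x)⟩))
  have h9 : 9 ∣ Nat.card C := by
    have := card_dvd_of_le hQC
    rwa [hQ9] at this
  have hPc : Nat.card (P : Subgroup C) ∣ 2 ^ Nat.card (P : Subgroup C) := by
    obtain ⟨k, hk⟩ := IsPGroup.iff_card.1 P.isPGroup'
    rw [hk]
    exact Nat.pow_dvd_pow 2 (Nat.lt_two_pow_self).le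
  have h' : 9 ∣ Nat.card f.ker := by
    rw [← hcompl.card_mul, mul_comm] at h9
    exact (Nat.Coprime.dvd_of_dvd_mul_left
      ((Nat.Coprime.pow_right _ (by norm_num : Nat.Coprime 9 2)).coprime_dvd_right hPc) h9)
  have := h'.trans hMle
  norm_num at this

end Conf

theorem card_sup {A B : Subgroup G} (hB : B ≤ normalizer (A : Set G)) :
    Nat.card ↥(A ⊔ B) * Nat.card ↥(A ⊓ B) = Nat.card A * Nat.card B :=
  SFourFree.card_sup_mul_card_inf hB

theorem isPGroup_sup {A B : Subgroup G} (hA : IsPGroup 2 A) (hB : IsPGroup 2 B)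
    (h : B ≤ normalizer (A : Set G)) : IsPGroup 2 ↥(A ⊔ B) :=
  hA.to_sup_of_normal_left' hB h

theorem mem_norm_inf {A B : Subgroup G} {g : G} (hA : g ∈ normalizer (A : Set G))
    (hB : g ∈ normalizer (B : Set G)) : g ∈ normalizer ((A ⊓ B : Subgroup G) : Set G) := by
  rw [mem_normalizer_iff] at *
  intro y
  simp only [Subgroup.mem_inf, hA y, hB y]

theorem mem_norm_sup {A B : Subgroup G} {g : G} (hA : g ∈ normalizer (A : Set G))
    (hB : g ∈ normalizer (B : Set G)) : g ∈ normalizer ((A ⊔ B : Subgroup G) : Set G) := by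
  have hc : ∀ {H : Subgroup G}, g ∈ normalizer (H : Set G) → cj g H = H := fun {H} hH => by
    ext y
    rw [mem_cj, mem_normalizer_iff.1 hH, show g * (g⁻¹ * y * g) * g⁻¹ = y by group]
  exact mem_norm_of_cj_eq (by rw [cj, Subgroup.map_sup]; exact congrArg₂ _ (hc hA) (hc hB))

theorem no_seven (F : Facts G) {y t s : G} (hy : orderOf y = 7) (ht : orderOf t = 2)
    (hs : orderOf s = 2) (hne : s ≠ t) (hts : t * s = s * t) (hyt : y * t = t * y)
    (hys : y * s = s * y) : False := by
  classical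
  have : Fact (Nat.Prime 7) := ⟨by norm_num⟩
  obtain ⟨P, hyP⟩ := (IsPGroup.of_card (p := 7) (n := 1) (G := zpowers y)
    (by rw [Nat.card_zpowers, hy, pow_one])).exists_le_sylow
  have hP : Nat.card (P : Subgroup G) = 7 := by
    rw [P.card_eq_multiplicity, F.card]
    rw [Nat.factorization_def _ (by norm_num : Nat.Prime 7),
      show (10200960 : ℕ) = 7 ^ 1 * 1457280 by norm_num,
      padicValNat.mul (by norm_num) (by norm_num), padicValNat.prime_pow,
      padicValNat.eq_zero_of_not_dvd (by norm_num)]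
    norm_num
  have hPy : zpowers y = (P : Subgroup G) :=
    Subgroup.eq_of_le_of_card_ge hyP (by rw [hP, Nat.card_zpowers, hy])
  have hn : Nat.card (Sylow 7 G) = 242880 := by
    have := SmallGroups.card_orderOf_eq_prime P hP
    rw [F.c7] at this
    omega
  have hN : Nat.card ↥(normalizer ((P : Subgroup G) : Set G)) = 42 := by
    have := (normalizer ((P : Subgroup G) : Set G)).card_mul_index
    have e : Nat.card (Sylow 7 G) = (normalizer ((P : Subgroup G) : Set G)).index :=
      P.card_eq_index_normalizer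
    rw [← e, hn, F.card] at this
    omega
  set V := centralizer ({y} : Set G)
  have hVN : V ≤ normalizer ((P : Subgroup G) : Set G) := by
    rw [← hPy]
    intro g hg
    exact SmallGroups.centralizer_le_normalizer' _ (by
      rwa [zpowers_eq_closure, centralizer_closure])
  have h4 : 4 ∣ Nat.card V := by
    let W : Subgroup G := closure {t, s}
    have hW : W ≤ V := (closure_le _).2 (by
      rintro z (rfl | rfl)
      exacts [mem_cen.2 hyt.symm, mem_cen.2 hys.symm])
    have htw : t ∈ W := subset_closure (Or.inl rfl)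
    have hsw : s ∈ W := subset_closure (Or.inr rfl)
    have hW2 : IsPGroup 2 W := by
      have hcomm : ∀ a ∈ W, ∀ b ∈ W, a * b = b * a := by
        have := Subgroup.closure_le_centralizer_centralizer ({t, s} : Set G)
        have hself : W ≤ centralizer ({t, s} : Set G) := (closure_le _).2 (by
          rintro z (rfl | rfl) <;> refine mem_centralizer_iff.2 ?_ <;> rintro w (rfl | rfl)
          exacts [rfl, hts.symm, hts, rfl])
        intro a ha b hb
        exact (mem_centralizer_iff.1 (this ha) b (hself hb)).symm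
      refine fun a => ⟨1, Subtype.ext ?_⟩
      obtain ⟨a, ha⟩ := a
      simp only [pow_one, SubmonoidClass.coe_pow, OneMemClass.coe_one]
      induction ha using closure_induction with
      | mem z hz => rcases hz with rfl | rfl <;> rw [pow_two] <;> exact mul_self_of_two ‹_›
      | one => simp
      | mul a b ha hb iha ihb =>
        rw [Commute.mul_pow (hcomm a ha b hb), iha, ihb, one_mul]
      | inv a ha iha => rw [inv_pow, iha, inv_one]
    obtain ⟨k, hk⟩ := IsPGroup.iff_card.1 hW2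
    have : 3 ≤ Nat.card W := by
      have hsub : (({1, t, s} : Finset G) : Set G) ⊆ (W : Set G) := by
        intro z hz
        simp only [Finset.coe_insert, Finset.coe_singleton, Set.mem_insert_iff,
          Set.mem_singleton_iff] at hz
        rcases hz with rfl | rfl | rfl
        exacts [one_mem _, htw, hsw]
      have hcard : ({1, t, s} : Finset G).card = 3 := by
        have e1 : t ≠ 1 := fun h => by rw [h, orderOf_one] at ht; norm_num at ht
        have e2 : s ≠ 1 := fun h => by rw [h, orderOf_one] at hs; norm_num at hs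
        simp [e1.symm, e2.symm, hne.symm]
      have := Set.ncard_le_ncard hsub (Set.toFinite _)
      rw [Set.ncard_coe_finset, hcard] at this
      exact this.trans_eq (Nat.card_coe_set_eq _).symm
    have hk2 : 2 ≤ k := by
      by_contra hc
      interval_cases k <;> omega
    exact ((Nat.pow_dvd_pow 2 hk2).trans (dvd_of_eq hk.symm)).trans (card_dvd_of_le hW)
  have := h4.trans (card_dvd_of_le hVN)
  rw [hN] at this
  norm_num at this

/-- Some element of order three fixes both involutions. -/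
theorem exists_three (F : Facts G) (I : Inv G) {t s : G} {A : Subgroup G} (h : Six t A)
    (hs : s ∈ A) (hs1 : s ≠ 1) (hst : s ≠ t) :
    ∃ x : G, orderOf x = 3 ∧ x * t = t * x ∧ x * s = s * x := by
  classical
  set C := centralizer ({t} : Set G)
  letI : MulAction C G := MulAction.compHom G (((MulAut.conj : G →* MulAut G)).comp C.subtype)
  have hsm : ∀ (g : C) (a : G), g • a = (g : G) * a * (g : G)⁻¹ := fun _ _ => rfl
  set O := MulAction.orbit C s
  have hO : O ⊆ ((A : Set G) \ {1, t}) := by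
    rintro _ ⟨g, rfl⟩
    refine ⟨(mem_normalizer_iff.1 (h.norm g.2) s).1 hs, ?_⟩
    rintro (he | he)
    · exact hs1 (by simpa [hsm] using he)
    · refine hst (mul_left_cancel (a := (g : G)) ?_)
      rw [mem_cen.1 g.2]
      exact mul_inv_eq_iff_eq_mul.1 he
  have hO14 : O.ncard ≤ 14 := by
    refine (Set.ncard_le_ncard hO (Set.toFinite _)).trans ?_
    rw [Set.ncard_sdiff (by rintro z (rfl | rfl); exacts [one_mem _, h.mem]) (Set.toFinite _),
      Set.ncard_pair (fun e => by have := h.inv; rw [← e, orderOf_one] at this; norm_num at this)]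
    rw [← Nat.card_coe_set_eq]
    exact le_of_eq (by rw [show Nat.card ↥((A : Set G)) = 16 from h.card])
  have hst' : Nat.card (MulAction.stabilizer C s) * O.ncard = 2688 := by
    rw [← MulAction.index_stabilizer, Subgroup.card_mul_index]
    exact I.card_cent t h.inv
  have hpos : 0 < O.ncard := (Set.ncard_pos (Set.toFinite _)).2 ⟨s, MulAction.mem_orbit_self s⟩
  have hfix : ∀ g : MulAction.stabilizer C s, ((g : C) : G) * s = s * ((g : C) : G) := fun g =>
    mul_inv_eq_iff_eq_mul.1 g.2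
  have h7 : ¬ 7 ∣ Nat.card (MulAction.stabilizer C s) := by
    intro hd
    have : Fact (Nat.Prime 7) := ⟨by norm_num⟩
    obtain ⟨y, hy⟩ := exists_prime_orderOf_dvd_card' 7 hd
    exact no_seven F (y := ((y : C) : G))
      (by rw [Subgroup.orderOf_coe, Subgroup.orderOf_coe, hy]) h.inv
      (orderOf_two (h.sq s hs) hs1) hst (commute_of_sq h.sq h.mem hs) (mem_cen.1 (y : C).2) (hfix y)
  have hd3 : 3 ∣ Nat.card (MulAction.stabilizer C s) := by
    by_contra hd
    have d3 : 3 ∣ O.ncard :=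
      ((Nat.Prime.dvd_mul Nat.prime_three).1 (hst' ▸ by norm_num)).resolve_left hd
    have d7 : 7 ∣ O.ncard :=
      ((Nat.Prime.dvd_mul (by norm_num)).1 (hst' ▸ by norm_num)).resolve_left h7
    omega
  have : Fact (Nat.Prime 3) := ⟨Nat.prime_three⟩
  obtain ⟨x, hx⟩ := exists_prime_orderOf_dvd_card' 3 hd3
  exact ⟨((x : C) : G), by rw [Subgroup.orderOf_coe, Subgroup.orderOf_coe, hx],
    mem_cen.1 (x : C).2, hfix x⟩

/-- Elements of the third subgroup give a symmetric pairing of the other two. -/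
theorem commutators {A B D V : Subgroup G} (hA : ∀ a ∈ A, a * a = 1) (hB : ∀ b ∈ B, b * b = 1)
    (hD : ∀ d ∈ D, d * d = 1) (hAB : ∀ b ∈ B, b ∈ normalizer (A : Set G))
    (hBA : ∀ a ∈ A, a ∈ normalizer (B : Set G))
    (hA16 : Nat.card A = 16) (hB16 : Nat.card B = 16) (hD16 : Nat.card D = 16)
    (hV : Nat.card V = 4) (hVA : V ≤ A) (hVB : V ≤ B) (hVD : V ≤ D)
    (hiAB : A ⊓ B ≤ V) (hiAD : A ⊓ D ≤ V) (hiBD : B ⊓ D ≤ V)
    (hfac : ∀ d ∈ D, ∃ a ∈ A, ∃ b ∈ B, d = a * b) :
    ∃ u ∈ V, ∀ a ∈ A, ∀ b ∈ B, a * b * a * b = 1 ∨ a * b * a * b = u := by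
  classical
  have iA : ∀ a ∈ A, a⁻¹ = a := fun a ha => inv_eq_of_mul_eq_one_right (hA a ha)
  have iB : ∀ b ∈ B, b⁻¹ = b := fun b hb => inv_eq_of_mul_eq_one_right (hB b hb)
  have hbeta : ∀ a ∈ A, ∀ b ∈ B, a * b * a * b ∈ V := by
    intro a ha b hb
    refine hiAB ⟨?_, ?_⟩
    · have := (mem_normalizer_iff.1 (hAB b hb) a).1 ha
      rw [iB b hb] at this
      simpa [mul_assoc] using A.mul_mem ha this
    · have := (mem_normalizer_iff.1 (hBA a ha) b).1 hb
      rw [iA a ha] at this
      exact B.mul_mem this hb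
  have hVc : ∀ v ∈ V, ∀ a ∈ A, v * a = a * v := fun v hv a ha => commute_of_sq hA (hVA hv) ha
  have hVc' : ∀ v ∈ V, ∀ b ∈ B, v * b = b * v := fun v hv b hb => commute_of_sq hB (hVB hv) hb
  have hcomm : ∀ d ∈ D, ∀ a ∈ A, ∀ b ∈ B, d = a * b → a * b * a * b = 1 := by
    rintro d hd a ha b hb rfl
    simpa [mul_assoc] using hD _ hd
  -- bilinearity
  have hbl : ∀ a ∈ A, ∀ a' ∈ A, ∀ b ∈ B,
      (a * a') * b * (a * a') * b = (a * b * a * b) * (a' * b * a' * b) := by
    intro a ha a' ha' b hb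
    set w := a' * b * a' * b with hw
    have hwV : w ∈ V := hbeta a' ha' b hb
    have e : a' * b * a' = w * b := by
      rw [hw, mul_assoc (a' * b * a') b b, hB b hb, mul_one]
    have ew : w * (a * b * a * b) = a * b * a * b * w :=
      commute_of_sq hA (hVA hwV) (hVA (hbeta a ha b hb))
    calc (a * a') * b * (a * a') * b = (a * a') * b * (a' * a) * b := by
          rw [commute_of_sq hA ha' ha]
      _ = a * (a' * b * a') * a * b := by group
      _ = (a * w) * b * a * b := by rw [e]; group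
      _ = (w * a) * b * a * b := by rw [hVc w hwV a ha]
      _ = w * (a * b * a * b) := by group
      _ = _ := ew
  have hbr : ∀ a ∈ A, ∀ b ∈ B, ∀ b' ∈ B,
      a * (b * b') * a * (b * b') = (a * b * a * b) * (a * b' * a * b') := by
    intro a ha b hb b' hb'
    set w := a * b' * a * b' with hw
    have hwV : w ∈ V := hbeta a ha b' hb'
    have e : b' * a * b' = a * w := by
      rw [hw, ← mul_assoc a, ← mul_assoc a, ← mul_assoc a, hA a ha, one_mul]
    calc a * (b * b') * a * (b * b') = a * (b * b') * a * (b' * b) := by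
          rw [commute_of_sq hB hb' hb]
      _ = a * b * (b' * a * b') * b := by group
      _ = a * b * a * (w * b) := by rw [e]; group
      _ = a * b * a * (b * w) := by rw [hVc' w hwV b hb]
      _ = _ := by group
  -- generators
  have hex : ∀ (H : Subgroup G), Nat.card H = 16 → ∀ T : Finset G, T.card ≤ 12 →
      ∃ d ∈ H, d ∉ T := by
    intro H hH T hT
    by_contra hc
    push Not at hc
    have := Set.ncard_le_ncard (s := (H : Set G)) (t := (T : Set G)) hc (Set.toFinite _)
    rw [← Nat.card_coe_set_eq, Set.ncard_coe_finset] at this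
    have h16 : Nat.card ↥((H : Set G)) = 16 := hH
    omega
  have := Fintype.ofFinite G
  have hVF : (Finset.univ.filter (· ∈ V)).card = 4 := by
    rw [← hV, ← Fintype.card_subtype, Nat.card_eq_fintype_card]
  obtain ⟨c1, hc1, hc1'⟩ := hex D hD16 (Finset.univ.filter (· ∈ V)) (by omega)
  replace hc1' : c1 ∉ V := fun h => hc1' (by simp [h])
  obtain ⟨c2, hc2, hc2'⟩ := hex D hD16
    (Finset.univ.filter (· ∈ V) ∪ (Finset.univ.filter (· ∈ V)).image (c1 * ·)) (by
      refine (Finset.card_union_le _ _).trans ?_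
      have := (Finset.card_image_le (s := Finset.univ.filter (· ∈ V)) (f := (c1 * ·)))
      omega)
  simp only [Finset.mem_union, Finset.mem_filter, Finset.mem_univ, true_and, Finset.mem_image,
    not_or, not_exists, not_and] at hc2'
  obtain ⟨a1, ha1, b1, hb1, e1⟩ := hfac c1 hc1
  obtain ⟨a2, ha2, b2, hb2, e2⟩ := hfac c2 hc2
  have hk := hbeta a2 ha2 b1 hb1
  set u := a2 * b1 * a2 * b1 with hu
  -- the product
  have h12 : a1 * b2 * a1 * b2 = u := by
    have e12 : c1 * c2 = (u * (a1 * a2)) * (b1 * b2) := by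
      rw [e1, e2]
      have h1 : b1 * a2 = u * (a2 * b1) := by
        have huu : u * u = 1 := hA u (hVA hk)
        have hb1a2 : b1 * a2 = u⁻¹ * (a2 * b1) := by
          rw [hu]
          simp only [mul_inv_rev, iA a2 ha2, iB b1 hb1]
          symm
          calc b1 * (a2 * (b1 * a2)) * (a2 * b1) = b1 * a2 * b1 * (a2 * a2) * b1 := by group
            _ = b1 * a2 * (b1 * b1) := by rw [hA a2 ha2]; group
            _ = b1 * a2 := by rw [hB b1 hb1, mul_one]
        rwa [inv_eq_of_mul_eq_one_right huu] at hb1a2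
      calc a1 * b1 * (a2 * b2) = a1 * (b1 * a2) * b2 := by group
        _ = (a1 * u) * (a2 * b1) * b2 := by rw [h1]; group
        _ = (u * a1) * (a2 * b1) * b2 := by rw [hVc u hk a1 ha1]
        _ = _ := by group
    have h := hcomm _ (mul_mem hc1 hc2) _ (mul_mem (hVA hk) (mul_mem ha1 ha2)) _ (mul_mem hb1 hb2) e12
    have hu1 : ∀ b ∈ B, u * b * u * b = 1 := fun b hb => by
      rw [hVc' u hk b hb, mul_assoc b u u, hA u (hVA hk), mul_one, hB b hb]
    rw [hbl u (hVA hk) _ (mul_mem ha1 ha2) _ (mul_mem hb1 hb2), hu1 _ (mul_mem hb1 hb2), one_mul,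
      hbl a1 ha1 a2 ha2 _ (mul_mem hb1 hb2), hbr a1 ha1 b1 hb1 b2 hb2, hbr a2 ha2 b1 hb1 b2 hb2,
      hcomm c1 hc1 a1 ha1 b1 hb1 e1, hcomm c2 hc2 a2 ha2 b2 hb2 e2, one_mul, mul_one, ← hu] at h
    exact mul_right_cancel (h.trans (hA u (hVA hk)).symm)
  have hmemA : c1 ∈ D ∧ c2 ∈ D := ⟨hc1, hc2⟩
  -- cosets
  have hcov : ∀ (H : Subgroup G) (p q : G), Nat.card H = 16 → V ≤ H →
      (∀ x ∈ H, ∀ y ∈ H, x * y = y * x) → p ∈ H → q ∈ H →
      p ∉ V → q ∉ V → p⁻¹ * q ∉ V → p * q ∉ V →
      ∀ a ∈ H, ∃ v ∈ V, a = v ∨ a = p * v ∨ a = q * v ∨ a = p * q * v := by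
    intro H p q hH hVH hHc hp hq h1 h2 h3 h4 a ha
    let T : Finset G := (Finset.univ.filter (· ∈ V))
    have hT : ∀ g : G, (T.image (g * ·)).card = 4 := fun g => by
      rw [Finset.card_image_of_injective _ (mul_right_injective g)]
      exact hVF
    have hdis : ∀ g g' : G, g⁻¹ * g' ∉ V → Disjoint (T.image (g * ·)) (T.image (g' * ·)) := by
      intro g g' hg
      rw [Finset.disjoint_left]
      intro z hz hz'
      simp only [T, Finset.mem_image, Finset.mem_filter, Finset.mem_univ, true_and] at hz hz'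
      obtain ⟨v, hv, rfl⟩ := hz
      obtain ⟨w, hw, e⟩ := hz'
      exact hg (by
        have : g⁻¹ * g' = v * w⁻¹ := by
          rw [eq_mul_inv_iff_mul_eq, mul_assoc, e, inv_mul_cancel_left]
        rw [this]; exact mul_mem hv (inv_mem hw))
    have hcard : (T.image (1 * ·) ∪ T.image (p * ·) ∪ T.image (q * ·) ∪ T.image (p * q * ·)).card =
        16 := by
      rw [Finset.card_union_of_disjoint, Finset.card_union_of_disjoint,
        Finset.card_union_of_disjoint, hT, hT, hT, hT]
      · exact hdis 1 p (by simpa using h1)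
      · rw [Finset.disjoint_union_left]
        exact ⟨hdis 1 q (by simpa using h2), hdis p q h3⟩
      · rw [Finset.disjoint_union_left, Finset.disjoint_union_left]
        refine ⟨⟨hdis 1 _ (by simpa using h4), hdis p _ ?_⟩, hdis q _ ?_⟩
        · simpa [← mul_assoc] using h2
        · intro hh
          refine h1 ?_
          have hqq : q⁻¹ * (p * q) = p := by
            rw [hHc p hp q hq, inv_mul_cancel_left]
          rwa [hqq] at hh
    have hsub : T.image (1 * ·) ∪ T.image (p * ·) ∪ T.image (q * ·) ∪ T.image (p * q * ·) ⊆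
        Finset.univ.filter (· ∈ H) := by
      intro z hz
      simp only [T, Finset.mem_union, Finset.mem_image, Finset.mem_filter, Finset.mem_univ,
        true_and] at hz ⊢
      rcases hz with ((⟨v, hv, rfl⟩ | ⟨v, hv, rfl⟩) | ⟨v, hv, rfl⟩) | ⟨v, hv, rfl⟩
      exacts [mul_mem (one_mem _) (hVH hv), mul_mem hp (hVH hv), mul_mem hq (hVH hv),
        mul_mem (mul_mem hp hq) (hVH hv)]
    have heq := Finset.eq_of_subset_of_card_le hsub (by
      rw [hcard, ← Fintype.card_subtype, ← Nat.card_eq_fintype_card]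
      exact le_of_eq hH)
    have haT : a ∈ Finset.univ.filter (· ∈ H) := by simp [ha]
    rw [← heq] at haT
    simp only [T, Finset.mem_union, Finset.mem_image, Finset.mem_filter, Finset.mem_univ,
      true_and] at haT
    rcases haT with ((⟨v, hv, rfl⟩ | ⟨v, hv, rfl⟩) | ⟨v, hv, rfl⟩) | ⟨v, hv, rfl⟩
    · exact ⟨v, hv, Or.inl (one_mul v)⟩
    · exact ⟨v, hv, Or.inr (Or.inl rfl)⟩
    · exact ⟨v, hv, Or.inr (Or.inr (Or.inl rfl))⟩
    · exact ⟨v, hv, Or.inr (Or.inr (Or.inr rfl))⟩
  have e12 : ∃ z ∈ V, c1 * c2 = (z * (a1 * a2)) * (b1 * b2) := by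
    refine ⟨(b1 * a2 * b1 * a2), ?_, ?_⟩
    · have := inv_mem hk
      rwa [hu, mul_inv_rev, mul_inv_rev, mul_inv_rev, iA a2 ha2, iB b1 hb1, ← mul_assoc,
        ← mul_assoc] at this
    · have hz : b1 * a2 * b1 * a2 ∈ V := by
        have := inv_mem hk
        rwa [hu, mul_inv_rev, mul_inv_rev, mul_inv_rev, iA a2 ha2, iB b1 hb1, ← mul_assoc,
          ← mul_assoc] at this
      rw [← mul_assoc _ a1, hVc _ hz a1 ha1, e1, e2]
      calc a1 * b1 * (a2 * b2) = a1 * b1 * a2 * (b1 * b1) * b2 := by rw [hB b1 hb1]; group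
        _ = a1 * (b1 * a2 * b1) * (a2 * a2) * (b1 * b2) := by rw [hA a2 ha2]; group
        _ = _ := by group
  obtain ⟨z, hz, e12⟩ := e12
  have hc2V : c2 ∉ V := hc2'.1
  have hc12 : c1 * c2 ∉ V := fun h => hc2'.2 (c1 * c2) h (by
    rw [← mul_assoc, hD c1 hc1, one_mul])
  have hp1 : a1 ∉ V := fun h => hc1' (hiBD ⟨e1 ▸ mul_mem (hVB h) hb1, hc1⟩)
  have hp2 : a2 ∉ V := fun h => hc2V (hiBD ⟨e2 ▸ mul_mem (hVB h) hb2, hc2⟩)
  have hp12 : a1 * a2 ∉ V := fun h => hc12 (hiBD
    ⟨e12 ▸ mul_mem (hVB (mul_mem hz h)) (mul_mem hb1 hb2), mul_mem hc1 hc2⟩)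
  have hq1 : b1 ∉ V := fun h => hc1' (hiAD ⟨e1 ▸ mul_mem ha1 (hVA h), hc1⟩)
  have hq2 : b2 ∉ V := fun h => hc2V (hiAD ⟨e2 ▸ mul_mem ha2 (hVA h), hc2⟩)
  have hq12 : b1 * b2 ∉ V := fun h => hc12 (hiAD
    ⟨e12 ▸ mul_mem (mul_mem (hVA hz) (mul_mem ha1 ha2)) (hVA h), mul_mem hc1 hc2⟩)
  have huA : ∀ p ∈ A, ∀ b ∈ B, b = b1 ∨ b = b2 → (p = a1 ∨ p = a2) →
      p * b * p * b = 1 ∨ p * b * p * b = u := by
    rintro p - b - (rfl | rfl) (rfl | rfl)
    exacts [Or.inl (hcomm c1 hc1 _ ha1 _ hb1 e1), Or.inr rfl, Or.inr h12,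
      Or.inl (hcomm c2 hc2 _ ha2 _ hb2 e2)]
  have huu : u * u = 1 := hA u (hVA hk)
  have hS : ∀ x y : G, (x = 1 ∨ x = u) → (y = 1 ∨ y = u) → x * y = 1 ∨ x * y = u := by
    rintro x y (rfl | rfl) (rfl | rfl) <;> simp [huu]
  have hV1 : ∀ v ∈ V, ∀ b ∈ B, v * b * v * b = 1 := fun v hv b hb => by
    rw [hVc' v hv b hb, mul_assoc b v v, hA v (hVA hv), mul_one, hB b hb]
  have hV2 : ∀ a ∈ A, ∀ v ∈ V, a * v * a * v = 1 := fun a ha v hv => by
    rw [← hVc v hv a ha, mul_assoc v a a, hA a ha, mul_one, hA v (hVA hv)]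
  refine ⟨u, hk, ?_⟩
  have hA2 : ∀ a ∈ A, ∀ b ∈ B, (b = b1 ∨ b = b2) → a * b * a * b = 1 ∨ a * b * a * b = u := by
    intro a ha b hb hbb
    obtain ⟨v, hv, hh⟩ := hcov A a1 a2 hA16 hVA (fun x hx y hy => commute_of_sq hA hx hy) ha1 ha2
      hp1 hp2 (by rw [iA a1 ha1]; exact hp12) hp12 a ha
    have h0 := Or.inl (b := v * b * v * b = u) (hV1 v hv b hb)
    have g1 := huA a1 ha1 b hb hbb (Or.inl rfl)
    have g2 := huA a2 ha2 b hb hbb (Or.inr rfl)
    rcases hh with rfl | rfl | rfl | rfl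
    · exact h0
    · rw [hbl a1 ha1 v (hVA hv) b hb]; exact hS _ _ g1 h0
    · rw [hbl a2 ha2 v (hVA hv) b hb]; exact hS _ _ g2 h0
    · rw [hbl _ (mul_mem ha1 ha2) v (hVA hv) b hb, hbl a1 ha1 a2 ha2 b hb]
      exact hS _ _ (hS _ _ g1 g2) h0
  intro a ha b hb
  obtain ⟨v, hv, hh⟩ := hcov B b1 b2 hB16 hVB (fun x hx y hy => commute_of_sq hB hx hy) hb1 hb2
    hq1 hq2 (by rw [iB b1 hb1]; exact hq12) hq12 b hb
  have h0 := Or.inl (b := a * v * a * v = u) (hV2 a ha v hv)
  have g1 := hA2 a ha b1 hb1 (Or.inl rfl)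
  have g2 := hA2 a ha b2 hb2 (Or.inr rfl)
  rcases hh with rfl | rfl | rfl | rfl
  · exact h0
  · rw [hbr a ha b1 hb1 v (hVB hv)]; exact hS _ _ g1 h0
  · rw [hbr a ha b2 hb2 v (hVB hv)]; exact hS _ _ g2 h0
  · rw [hbr a ha _ (mul_mem hb1 hb2) v (hVB hv), hbr a ha b1 hb1 b2 hb2]
    exact hS _ _ (hS _ _ g1 g2) h0


/-- The subgroup of `t` is the subgroup of each of its other involutions. -/
theorem six_eq (F : Facts G) (I : Inv G) (H3 : ThreeHyp G) {t s : G} {A B : Subgroup G}
    (hA : Six t A) (hB : Six s B) (hs : s ∈ A) (hst : s ≠ t) : A = B := by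
  classical
  have hs1 : s ≠ 1 := fun h => by
    have := hB.inv
    rw [h, orderOf_one] at this
    norm_num at this
  obtain ⟨x, hx, hxt, hxs⟩ := exists_three F I hA hs hs1 hst
  have c : Conf t s x A := ⟨hA, hs, hs1, hst, hx, hxt, hxs⟩
  obtain ⟨g, hgt, hgs⟩ := c.exists_rot F H3
  have tt : t * t = 1 := hA.sq t hA.mem
  have ss : s * s = 1 := hA.sq s hs
  have hgts : g * (t * s) * g⁻¹ = t := by
    rw [show g * (t * s) * g⁻¹ = (g * t * g⁻¹) * (g * s * g⁻¹) by group, hgt, hgs, c.ts_comm,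
      ← mul_assoc, ss, one_mul]
  have hB' : Six s (cj g A) := hgt ▸ hA.conj g
  obtain rfl : cj g A = B := Six.eq I hB' hB
  have hD : Six (t * s) (cj g (cj g A)) := hgs ▸ hB'.conj g
  set B := cj g A with hBdef
  set D := cj g B with hDdef
  by_contra hne
  have hgD : cj g D = A := Six.eq I (hgts ▸ hD.conj g) hA
  have hAD : A ≠ D := fun h => hne (by
    have := congrArg (cj g) h
    rw [hgD, ← hBdef] at this
    exact this.symm)
  have hBD : B ≠ D := fun h => hne (by
    have := congrArg (cj g) h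
    rw [hgD] at this
    exact (h.trans this).symm)
  -- all three contain the four-group
  have hsB : s ∈ B := hB'.mem
  have htsB : t * s ∈ B := hgs ▸ conj_mem_cj hs
  have htB : t ∈ B := by
    have := mul_mem htsB hsB
    rwa [mul_assoc, ss, mul_one] at this
  have htD : t ∈ D := hgts ▸ conj_mem_cj htsB
  have hsD : s ∈ D := hgt ▸ conj_mem_cj htB
  have tsA : t * s ∈ A := mul_mem hA.mem hs
  -- bounds
  have hxn : ∀ {v : G} {K : Subgroup G}, Six v K → x * v = v * x →
      x ∈ normalizer (K : Set G) := fun hK h => hK.norm (mem_cen.2 h)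
  have hxA := hxn hA hxt
  have hxB := hxn hB' hxs
  have hxD := hxn hD c.hxts
  set V : Subgroup G := A ⊓ centralizer ({x} : Set G) with hVdef
  have htV : t ∈ V := ⟨hA.mem, mem_cen.2 hxt.symm⟩
  have hsV : s ∈ V := ⟨hs, mem_cen.2 hxs.symm⟩
  have hV4' : Nat.card V ≤ 4 := by
    refine two_pow_le_four ((isPGroup_two hA.sq).to_le inf_le_left) ?_
    rw [← H3 t x hA.inv hx hxt]
    exact card_dvd_of_le (inf_le_inf_right _ (hA.le_cen hA.mem))
  have hV4 : Nat.card V = 4 := by
    have h1 : ({1, t, s, t * s} : Finset G).card = 4 := by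
      have e1 : t ≠ t * s := fun h => hs1 (left_eq_mul.1 h)
      have e2 : s ≠ t * s := fun h => c.t_ne (right_eq_mul.1 h)
      simp [Ne.symm c.t_ne, Ne.symm hs1, Ne.symm c.ts_ne, Ne.symm hst, e1, e2]
    have hsub : (({1, t, s, t * s} : Finset G) : Set G) ⊆ (V : Set G) := by
      intro z hz
      simp only [Finset.coe_insert, Finset.coe_singleton, Set.mem_insert_iff,
        Set.mem_singleton_iff] at hz
      rcases hz with rfl | rfl | rfl | rfl
      exacts [one_mem _, htV, hsV, mul_mem htV hsV]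
    have := Set.ncard_le_ncard hsub (Set.toFinite _)
    rw [Set.ncard_coe_finset, h1] at this
    exact le_antisymm hV4' (this.trans_eq (Nat.card_coe_set_eq _).symm)
  have hV' : ∀ a ∈ V, a = 1 ∨ a = t ∨ a = s ∨ a = t * s :=
    fun a ha => c.mem_or hV4' htV hsV ha
  have hVle : ∀ {K : Subgroup G}, t ∈ K → s ∈ K → V ≤ K := fun {K} h1 h2 a ha => by
    rcases hV' a ha with rfl | rfl | rfl | rfl
    exacts [one_mem _, h1, h2, mul_mem h1 h2]
  have hcard : ∀ {K : Subgroup G}, Nat.card K = 16 → (∀ a ∈ K, a * a = 1) → t ∈ K → s ∈ K →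
      x ∈ normalizer (K : Set G) → ∀ {L : Subgroup G}, Nat.card L = 16 → t ∈ L → s ∈ L →
      x ∈ normalizer (L : Set G) → K ≠ L → K ⊓ L ≤ V ∧ Nat.card ↥(K ⊓ L) = 4 := by
    intro K hK16 hK2 htK hsK hxK L hL16 htL hsL hxL hKL
    have hKt : K ≤ centralizer ({t} : Set G) := fun a ha => mem_cen.2 (commute_of_sq hK2 ha htK)
    have hKp : IsPGroup 2 K := isPGroup_two hK2
    have hVKL : V ≤ K ⊓ L := le_inf (hVle htK hsK) (hVle htL hsL)
    have hxV : x ∈ normalizer (V : Set G) := mem_norm_inf hxA (mem_normalizer_iff.2 fun y => by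
      simp only [mem_cen]
      constructor
      · intro h; rw [show x * y * x⁻¹ = y by rw [← h, mul_inv_cancel_right]]; exact h
      · intro h
        have h2 := congrArg (fun z => x⁻¹ * z * x) h
        simpa [mul_assoc] using h2)
    obtain ⟨k, hk⟩ := IsPGroup.iff_card.1 (hKp.to_le (inf_le_left : K ⊓ L ≤ K))
    have hd := card_dvd_of_le hVKL
    have hne16 : Nat.card ↥(K ⊓ L) ≠ 16 := fun h => hKL (by
      have h1 : K ⊓ L = K := eq_of_le_of_card_ge inf_le_left (by rw [h, hK16])
      have h2 : K ⊓ L = L := eq_of_le_of_card_ge inf_le_right (by rw [h, hL16])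
      exact h1.symm.trans h2)
    have h16 : Nat.card ↥(K ⊓ L) ∣ 16 := hK16 ▸ card_dvd_of_le inf_le_left
    have hne8 : Nat.card ↥(K ⊓ L) ≠ 8 := fun h => by
      have := c.no_step H3 (hKp.to_le inf_le_left) (inf_le_left.trans hKt) hVKL htV hsV hxV
        (mem_norm_inf hxK hxL)
      rw [h, hV4] at this
      norm_num at this
    rw [hV4, hk] at hd
    rw [hk] at hne16 hne8 h16
    have hk4 : k ≤ 4 := by
      by_contra hc
      have h5 : 2 ^ 5 ≤ 2 ^ k := Nat.pow_le_pow_right (by norm_num) (by omega)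
      have := Nat.le_of_dvd (by norm_num) h16
      omega
    have hk2 : Nat.card ↥(K ⊓ L) = 4 := by
      rw [hk]
      interval_cases k <;> revert hd hne8 hne16 <;> norm_num
    exact ⟨(eq_of_le_of_card_ge hVKL (by rw [hk2, hV4])).ge, hk2⟩
  obtain ⟨hiAB, hcAB⟩ := hcard hA.card hA.sq hA.mem hs hxA hB'.card htB hsB hxB hne
  obtain ⟨hiAD, hcAD⟩ := hcard hA.card hA.sq hA.mem hs hxA hD.card htD hsD hxD hAD
  obtain ⟨hiBD, -⟩ := hcard hB'.card hB'.sq htB hsB hxB hD.card htD hsD hxD hBD
  -- they normalize each other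
  have nA : ∀ {v : G} {K : Subgroup G}, Six v K → ∀ {L : Subgroup G}, (∀ a ∈ L, a * a = 1) →
      v ∈ L → L ≤ normalizer (K : Set G) := fun hK _ hL hv a ha =>
    hK.norm (mem_cen.2 (commute_of_sq hL ha hv))
  have hDtsB : B ≤ normalizer (A : Set G) := nA hA hB'.sq htB
  have hAnB : A ≤ normalizer (B : Set G) := nA hB' hA.sq hs
  have hDnA : D ≤ normalizer (A : Set G) := nA hA hD.sq htD
  have hDnB : D ≤ normalizer (B : Set G) := nA hB' hD.sq hsD
  -- the join
  set R := A ⊔ B with hR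
  set R' := A ⊔ D with hR'
  have hR64 : Nat.card R = 64 := by
    have := card_sup hDtsB
    rw [hcAB, hA.card, hB'.card, ← hR] at this
    omega
  have hR'64 : Nat.card R' = 64 := by
    have := card_sup hDnA
    rw [hcAD, hA.card, hD.card, ← hR'] at this
    omega
  have hRR : R = R' := by
    have hRp : IsPGroup 2 R := isPGroup_sup (isPGroup_two hA.sq) (isPGroup_two hB'.sq) hDtsB
    have hR'p : IsPGroup 2 R' := isPGroup_sup (isPGroup_two hA.sq) (isPGroup_two hD.sq) hDnA
    have hR'n : R' ≤ normalizer (R : Set G) := sup_le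
      (fun a ha => mem_norm_sup (le_normalizer ha) (hAnB ha))
      (fun a ha => mem_norm_sup (hDnA ha) (hDnB ha))
    have hRt : R ≤ centralizer ({t} : Set G) :=
      sup_le (hA.le_cen hA.mem) (hB'.le_cen htB)
    have hR't : R' ≤ centralizer ({t} : Set G) := sup_le (hA.le_cen hA.mem) (hD.le_cen htD)
    obtain ⟨m, hm⟩ := IsPGroup.iff_card.1 (isPGroup_sup hRp hR'p hR'n)
    have h128 : Nat.card ↥(R ⊔ R') ≤ 128 := by
      have hd := card_dvd_of_le (sup_le hRt hR't)
      rw [I.card_cent t hA.inv, hm] at hd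
      rw [hm]
      have : m ≤ 7 := by
        by_contra hc
        have h2 : 2 ^ 8 ∣ 2688 := (Nat.pow_dvd_pow 2 (by omega : 8 ≤ m)).trans hd
        norm_num at h2
      exact (Nat.pow_le_pow_right (by norm_num) this).trans (by norm_num)
    have hmul := card_sup hR'n
    rw [hR64, hR'64] at hmul
    obtain ⟨j, hj⟩ := IsPGroup.iff_card.1 (hRp.to_le (inf_le_left : R ⊓ R' ≤ R))
    have hj6 : j ≤ 6 := by
      by_contra hc
      have h7 : 2 ^ 7 ≤ 2 ^ j := Nat.pow_le_pow_right (by norm_num) (by omega)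
      have := Nat.le_of_dvd (by norm_num) (hR64 ▸ card_dvd_of_le (inf_le_left : R ⊓ R' ≤ R))
      omega
    have hne32 : Nat.card ↥(R ⊓ R') ≠ 32 := fun h => by
      have := c.no_step H3 (H := A) (hRp.to_le inf_le_left) (inf_le_left.trans hRt)
        (le_inf le_sup_left le_sup_left) hA.mem hs hxA
        (mem_norm_inf (mem_norm_sup hxA hxB) (mem_norm_sup hxA hxD))
      rw [h, hA.card] at this
      norm_num at this
    have h32 : 32 ≤ Nat.card ↥(R ⊓ R') := by
      have := Nat.mul_le_mul_right (Nat.card ↥(R ⊓ R')) h128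
      omega
    have h64 : Nat.card ↥(R ⊓ R') = 64 := by
      rw [hj] at hne32 h32 ⊢
      interval_cases j <;> revert hne32 h32 <;> norm_num
    have e1 : R ⊓ R' = R := eq_of_le_of_card_ge inf_le_left (by rw [h64, hR64])
    have e2 : R ⊓ R' = R' := eq_of_le_of_card_ge inf_le_right (by rw [h64, hR'64])
    exact e1.symm.trans e2
  have hfac : ∀ d ∈ D, ∃ a ∈ A, ∃ b ∈ B, d = a * b := by
    intro d hd
    have : d ∈ ((A ⊔ B : Subgroup G) : Set G) := by
      rw [← hR, hRR]
      exact (le_sup_right : D ≤ R') hd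
    rw [coe_mul_of_right_le_normalizer_left _ _ hDtsB] at this
    obtain ⟨a, ha, b, hb, rfl⟩ := this
    exact ⟨a, ha, b, hb, rfl⟩
  obtain ⟨u, huV, hu⟩ := commutators hA.sq hB'.sq hD.sq hDtsB hAnB hA.card hB'.card hD.card hV4
    inf_le_left (hVle htB hsB) (hVle htD hsD) hiAB hiAD hiBD hfac
  have hu1 : u ≠ 1 := by
    rintro rfl
    refine hne (eq_of_le_of_card_ge (fun b hb => hA.cent (mem_centralizer_iff.2 fun a ha => ?_))
      (by rw [hB'.card, hA.card])).symm
    have h1 : a * b * a * b = 1 := (hu a ha b hb).elim id id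
    have ia : a⁻¹ = a := inv_eq_of_mul_eq_one_right (hA.sq a ha)
    have ib : b⁻¹ = b := inv_eq_of_mul_eq_one_right (hB'.sq b hb)
    have h2 : a * b * (a * b) = 1 := by rw [← mul_assoc]; exact h1
    have h3 := inv_eq_of_mul_eq_one_right h2
    rw [mul_inv_rev, ia, ib] at h3
    exact h3.symm
  have huA : u * u = 1 := hA.sq u huV.1
  have hBDu : ∀ b ∈ B, ∀ d ∈ D, b * d * b * d = 1 ∨ b * d * b * d = u := by
    intro b hb d hd
    obtain ⟨a, ha, b', hb', rfl⟩ := hfac d hd
    have hab' : a * b' * a * b' = 1 := by simpa [mul_assoc] using hD.sq _ hd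
    have hbb : b * b' = b' * b := commute_of_sq hB'.sq hb hb'
    have e : b * (a * b') * b * (a * b') = (b * a * b * a) * (a * b' * a * b') := by
      calc b * (a * b') * b * (a * b') = b * a * (b' * b) * (a * b') := by group
        _ = b * a * (b * b') * (a * b') := by rw [hbb]
        _ = b * a * b * (a * a) * b' * a * b' := by rw [hA.sq a ha]; group
        _ = _ := by group
    have e2 : b * a * b * a = (a * b * a * b)⁻¹ := by
      simp only [mul_inv_rev, inv_eq_of_mul_eq_one_right (hA.sq a ha),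
        inv_eq_of_mul_eq_one_right (hB'.sq b hb), mul_assoc]
    rw [e, hab', mul_one, e2]
    rcases hu a ha b hb with h | h <;> rw [h]
    · exact Or.inl inv_one
    · exact Or.inr (inv_eq_of_mul_eq_one_right huA)
  obtain ⟨a, ha, b, hb, hab⟩ : ∃ a ∈ A, ∃ b ∈ B, a * b * a * b = u := by
    by_contra hc
    push Not at hc
    refine hne (eq_of_le_of_card_ge (fun b hb => hA.cent (mem_centralizer_iff.2 fun a ha => ?_))
      (by rw [hB'.card, hA.card])).symm
    have h1 : a * b * a * b = 1 := (hu a ha b hb).resolve_right (hc a ha b hb)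
    have ia : a⁻¹ = a := inv_eq_of_mul_eq_one_right (hA.sq a ha)
    have ib : b⁻¹ = b := inv_eq_of_mul_eq_one_right (hB'.sq b hb)
    have h2 : a * b * (a * b) = 1 := by rw [← mul_assoc]; exact h1
    have h3 := inv_eq_of_mul_eq_one_right h2
    rw [mul_inv_rev, ia, ib] at h3
    exact h3.symm
  have hgu : g * u * g⁻¹ = 1 ∨ g * u * g⁻¹ = u := by
    have h := hBDu _ (conj_mem_cj (g := g) ha) _ (conj_mem_cj (g := g) hb)
    rw [show g * a * g⁻¹ * (g * b * g⁻¹) * (g * a * g⁻¹) * (g * b * g⁻¹) =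
      g * (a * b * a * b) * g⁻¹ by group, hab] at h
    exact h
  have hgu' : g * u * g⁻¹ = u := hgu.resolve_left (by simpa using hu1)
  rcases hV' u huV with rfl | rfl | rfl | rfl
  · exact hu1 rfl
  · exact hst (hgu'.symm.trans hgt).symm
  · exact c.t_ne (right_eq_mul.1 (hgu'.symm.trans hgs))
  · exact hs1 (left_eq_mul.1 (hgts.symm.trans hgu'))

end LocalAux

open LocalAux Subgroup in
/-- The fusion in the subgroup of order sixteen. -/
theorem exists_local [Finite G] (F : Facts G) (I : Inv G)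
    (H3 : ∀ t x : G, orderOf t = 2 → orderOf x = 3 → x * t = t * x →
      Nat.card ↥(centralizer ({t} : Set G) ⊓ centralizer ({x} : Set G)) = 12) :
    ∃ A : Subgroup G, Local A := by
  classical
  obtain ⟨⟨t, ht⟩⟩ : Nonempty {g : G // orderOf g = 2} :=
    Finite.card_pos_iff.1 (by rw [F.c2]; norm_num)
  obtain ⟨A, hA⟩ := exists_six I ht
  have hsix : ∀ a ∈ A, a ≠ 1 → Six a A := by
    intro a ha ha1
    rcases eq_or_ne a t with rfl | hat
    · exact hA
    obtain ⟨B, hB⟩ := exists_six I (orderOf_two (hA.sq a ha) ha1)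
    obtain rfl := six_eq F I H3 hA hB ha hat
    exact hB
  have hti : ∀ g : G, ∀ a ∈ A, g * a * g⁻¹ ∈ A → a ≠ 1 →
      g ∈ normalizer (A : Set G) := fun g a ha hga ha1 =>
    mem_norm_of_cj_eq (Six.eq I ((hsix a ha ha1).conj g) (hsix _ hga (by simpa using ha1)))
  have htrans : ∀ a ∈ A, ∀ b ∈ A, a ≠ 1 → b ≠ 1 →
      ∃ n ∈ normalizer (A : Set G), n * a * n⁻¹ = b := by
    intro a ha b hb ha1 hb1
    obtain ⟨g, hg⟩ := I.conj a b (orderOf_two (hA.sq a ha) ha1) (orderOf_two (hA.sq b hb) hb1)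
    exact ⟨g, hti g a ha (by rw [hg]; exact hb) ha1, hg⟩
  refine ⟨A,
    { card := hA.card
      sq := hA.sq
      cent := hA.cent
      card_norm := ?_
      cent_le := fun a ha ha1 => (hsix a ha ha1).norm
      card_cent := fun a ha ha1 => I.card_cent a (orderOf_two (hA.sq a ha) ha1)
      trans := htrans
      ti := hti
      cover := fun x hx => ?_ }⟩
  · set N := normalizer (A : Set G)
    have ht1 : t ≠ 1 := fun h => by rw [h, orderOf_one] at ht; norm_num at ht
    letI : MulAction N G :=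
      MulAction.compHom G (((MulAut.conj : G →* MulAut G)).comp N.subtype)
    have hsm : ∀ (g : N) (a : G), g • a = (g : G) * a * (g : G)⁻¹ := fun _ _ => rfl
    have horb : MulAction.orbit N t = (A : Set G) \ {1} := by
      refine Set.Subset.antisymm ?_ ?_
      · rintro _ ⟨g, rfl⟩
        exact ⟨(mem_normalizer_iff.1 g.2 t).1 hA.mem, by simpa [hsm] using ht1⟩
      · rintro a ⟨ha, ha1⟩
        obtain ⟨n, hn, he⟩ := htrans t hA.mem a ha ht1 ha1
        exact ⟨⟨n, hn⟩, he⟩
    have hstab : MulAction.stabilizer N t = (centralizer ({t} : Set G)).subgroupOf N := by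
      ext g
      rw [MulAction.mem_stabilizer_iff, mem_subgroupOf, mem_cen, hsm, mul_inv_eq_iff_eq_mul]
    have h := (MulAction.stabilizer N t).card_mul_index
    rw [MulAction.index_stabilizer, horb, hstab,
      Nat.card_congr (subgroupOfEquivOfLe hA.norm).toEquiv, I.card_cent t ht,
      Set.ncard_sdiff (by simp) (Set.toFinite _), Set.ncard_singleton] at h
    have h16 : (A : Set G).ncard = 16 := (Nat.card_coe_set_eq _).symm.trans hA.card
    rw [h16] at h
    omega
  · obtain ⟨g, hg⟩ := I.conj x t hx ht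
    exact ⟨g, by rw [hg]; exact hA.mem⟩

open LocalAux Subgroup in
/-- A conjugate of a local subgroup is one. -/
theorem local_conj [Finite G] {A : Subgroup G} (L : Local A) (g : G) : Local (cj g A) := by
  have hu : ∀ {a : G}, a ∈ cj g A → a ≠ 1 → g⁻¹ * a * g ∈ A ∧ g⁻¹ * a * g ≠ 1 := by
    intro a ha ha1
    refine ⟨mem_cj.1 ha, fun h => ha1 ?_⟩
    rw [show a = g * (g⁻¹ * a * g) * g⁻¹ by group, h]
    group
  have hn : ∀ {n : G}, g⁻¹ * n * g ∈ normalizer (A : Set G) → n ∈ normalizer (cj g A : Set G) :=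
    fun {n} h => by
      have := cj_norm g A h
      rwa [show g * (g⁻¹ * n * g) * g⁻¹ = n by group] at this
  have hnorm : normalizer (cj g A : Set G) = cj g (normalizer (A : Set G)) := by
    ext n
    refine ⟨fun h => mem_cj.2 ?_, fun h => hn (mem_cj.1 h)⟩
    have := cj_norm g⁻¹ (cj g A) h
    rw [cj_mul, inv_mul_cancel, inv_inv] at this
    convert this using 2
    ext y
    simp [mem_cj]
  have hcen : ∀ a : G, centralizer ({a} : Set G) = cj g (centralizer ({g⁻¹ * a * g} : Set G)) := by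
    intro a
    ext c
    rw [mem_cj, mem_cen, mem_cen]
    constructor
    · intro h
      calc g⁻¹ * c * g * (g⁻¹ * a * g) = g⁻¹ * (c * a) * g := by group
        _ = _ := by rw [h]; group
    · intro h
      calc c * a = g * (g⁻¹ * c * g * (g⁻¹ * a * g)) * g⁻¹ := by group
        _ = _ := by rw [h]; group
  refine
    { card := (card_cj g A).trans L.card
      sq := ?_
      cent := ?_
      card_norm := by rw [hnorm, card_cj, L.card_norm]
      cent_le := ?_
      card_cent := ?_
      trans := ?_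
      ti := ?_
      cover := ?_ }
  · rintro _ ⟨a, ha, rfl⟩
    rw [← map_mul, L.sq a ha, map_one]
  · intro c hc
    rw [mem_cj]
    refine L.cent (mem_centralizer_iff.2 fun a ha => ?_)
    have h2 := congrArg (fun z => g⁻¹ * z * g) (mem_centralizer_iff.1 hc _ (conj_mem_cj ha))
    simpa [mul_assoc] using h2
  · intro a ha ha1
    rw [hnorm, hcen a]
    exact map_mono (L.cent_le _ (hu ha ha1).1 (hu ha ha1).2)
  · intro a ha ha1
    rw [hcen a, card_cj, L.card_cent _ (hu ha ha1).1 (hu ha ha1).2]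
  · intro a ha b hb ha1 hb1
    obtain ⟨n, hnn, he⟩ := L.trans _ (hu ha ha1).1 _ (hu hb hb1).1 (hu ha ha1).2 (hu hb hb1).2
    refine ⟨g * n * g⁻¹, cj_norm g A hnn, ?_⟩
    calc g * n * g⁻¹ * a * (g * n * g⁻¹)⁻¹ = g * (n * (g⁻¹ * a * g) * n⁻¹) * g⁻¹ := by group
      _ = b := by rw [he]; group
  · intro k a ha hka ha1
    refine hn (L.ti _ _ (hu ha ha1).1 ?_ (hu ha ha1).2)
    have := mem_cj.1 hka
    rwa [show g⁻¹ * k * g * (g⁻¹ * a * g) * (g⁻¹ * k * g)⁻¹ = g⁻¹ * (k * a * k⁻¹) * g by group]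
  · intro x hx
    obtain ⟨k, hk⟩ := L.cover x hx
    refine ⟨g * k, mem_cj.2 ?_⟩
    rwa [show g⁻¹ * (g * k * x * (g * k)⁻¹) * g = k * x * k⁻¹ by group]

end Cfsg.Agent.Lib.M23Nse5
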