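import Cfsg.Agent.Lib.M23Nse5.Facts
import Cfsg.Agent.Lib.Design.WittAutGroups
import Cfsg.Prelude.Def_Spor_Mathieu

/-!
A group of order `10200960` acting faithfully on a design of 253 blocks of size seven on 23
points, no four points in two blocks, is the Mathieu group of degree 23: the blocks form an
S(4, 7, 23), whose automorphism group is a point stabiliser in the code automorphism group.
-/

set_option autoImplicit false

namespace Cfsg.Agent.Lib.M23Nse5

open Cfsg Finset

universe u v

variable {G : Type u} [Group G] {X : Type v} [MulAction G X] {β : Type u} [MulAction G β]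
  {blk : β → Finset X}

theorem Design.injective (D : Design G X β blk) : Function.Injective blk := by
  intro b b' h
  obtain ⟨s, hs, hc⟩ := exists_subset_card_eq (s := blk b) (n := 4) (by rw [D.card_blk]; norm_num)
  exact D.four s b b' hc hs (h ▸ hs)

theorem Design.steiner [Fintype X] (D : Design G X β blk) :
    IsSteinerSystem 4 7 (Set.range blk) := by
  classical
  haveI : Finite β := Nat.finite_of_card_ne_zero (by rw [D.card_blocks]; norm_num)
  haveI : Fintype β := Fintype.ofFinite β
  refine ⟨fun b hb => ?_, fun s hs => ?_⟩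
  · obtain ⟨i, rfl⟩ := hb
    exact D.card_blk i
  have hX : (univ : Finset X).card = 23 := by
    rw [card_univ, ← Nat.card_eq_fintype_card, D.card_points]
  have hT : (univ : Finset β).biUnion (fun b => (blk b).powersetCard 4) =
      (univ : Finset X).powersetCard 4 := by
    refine eq_of_subset_of_card_le (fun t ht => ?_) (le_of_eq ?_)
    · obtain ⟨b, -, hb⟩ := mem_biUnion.1 ht
      exact mem_powersetCard.2 ⟨subset_univ _, (mem_powersetCard.1 hb).2⟩
    · rw [card_biUnion]
      · simp only [card_powersetCard, D.card_blk, hX, sum_const, card_univ, smul_eq_mul]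
        rw [← Nat.card_eq_fintype_card, D.card_blocks]
        decide
      · intro b _ b' _ hne
        refine disjoint_left.2 fun t h h' => hne ?_
        exact D.four t b b' (mem_powersetCard.1 h).2 (mem_powersetCard.1 h).1
          (mem_powersetCard.1 h').1
  obtain ⟨b, -, hb⟩ := mem_biUnion.1 (hT.symm ▸ mem_powersetCard.2 ⟨subset_univ s, hs⟩ :
    s ∈ (univ : Finset β).biUnion fun b => (blk b).powersetCard 4)
  refine ⟨blk b, ⟨⟨b, rfl⟩, (mem_powersetCard.1 hb).1⟩, ?_⟩
  rintro _ ⟨⟨c, rfl⟩, hc⟩
  exact congrArg blk (D.four s c b hs hc (mem_powersetCard.1 hb).1)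

theorem Design.image_smul_blk [DecidableEq X] (D : Design G X β blk) (g : G) (b : β) :
    (blk b).image (MulAction.toPermHom G X g) = blk (g • b) := by
  ext y
  rw [mem_image]
  constructor
  · rintro ⟨x, hx, rfl⟩
    exact (D.equivariant g b x).2 hx
  · intro hy
    refine ⟨g⁻¹ • y, (D.equivariant g b _).1 ?_, smul_inv_smul g y⟩
    rwa [smul_inv_smul]

theorem nonempty_mulEquiv_of_design [Finite G] (hG : Nat.card G = 10200960)
    [Finite X] (blk : β → Finset X) (D : Design G X β blk) :
    Nonempty (G ≃* Cfsg.Spor.M23) := by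
  classical
  haveI : Fintype X := Fintype.ofFinite X
  have hX : Fintype.card X = 23 := by rw [← Nat.card_eq_fintype_card, D.card_points]
  have hB : IsSteinerSystem 4 7 (Set.range blk) := D.steiner
  have hmem : ∀ g : G, MulAction.toPermHom G X g ∈ setSystemAut (Set.range blk) := by
    intro g
    rw [WittAut.mem_aut_iff]
    rintro _ ⟨b, rfl⟩
    exact ⟨g • b, (D.image_smul_blk g b).symm⟩
  let ψ : G →* setSystemAut (Set.range blk) := (MulAction.toPermHom G X).codRestrict _ hmem
  have hψ : Function.Injective ψ := by
    rw [injective_iff_map_eq_one]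
    intro g hg
    refine D.faithful g fun b => D.injective ?_
    rw [← D.image_smul_blk g b, show MulAction.toPermHom G X g = 1 from congrArg Subtype.val hg]
    exact image_id
  have hcard : Nat.card G = Nat.card (setSystemAut (Set.range blk)) := by
    rw [(WittAut.result23 hX hB).1.2, hG]
  obtain ⟨e, -, he⟩ := WittModel.model23 hX hB
  obtain ⟨φ, -⟩ := WittAut.aut23 he
  obtain ⟨i⟩ := Golay.stab1_iso (e none)
  obtain ⟨j⟩ := Golay.stab1_iso (none : GolayPt)
  let ψe : G ≃* setSystemAut (Set.range blk) :=
    MulEquiv.ofBijective ψ ((Nat.bijective_iff_injective_and_card ψ).2 ⟨hψ, hcard⟩)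
  exact ⟨ψe.trans (φ.trans (i.symm.trans (j.trans (Golay.stabEquiv (none : GolayPt)))))⟩

end Cfsg.Agent.Lib.M23Nse5
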