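import Cfsg.Agent.Lib.M23Nse5.Points
import Cfsg.Agent.Lib.M23Nse5.Steiner
import Cfsg.Agent.Lib.M23Nse5.Hist

/-!
From a heptad subgroup to the isomorphism with the Mathieu group of degree 23.
-/

set_option autoImplicit false

namespace Cfsg.Agent.Lib.M23Nse5

universe u

/-- The conjugates of a local subgroup with their orbit structure determine the group. -/
theorem nonempty_mulEquiv_of_orbits {G : Type u} [Group G] [Finite G]
    (hG : Nat.card G = 10200960) (A0 : Subgroup G)
    (hloc : ∀ B ∈ Conjs A0, Local B) (horb : ∀ B ∈ Conjs A0, Orbits B) :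
    Nonempty (G ≃* Cfsg.Spor.M23) := by
  classical
  let K : Ctx G :=
    { A0 := A0
      cardG := hG
      loc := fun B => hloc B.1 B.2
      orb := fun B => horb B.1 B.2
      sv := fun B => Classical.choice (horb B.1 B.2).exists_seven }
  obtain ⟨X, hact, hfin, blk, hD⟩ := Ctx.exists_design K
  exact nonempty_mulEquiv_of_design hG blk hD

end Cfsg.Agent.Lib.M23Nse5
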