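import Cfsg.Agent.Lib.Compute.Mathieu.Groups
import Cfsg.Agent.Lib.Compute.Transporter

/-! Class representatives of M23 (code pair, order, bound on the centralizer) and kernel checks. -/

set_option autoImplicit false
set_option maxRecDepth 100000

namespace Cfsg.Agent.Lib.M23Nse5

open Cfsg.Agent.Lib.Compute Cfsg.Agent.Lib.Compute.Mathieu

/-- Powers of a code. -/
noncomputable def codePow23 (c : ℕ) : ℕ → ℕ
  | 0 => (permOps 8 24).one
  | k + 1 => mulP 8 24 c (codePow23 c k)

/-- Representatives of the sixteen classes other than the identity. -/
def modelReps : List ((ℕ × ℕ) × ℕ × ℕ) := [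
  ((0x170b120d10151113080e140c160a060f0709050402030001, 0x170b120d10151113080e140c160a060f0709050402030001), 2, 2688),
  ((0x1713150d0414110a070e1206100b0f0c0908051601030200, 0x17041512160d110b090e14080a1007060f0c051302010300), 3, 180),
  ((0x17050b100d12091106080e0a160c1413070f150104030200, 0x170b050908121014060d130a150c110e070f160302010400), 4, 32),
  ((0x170a0f091504110807020d131412100b0c1605060e000301, 0x1706130b0c0a110915030d07081614100f040512010e0002), 5, 15),
  ((0x171216050007130f150806090e140c0b100d0a0311040102, 0x17150f0a11160307100b060908050c0e120d140204000113), 6, 12),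
  ((0x170712050f0c1508000a16090d110e1304060b1410020301, 0x170d110408150a0313090b12050e0c10160614070102000f), 7, 14),
  ((0x170d110408150a0313090b12050e0c10160614070102000f, 0x170712050f0c1508000a16090d110e1304060b1410020301), 7, 14),
  ((0x170a140511070c150f0810090e161304060d1203000b0201, 0x170a10150905130d0f0b061102160c0e1207140804010003), 8, 8),
  ((0x170b01100e081207140a0f0415060c091105160d13020003, 0x17050b0f031107140d130409160e0812100a060c00021501), 11, 11),
  ((0x17050b0f031107140d130409160e0812100a060c00021501, 0x170b01100e081207140a0f0415060c091105160d13020003), 11, 11),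
  ((0x170b05070e160804090613150c12100f02110a140d030001, 0x17120c040d0a06090813030b16050f11140e151002070001), 14, 14),
  ((0x17120c040d0a06090813030b16050f11140e151002070001, 0x170b05070e160804090613150c12100f02110a140d030001), 14, 14),
  ((0x170e0716041509050813030a0d060f0c12140b0110110002, 0x171412060e07020309160b08050c110f150a10130d000401), 15, 15),
  ((0x171412060e07020309160b08050c110f150a10130d000401, 0x170e0716041509050813030a0d060f0c12140b0110110002), 15, 15),
  ((0x1700161514131211100f0e0d0c0b0a090807060504030201, 0x171514131211100f0e0d0c0b0a0908070605040302010016), 23, 23),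
  ((0x171514131211100f0e0d0c0b0a0908070605040302010016, 0x1700161514131211100f0e0d0c0b0a090807060504030201), 23, 23)]

/-- The representatives are elements of the group. -/
theorem modelReps_pairs : (modelReps.map Prod.fst).all (pairCheck 8 24 m23Chain) = true := by decide +kernel

/-- The orders are as listed. -/
theorem modelReps_orders : (modelReps.all fun r => Nat.beq (codePow23 r.1.1 r.2.1) (permOps 8 24).one &&
    (List.range (r.2.1 - 1)).all fun k => !Nat.beq (codePow23 r.1.1 (k + 1)) (permOps 8 24).one) = true := by
  decide +kernel

/-- The centralizers are at most as large as listed. -/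
theorem modelReps_cents : (modelReps.all fun r =>
    Nat.ble (transList (permOps 8 24) r.1.1 r.1.1 m23Chain (permOps 8 24).one []).length r.2.2) = true := by
  decide +kernel

/-- Representatives of equal order are not conjugate. -/
theorem modelReps_split : ((List.range 16).all fun i => (List.range 16).all fun j =>
    !(Nat.blt i j && Nat.beq (modelReps.getD i ((0, 0), 0, 0)).2.1 (modelReps.getD j ((0, 0), 0, 0)).2.1) ||
      (transList (permOps 8 24) (modelReps.getD i ((0, 0), 0, 0)).1.1 (modelReps.getD j ((0, 0), 0, 0)).1.1
        m23Chain (permOps 8 24).one []).isEmpty) = true := by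
  decide +kernel

end Cfsg.Agent.Lib.M23Nse5
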