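import Cfsg.Agent.Lib.M23Nse5.OrbitsSeven

/-!
# The orbits of a heptad subgroup on its conjugates

`orbits`: 112 free and 140 commuting conjugates, each a single orbit of the normalizer, which acts
as the alternating group of degree seven on the seven regular orbits of the subgroup.
-/

set_option autoImplicit false

namespace Cfsg.Agent.Lib.M23Nse5

open Subgroup OrbitsAux

universe u
variable {G : Type u} [Group G] [Finite G] {A : Subgroup G}

theorem seven (F : Facts G) (L : Local A) : Nonempty (Seven A) := by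
  classical
  let e : AOrb A ≃ Fin 7 := Finite.equivFinOfCardEq (counts F L).1
  let ρ : ↥(normalizer (A : Set G)) →* Equiv.Perm (Fin 7) :=
    e.permCongrHom.toMonoidHom.comp (orbPerm A)
  let idx : Subgroup G → Fin 7 := fun B =>
    if h : B ∈ Conjs A ∧ B ≠ A ∧ Free A B then e (Quotient.mk _ ⟨B, h⟩) else 0
  have hne : ∀ {B : Subgroup G}, Free A B → B ≠ A := by
    rintro B hf rfl
    obtain ⟨a, ha, ha1, -⟩ := exists_seven_norm L
    exact ha1 (hf a ha (cj_eq_self_iff.mpr (le_normalizer ha)))
  have hidx : ∀ {B : Subgroup G} (hB : B ∈ Conjs A) (hf : Free A B),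
      idx B = e (Quotient.mk _ ⟨B, hB, hne hf, hf⟩) :=
    fun {B} hB hf => dif_pos (show B ∈ Conjs A ∧ B ≠ A ∧ Free A B from ⟨hB, hne hf, hf⟩)
  have hρ : ∀ n, ρ n = 1 ↔ (n : G) ∈ A := fun n => by
    rw [← orbPerm_eq_one F L n]
    exact map_eq_one_iff _ e.permCongrHom.injective
  refine ⟨⟨idx, ρ, ?_, hρ, fun i => ?_, fun B hB B' hB' hf hf' => ?_, fun n B hB hf => ?_⟩⟩
  · refine Equiv.Perm.eq_alternatingGroup_of_index_eq_two ?_
    have hker : ρ.ker = A.subgroupOf (normalizer (A : Set G)) := by
      ext n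
      rw [MonoidHom.mem_ker, mem_subgroupOf, hρ]
    have h1 := (ρ.ker).card_mul_index
    rw [index_ker, hker, Nat.card_congr (subgroupOfEquivOfLe le_normalizer).toEquiv, L.card,
      L.card_norm] at h1
    have h2 := ρ.range.card_mul_index
    rw [Nat.card_perm, Nat.card_eq_fintype_card (α := Fin 7), Fintype.card_fin,
      show Nat.factorial 7 = 5040 from rfl] at h2
    have h3 : Nat.card ρ.range = 2520 := by omega
    rw [h3] at h2
    omega
  · obtain ⟨⟨B, hB, hBA, hf⟩, hq⟩ := Quotient.exists_rep (e.symm i)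
    exact ⟨B, hB, hf, by rw [hidx hB hf, hq, Equiv.apply_symm_apply]⟩
  · rw [hidx hB hf, hidx hB' hf', e.injective.eq_iff]
    exact ⟨fun h => Quotient.exact h, fun h => Quotient.sound (s := aSetoid A) h⟩
  · have h' := free_cj ⟨hB, hne hf, hf⟩ n.2
    rw [hidx hB hf, hidx h'.1 h'.2.2]
    show _ = e.permCongr (orbPerm A n) (e _)
    rw [Equiv.permCongr_apply, Equiv.symm_apply_apply, orbPerm_mk]
    rfl

/-- The relations between the conjugates of `A`. -/
theorem orbits (F : Facts G) (L : Local A) : Orbits A where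
  card_conjs := card_conjs F L
  free_symm := fun _ hB hne h => OrbitsAux.free_symm F L hB hne h
  comm_card := fun _ hB hne h => by
    obtain ⟨u, hu, hu1, huB⟩ := exists_of_not_free h
    exact (pair_four F L hB hne hu hu1 huB).1
  card_free := (counts F L).2.1
  card_comm := (counts F L).2.2.1
  free_trans := fun _ hB _ hB' hne hne' hf hf' => OrbitsAux.free_trans F L hB hB' hne hne' hf hf'
  comm_trans := fun _ hB _ hB' hne hne' hf hf' => OrbitsAux.comm_trans F L hB hB' hne hne' hf hf'
  exists_seven := seven F L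

end Cfsg.Agent.Lib.M23Nse5
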