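import Mathlib
import Cfsg.Agent.Lib.M23Nse5.Facts
import Cfsg.Agent.Lib.SmallGroups.PrimeSylow

/-!
# Conjugates of a heptad subgroup: basic lemmas

Transfer of `Local` to conjugates, centralisers of elements of order seven, and the action of an
outside involution on the subgroup of order sixteen.
-/

set_option autoImplicit false

namespace Cfsg.Agent.Lib.M23Nse5.OrbitsAux

open Subgroup

universe u
variable {G : Type u} [Group G] {A B : Subgroup G}

theorem mem_cj {g x : G} : x ∈ cj g A ↔ g⁻¹ * x * g ∈ A := by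
  constructor
  · rintro ⟨a, ha, rfl⟩
    have : g⁻¹ * ((MulAut.conj g).toMonoidHom a) * g = a := by
      show g⁻¹ * (g * a * g⁻¹) * g = a
      group
    rwa [this]
  · intro h
    refine ⟨_, h, ?_⟩
    show g * (g⁻¹ * x * g) * g⁻¹ = x
    group

theorem conj_mem_cj {g a : G} (ha : a ∈ A) : g * a * g⁻¹ ∈ cj g A := ⟨a, ha, rfl⟩

theorem cj_one : cj (1 : G) A = A := by
  ext x
  simp [mem_cj]

theorem cj_cj (g h : G) : cj g (cj h A) = cj (g * h) A := by
  ext x
  rw [mem_cj, mem_cj, mem_cj]
  simp [mul_assoc]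

theorem cj_inv_cj (g : G) : cj g⁻¹ (cj g A) = A := by rw [cj_cj, inv_mul_cancel, cj_one]

theorem cj_cj_inv (g : G) : cj g (cj g⁻¹ A) = A := by rw [cj_cj, mul_inv_cancel, cj_one]

theorem cj_eq_self_iff {g : G} : cj g A = A ↔ g ∈ normalizer (A : Set G) := by
  rw [mem_normalizer_iff'']
  constructor
  · intro h x
    conv_lhs => rw [← h]
    rw [mem_cj]
  · intro h
    ext x
    rw [mem_cj]
    exact (h x).symm

theorem self_mem_conjs (A : Subgroup G) : A ∈ Conjs A := ⟨1, cj_one.symm⟩

theorem cj_mem_conjs (hB : B ∈ Conjs A) (g : G) : cj g B ∈ Conjs A := by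
  obtain ⟨h, rfl⟩ := hB
  exact ⟨g * h, cj_cj g h⟩

theorem conjs_cj (g : G) : Conjs (cj g A) = Conjs A := by
  ext C
  constructor
  · rintro ⟨h, rfl⟩
    exact ⟨h * g, cj_cj h g⟩
  · rintro ⟨h, rfl⟩
    refine ⟨h * g⁻¹, ?_⟩
    rw [cj_cj, inv_mul_cancel_right]

theorem card_cj (g : G) : Nat.card ↥(cj g A) = Nat.card A :=
  (Nat.card_congr (A.equivMapOfInjective _ (MulAut.conj g).injective).toEquiv).symm

theorem conj_mem_normalizer_cj {g x : G} :
    x ∈ normalizer ((cj g A : Subgroup G) : Set G) ↔ g⁻¹ * x * g ∈ normalizer (A : Set G) := by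
  rw [← cj_eq_self_iff, ← cj_eq_self_iff, cj_cj]
  constructor
  · intro h
    have := congrArg (cj g⁻¹) h
    rwa [cj_cj, cj_cj, inv_mul_cancel, cj_one, ← mul_assoc] at this
  · intro h
    have := congrArg (cj g) h
    rw [cj_cj] at this
    simpa [mul_assoc] using this

/-- The local structure is inherited by conjugates. -/
theorem local_cj (L : Local A) (g : G) : Local (cj g A) := by
  have hconj : ∀ {x a : G}, x * (g * a * g⁻¹) = (g * a * g⁻¹) * x →
      (g⁻¹ * x * g) * a = a * (g⁻¹ * x * g) := by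
    intro x a h
    have := congrArg (fun z => g⁻¹ * z * g) h
    simpa [mul_assoc] using this
  refine ⟨(card_cj g).trans L.card, ?_, ?_, ?_, ?_, ?_, ?_, ?_, ?_⟩
  · intro x hx
    rw [mem_cj] at hx
    have h := L.sq _ hx
    have : g * ((g⁻¹ * x * g) * (g⁻¹ * x * g)) * g⁻¹ = x * x := by group
    rw [← this, h]
    group
  · intro x hx
    rw [mem_cj]
    refine L.cent (mem_centralizer_iff.mpr fun a ha => ?_)
    exact (hconj (mem_centralizer_iff.mp hx _ (conj_mem_cj ha)).symm).symm
  · rw [← L.card_norm]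
    exact Nat.card_congr
      (Equiv.subtypeEquiv (MulAut.conj g⁻¹).toEquiv fun x => by
        rw [conj_mem_normalizer_cj]
        simp [MulAut.conj_apply])
  · intro x hx hx1 y hy
    rw [conj_mem_normalizer_cj]
    have hx' := mem_cj.mp hx
    refine L.cent_le _ hx' (fun h => hx1 ?_) ?_
    · have := congrArg (fun z => g * z * g⁻¹) h
      simpa [mul_assoc] using this
    · rw [mem_centralizer_singleton_iff] at hy ⊢
      have e : g * (g⁻¹ * x * g) * g⁻¹ = x := by group
      exact hconj (by rw [e]; exact hy)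
  · intro x hx hx1
    have hx' := mem_cj.mp hx
    rw [← L.card_cent _ hx' (fun h => hx1 (by
      have := congrArg (fun z => g * z * g⁻¹) h
      simpa [mul_assoc] using this))]
    refine Nat.card_congr (Equiv.subtypeEquiv (MulAut.conj g⁻¹).toEquiv fun y => ?_)
    simp only [mem_centralizer_singleton_iff]
    constructor
    · intro h
      have := congrArg (fun z => g⁻¹ * z * g) h
      simpa [mul_assoc] using this
    · intro h
      have := congrArg (fun z => g * z * g⁻¹) h
      simpa [mul_assoc] using this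
  · intro x hx y hy hx1 hy1
    obtain ⟨n, hn, e⟩ := L.trans _ (mem_cj.mp hx) _ (mem_cj.mp hy)
      (fun h => hx1 (by
        have := congrArg (fun z => g * z * g⁻¹) h
        simpa [mul_assoc] using this))
      (fun h => hy1 (by
        have := congrArg (fun z => g * z * g⁻¹) h
        simpa [mul_assoc] using this))
    refine ⟨g * n * g⁻¹, ?_, ?_⟩
    · rw [conj_mem_normalizer_cj]
      simpa [mul_assoc] using hn
    · have := congrArg (fun z => g * z * g⁻¹) e
      simpa [mul_assoc] using this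
  · intro h x hx hh hx1
    rw [conj_mem_normalizer_cj]
    refine L.ti _ _ (mem_cj.mp hx) ?_ (fun e => hx1 ?_)
    · have e : (g⁻¹ * h * g) * (g⁻¹ * x * g) * (g⁻¹ * h * g)⁻¹ = g⁻¹ * (h * x * h⁻¹) * g := by group
      rw [e]
      exact mem_cj.mp hh
    · have := congrArg (fun z => g * z * g⁻¹) e
      simpa [mul_assoc] using this
  · intro x hx
    obtain ⟨h, hh⟩ := L.cover x hx
    refine ⟨g * h, mem_cj.mpr ?_⟩
    have e : g⁻¹ * (g * h * x * (g * h)⁻¹) * g = h * x * h⁻¹ := by group
    rwa [e]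

theorem local_of_mem (L : Local A) (hB : B ∈ Conjs A) : Local B := by
  obtain ⟨g, rfl⟩ := hB
  exact local_cj L g

theorem conjs_of_mem (hB : B ∈ Conjs A) : Conjs B = Conjs A := by
  obtain ⟨g, rfl⟩ := hB
  exact conjs_cj g

theorem inv_eq_self (L : Local A) {a : G} (ha : a ∈ A) : a⁻¹ = a :=
  inv_eq_of_mul_eq_one_right (L.sq a ha)

theorem commute_of_mem (L : Local A) {a b : G} (ha : a ∈ A) (hb : b ∈ A) : Commute a b := by
  have h := inv_eq_self L (mul_mem ha hb)
  rw [mul_inv_rev, inv_eq_self L ha, inv_eq_self L hb] at h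
  exact h.symm

theorem mem_normalizer_of_commute (L : Local A) {a x : G} (ha : a ∈ A) (ha1 : a ≠ 1)
    (h : Commute x a) : x ∈ normalizer (A : Set G) :=
  L.cent_le a ha ha1 (mem_centralizer_singleton_iff.mpr h.eq)

theorem orderOf_eq_two (L : Local A) {a : G} (ha : a ∈ A) (ha1 : a ≠ 1) : orderOf a = 2 :=
  orderOf_eq_prime (by rw [pow_two]; exact L.sq a ha) ha1

/-- Two conjugates with a common involution are equal. -/
theorem eq_of_mem (L : Local A) (hB : B ∈ Conjs A) {b : G} (hbA : b ∈ A) (hbB : b ∈ B) (hb : b ≠ 1) :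
    B = A := by
  obtain ⟨g, rfl⟩ := hB
  have h := mem_cj.mp hbB
  refine cj_eq_self_iff.mpr (L.ti g _ h ?_ fun e => hb ?_)
  · have e : g * (g⁻¹ * b * g) * g⁻¹ = b := by group
    rwa [e]
  · have := congrArg (fun z => g * z * g⁻¹) e
    simpa [mul_assoc] using this

/-- Every involution lies in some conjugate. -/
theorem exists_conj_mem (L : Local A) {x : G} (hx : orderOf x = 2) : ∃ B ∈ Conjs A, x ∈ B := by
  obtain ⟨g, hg⟩ := L.cover x hx
  exact ⟨cj g⁻¹ A, ⟨g⁻¹, rfl⟩, mem_cj.mpr (by simpa using hg)⟩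

/-- The number of nontrivial elements. -/
theorem card_ne_one (H : Subgroup G) [Finite G] :
    Nat.card {x : G // x ∈ H ∧ x ≠ 1} = Nat.card H - 1 := by
  have e : {x : G | x ∈ H ∧ x ≠ 1} = (H : Set G) \ {1} := by
    ext x
    simp
  show Nat.card ↥{x : G | x ∈ H ∧ x ≠ 1} = _
  rw [Nat.card_coe_set_eq, e, Set.ncard_diff_singleton_of_mem H.one_mem]
  rfl

/-- The permutation of the elements given by conjugation. -/
def conjP : G →* Equiv.Perm G where
  toFun g := (MulAut.conj g).toEquiv
  map_one' := Equiv.ext fun x => by simp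
  map_mul' g h := Equiv.ext fun x => by simp

theorem conjP_apply (g x : G) : conjP g x = g * x * g⁻¹ := rfl

/-- The permutation of the subgroups given by conjugation. -/
def cjP : G →* Equiv.Perm (Subgroup G) where
  toFun g := ⟨cj g, cj g⁻¹, fun _ => cj_inv_cj g, fun _ => cj_cj_inv g⟩
  map_one' := Equiv.ext fun C => cj_one
  map_mul' g h := Equiv.ext fun C => (cj_cj g h).symm

theorem cjP_apply (g : G) (C : Subgroup G) : cjP g C = cj g C := rfl

/-- A fixed point of an element of prime power order acting on a set of size prime to `p`. -/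
theorem exists_fix {α : Type u} (φ : G →* Equiv.Perm α) (p n : ℕ) [Fact p.Prime] {y : G}
    (hy : φ y ^ p ^ n = 1) (P : α → Prop) [Finite {x // P x}] (hP : ∀ x, P (φ y x) ↔ P x)
    (hc : ¬ p ∣ Nat.card {x // P x}) : ∃ x, P x ∧ φ y x = x := by
  classical
  haveI := Fintype.ofFinite {x // P x}
  rw [Nat.card_eq_fintype_card] at hc
  obtain ⟨⟨x, hx⟩, hfix⟩ := Equiv.Perm.exists_fixed_point_of_prime (n := n) hc
    (σ := (φ y).subtypePerm hP) (by
      rw [Equiv.Perm.subtypePerm_pow]
      refine Equiv.ext fun x => Subtype.ext ?_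
      simp [hy])
  exact ⟨x, hx, congrArg Subtype.val hfix⟩

theorem map_pow_seven {α : Type u} (φ : G →* Equiv.Perm α) {y : G} (hy : orderOf y = 7) :
    φ y ^ 7 ^ 1 = 1 := by
  rw [pow_one, ← map_pow, ← hy, pow_orderOf_eq_one, map_one]

/-- An element of order seven in the normalizer commutes with an involution of the subgroup. -/
theorem exists_commute_seven [Finite G] (L : Local A) {y : G} (hy : orderOf y = 7)
    (hn : y ∈ normalizer (A : Set G)) : ∃ a ∈ A, a ≠ 1 ∧ Commute y a := by
  haveI : Fact (Nat.Prime 7) := ⟨by norm_num⟩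
  obtain ⟨a, ⟨ha, ha1⟩, he⟩ := exists_fix conjP 7 1 (map_pow_seven conjP hy)
    (fun x => x ∈ A ∧ x ≠ 1)
    (fun x => by
      rw [conjP_apply, ← mem_normalizer_iff.mp hn x]
      exact and_congr_right fun _ => not_congr conj_eq_one_iff)
    (by rw [card_ne_one, L.card]; norm_num)
  exact ⟨a, ha, ha1, mul_inv_eq_iff_eq_mul.mp he⟩

/-- There is an element of order seven commuting with a given involution of the subgroup. -/
theorem exists_seven [Finite G] (L : Local A) {a : G} (ha : a ∈ A) (ha1 : a ≠ 1) :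
    ∃ y : G, orderOf y = 7 ∧ Commute y a := by
  haveI : Fact (Nat.Prime 7) := ⟨by norm_num⟩
  obtain ⟨⟨y, hy⟩, h⟩ := exists_prime_orderOf_dvd_card' (G := ↥(centralizer ({a} : Set G))) 7
    (by rw [L.card_cent a ha ha1]; norm_num)
  exact ⟨y, by rw [← h]; exact (Subgroup.orderOf_mk y hy).symm, mem_centralizer_singleton_iff.mp hy⟩

/-- The centraliser of an element of order seven commuting with an involution is cyclic of order
fourteen. -/
theorem cent_seven [Finite G] (F : Facts G) {y a : G} (hy : orderOf y = 7) (ha : orderOf a = 2)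
    (hya : Commute y a) {k : G} (hk : Commute y k) :
    k ^ 14 = 1 ∧ (k * k = 1 → k = 1 ∨ k = a) := by
  haveI : Fact (Nat.Prime 7) := ⟨by norm_num⟩
  set P : Sylow 7 G := default
  have hP : Nat.card (P : Subgroup G) = 7 := by
    rw [SmallGroups.card_sylow_eq P (k := 1) (m := 1457280) (by rw [F.card]; norm_num) (by norm_num),
      pow_one]
  obtain ⟨Q, hQ, -⟩ := SmallGroups.existsUnique_sylow_of_orderOf P hP hy
  have hn : Nat.card (Sylow 7 G) = 242880 := by
    have h := SmallGroups.card_orderOf_eq_prime P hP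
    rw [F.c7] at h
    omega
  have hN := SmallGroups.card_normalizer_sylow_mul Q
  rw [hQ, hn, F.card] at hN
  have hN42 : Nat.card (normalizer ((zpowers y : Subgroup G) : Set G)) = 42 := by omega
  set C := centralizer ({y} : Set G)
  have hCN : C ≤ normalizer ((zpowers y : Subgroup G) : Set G) := by
    intro x hx
    have hxy : Commute x y := mem_centralizer_singleton_iff.mp hx
    rw [← cj_eq_self_iff, show cj x (zpowers y) = zpowers (x * y * x⁻¹) from
      MonoidHom.map_zpowers _ y, hxy.eq, mul_inv_cancel_right]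
  have hdvd : Nat.card C ∣ 42 := hN42 ▸ Subgroup.card_dvd_of_le hCN
  have hyC : y ∈ C := mem_centralizer_singleton_iff.mpr rfl
  have haC : a ∈ C := mem_centralizer_singleton_iff.mpr hya.symm.eq
  have hord : orderOf (y * a) = 14 := by
    rw [hya.orderOf_mul_eq_mul_orderOf_of_coprime (by rw [hy, ha]; norm_num), hy, ha]
  have h14 : 14 ∣ Nat.card C := by
    rw [← hord]
    exact (Subgroup.orderOf_mk (y * a) (mul_mem hyC haC)).symm ▸ orderOf_dvd_natCard _
  have hC : Nat.card C = 14 := by
    by_contra h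
    have hpos : 0 < Nat.card C := Nat.card_pos
    have h42 : Nat.card C = 42 := by
      have hle := Nat.le_of_dvd (by norm_num) hdvd
      obtain ⟨j, hj⟩ := h14
      have hj3 : j ≤ 3 := by omega
      rw [hj] at hdvd ⊢
      interval_cases j <;> first | omega | norm_num at hdvd
    haveI : Fact (Nat.Prime 3) := ⟨by norm_num⟩
    obtain ⟨⟨z, hz⟩, hz3⟩ := exists_prime_orderOf_dvd_card' (G := ↥C) 3 (by rw [h42]; norm_num)
    rw [Subgroup.orderOf_mk] at hz3
    have hyz : Commute y z := (mem_centralizer_singleton_iff.mp hz : z * y = y * z).symm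
    have h21 := F.ord_mem (y * z)
    rw [hyz.orderOf_mul_eq_mul_orderOf_of_coprime (by rw [hy, hz3]; norm_num), hy, hz3] at h21
    simp at h21
  have hgen : zpowers (y * a) = C := eq_of_le_of_card_ge
    (zpowers_le.mpr (mul_mem hyC haC)) (by rw [Nat.card_zpowers, hord, hC])
  have hkC : k ∈ C := mem_centralizer_singleton_iff.mpr hk.symm.eq
  rw [← hgen] at hkC
  obtain ⟨i, rfl⟩ := mem_zpowers_iff.mp hkC
  refine ⟨?_, fun h2 => ?_⟩
  · rw [← zpow_natCast, ← zpow_mul, mul_comm i, zpow_mul, zpow_natCast, ← hord, pow_orderOf_eq_one,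
      one_zpow]
  · rw [← zpow_add] at h2
    have h := orderOf_dvd_iff_zpow_eq_one.mpr h2
    rw [hord] at h
    obtain ⟨j, hj⟩ : (7 : ℤ) ∣ i := by omega
    have h7 : (y * a) ^ (7 : ℤ) = a := by
      rw [show (7 : ℤ) = ((7 : ℕ) : ℤ) from rfl, zpow_natCast, hya.mul_pow,
        show y ^ 7 = 1 by rw [← hy, pow_orderOf_eq_one], one_mul,
        show (7 : ℕ) = 2 * 3 + 1 from rfl, pow_succ, pow_mul, show a ^ 2 = 1 by
          rw [← ha, pow_orderOf_eq_one], one_pow, one_mul]
    rw [hj, zpow_mul, h7]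
    rcases Int.even_or_odd j with ⟨l, rfl⟩ | ⟨l, rfl⟩
    · left
      rw [← two_mul, zpow_mul, zpow_two, show a * a = 1 by
        rw [← pow_two, ← ha, pow_orderOf_eq_one], one_zpow]
    · right
      rw [zpow_add, zpow_mul, zpow_two, show a * a = 1 by
        rw [← pow_two, ← ha, pow_orderOf_eq_one], one_zpow, one_mul, zpow_one]

/-- An element of order seven normalises only one conjugate. -/
theorem seven_unique [Finite G] (F : Facts G) (L : Local A) (hB : B ∈ Conjs A) {y : G}
    (hy : orderOf y = 7) (hyA : y ∈ normalizer (A : Set G)) (hyB : y ∈ normalizer (B : Set G)) :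
    B = A := by
  obtain ⟨a, ha, ha1, hya⟩ := exists_commute_seven L hy hyA
  obtain ⟨b, hb, hb1, hyb⟩ := exists_commute_seven (local_of_mem L hB) hy hyB
  rcases (cent_seven F hy (orderOf_eq_two L ha ha1) hya hyb).2 ((local_of_mem L hB).sq b hb) with h | h
  · exact absurd h hb1
  · exact eq_of_mem L hB (h ▸ ha) hb hb1

end Cfsg.Agent.Lib.M23Nse5.OrbitsAux
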