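import Cfsg.Agent.Lib.M23Nse5.OrbitsLocal

/-!
# Counting the conjugates of a heptad subgroup
-/

set_option autoImplicit false

namespace Cfsg.Agent.Lib.M23Nse5.OrbitsAux

open Subgroup

universe u
variable {G : Type u} [Group G] [Finite G] {A B : Subgroup G}

/-- A map whose fibres all have `k` elements. -/
theorem card_mul_of_fiber {α β : Type*} [Finite α] [Finite β] (f : α → β) {k : ℕ}
    (h : ∀ b, Nat.card {a // f a = b} = k) : Nat.card α = Nat.card β * k := by
  classical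
  haveI := Fintype.ofFinite β
  rw [← Nat.card_congr (Equiv.sigmaFiberEquiv f), Nat.card_sigma,
    Finset.sum_congr rfl (fun b _ => h b), Finset.sum_const, Finset.card_univ, smul_eq_mul,
    ← Nat.card_eq_fintype_card]

theorem card_conjs (F : Facts G) (L : Local A) : Nat.card ↥(Conjs A) = 253 := by
  set N := normalizer (A : Set G) with hN
  have hi : N.index = 253 := by
    have := N.card_mul_index
    rw [L.card_norm, F.card] at this
    omega
  rw [← hi]
  refine (Nat.card_congr (Equiv.ofBijective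
    (fun q : G ⧸ N => (⟨cj q.out A, q.out, rfl⟩ : ↥(Conjs A))) ⟨fun q r e => ?_, ?_⟩)).symm
  · have e' : cj q.out A = cj r.out A := congrArg Subtype.val e
    have h : q.out⁻¹ * r.out ∈ N := cj_eq_self_iff.mp (by rw [← cj_cj, ← e', cj_inv_cj])
    rw [← QuotientGroup.eq, QuotientGroup.out_eq', QuotientGroup.out_eq'] at h
    exact h
  · rintro ⟨C, g, rfl⟩
    refine ⟨(g : G ⧸ N), Subtype.ext ?_⟩
    show cj (g : G ⧸ N).out A = cj g A
    have h : (g : G ⧸ N).out⁻¹ * g ∈ N := QuotientGroup.eq.mp (QuotientGroup.out_eq' _)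
    conv_lhs => rw [← cj_eq_self_iff.mpr h]
    rw [cj_cj, mul_inv_cancel_left]

theorem card_others (F : Facts G) (L : Local A) :
    Nat.card {B : Subgroup G // B ∈ Conjs A ∧ B ≠ A ∧ Free A B} +
      Nat.card {B : Subgroup G // B ∈ Conjs A ∧ B ≠ A ∧ ¬ Free A B} = 252 := by
  classical
  rw [← Nat.card_sum]
  have h : Nat.card {B : Subgroup G // B ∈ Conjs A ∧ B ≠ A} = 252 := by
    show Nat.card ↥{B : Subgroup G | B ∈ Conjs A ∧ B ≠ A} = 252
    have e : {B : Subgroup G | B ∈ Conjs A ∧ B ≠ A} = Conjs A \ {A} := by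
      ext
      simp
    rw [Nat.card_coe_set_eq, e, Set.ncard_sdiff_singleton_of_mem (self_mem_conjs A),
      ← Nat.card_coe_set_eq, card_conjs F L]
  rw [← h]
  refine Nat.card_congr
    { toFun := Sum.elim (fun B => ⟨B.1, B.2.1, B.2.2.1⟩) (fun B => ⟨B.1, B.2.1, B.2.2.1⟩)
      invFun := fun B => if h : Free A B.1 then .inl ⟨B.1, B.2.1, B.2.2, h⟩
        else .inr ⟨B.1, B.2.1, B.2.2, h⟩
      left_inv := ?_
      right_inv := ?_ }
  · rintro (⟨B, hB⟩ | ⟨B, hB⟩)
    · simp [hB.2.2]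
    · simp [hB.2.2]
  · rintro ⟨B, hB⟩
    by_cases h : Free A B <;> simp [h]

omit [Finite G] in
theorem exists_of_not_free (h : ¬ Free A B) :
    ∃ a ∈ A, a ≠ 1 ∧ a ∈ normalizer (B : Set G) := by
  rw [Free] at h
  push Not at h
  obtain ⟨a, ha, e, ha1⟩ := h
  exact ⟨a, ha, ha1, cj_eq_self_iff.mp e⟩

theorem free_symm (F : Facts G) (L : Local A) (hB : B ∈ Conjs A) (hne : B ≠ A) (h : Free A B) :
    Free B A := by
  intro b hb hbA
  by_contra hb1
  obtain ⟨-, a, ha, ha1, haB⟩ := pair_four F (local_of_mem L hB)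
    (show A ∈ Conjs B by rw [conjs_of_mem hB]; exact self_mem_conjs A) hne.symm hb hb1
    (cj_eq_self_iff.mp hbA)
  exact ha1 (h a ha (cj_eq_self_iff.mpr haB))

/-- A nonfree conjugate meets the normalizer in a subgroup of order four. -/
theorem card_inter (F : Facts G) (L : Local A) (hB : B ∈ Conjs A) (hne : B ≠ A) (h : ¬ Free A B) :
    Nat.card ↥(B ⊓ normalizer (A : Set G)) = 4 := by
  obtain ⟨a, ha, ha1, haB⟩ := exists_of_not_free h
  obtain ⟨-, b, hb, hb1, hbA⟩ := pair_four F L hB hne ha ha1 haB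
  exact (pair_four F (local_of_mem L hB)
    (show A ∈ Conjs B by rw [conjs_of_mem hB]; exact self_mem_conjs A) hne.symm hb hb1 hbA).1

/-- An involution of the normalizer outside the subgroup. -/
def Out (A : Subgroup G) (x : G) : Prop := x ∈ normalizer (A : Set G) ∧ x ∉ A ∧ x * x = 1

omit [Finite G] in
theorem Out.ne_one {x : G} (h : Out A x) : x ≠ 1 := fun e => h.2.1 (e ▸ A.one_mem)

omit [Finite G] in
theorem Out.conj {x g : G} (h : Out A x) (hg : g ∈ normalizer (A : Set G)) :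
    Out A (g * x * g⁻¹) := by
  refine ⟨mul_mem (mul_mem hg h.1) (inv_mem hg),
    fun e => h.2.1 ((mem_normalizer_iff.mp hg x).mpr e), ?_⟩
  rw [show g * x * g⁻¹ * (g * x * g⁻¹) = g * (x * x) * g⁻¹ by group, h.2.2, mul_one,
    mul_inv_cancel]

theorem Out.card_cent (F : Facts G) (L : Local A) {x : G} (h : Out A x) :
    Nat.card ↥(A ⊓ centralizer ({x} : Set G)) = 4 :=
  (fixed_four F L h.1 h.2.1 (by rw [h.2.2]; exact A.one_mem)).1

theorem Out.exists_commute (F : Facts G) (L : Local A) {x : G} (h : Out A x) :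
    ∃ a ∈ A, a ≠ 1 ∧ Commute x a := by
  have hc := card_ne_one (A ⊓ centralizer ({x} : Set G))
  rw [h.card_cent F L] at hc
  obtain ⟨⟨a, ha, ha1⟩⟩ := (Nat.card_ne_zero.mp (hc.trans_ne (by norm_num))).1
  exact ⟨a, ha.1, ha1, (mem_centralizer_singleton_iff.mp ha.2).symm⟩

/-- The conjugate containing an outside involution. -/
theorem Out.exists_conj (F : Facts G) (L : Local A) {x : G} (h : Out A x) :
    ∃ B ∈ Conjs A, B ≠ A ∧ ¬ Free A B ∧ x ∈ B := by
  obtain ⟨B, hB, hxB⟩ := exists_conj_mem L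
    (x := x) (orderOf_eq_prime (by rw [pow_two]; exact h.2.2) h.ne_one)
  refine ⟨B, hB, fun e => h.2.1 (e ▸ hxB), fun hf => ?_, hxB⟩
  obtain ⟨a, ha, ha1, hxa⟩ := h.exists_commute F L
  exact ha1 (hf a ha (cj_eq_self_iff.mpr
    (mem_normalizer_of_commute (local_of_mem L hB) hxB h.ne_one hxa.symm)))

omit [Finite G] in
theorem unique_conj (L : Local A) {B' : Subgroup G} (hB : B ∈ Conjs A) (hB' : B' ∈ Conjs A)
    {x : G} (hx : x ∈ B) (hx' : x ∈ B') (hx1 : x ≠ 1) : B' = B :=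
  eq_of_mem (local_of_mem L hB) (show B' ∈ Conjs B by rw [conjs_of_mem hB]; exact hB') hx hx' hx1

omit [Finite G] in
theorem out_of_mem (L : Local A) (hB : B ∈ Conjs A) (hne : B ≠ A) {x : G}
    (hx : x ∈ B) (hxN : x ∈ normalizer (A : Set G)) (hx1 : x ≠ 1) : Out A x :=
  ⟨hxN, fun e => hne (eq_of_mem L hB e hx hx1), (local_of_mem L hB).sq x hx⟩

theorem card_out (F : Facts G) (L : Local A) :
    Nat.card {x : G // Out A x} =
      Nat.card {B : Subgroup G // B ∈ Conjs A ∧ B ≠ A ∧ ¬ Free A B} * 3 := by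
  classical
  choose f hf using fun x : {x : G // Out A x} => x.2.exists_conj F L
  refine card_mul_of_fiber (fun x => (⟨f x, (hf x).1, (hf x).2.1, (hf x).2.2.1⟩ :
    {B : Subgroup G // B ∈ Conjs A ∧ B ≠ A ∧ ¬ Free A B})) fun B => ?_
  obtain ⟨B, hB, hne, hnf⟩ := B
  have h3 := card_ne_one (B ⊓ normalizer (A : Set G))
  rw [card_inter F L hB hne hnf] at h3
  rw [← show Nat.card {x : G // x ∈ B ⊓ normalizer (A : Set G) ∧ x ≠ 1} = 3 from h3]
  refine Nat.card_congr
    { toFun := fun x => ⟨x.1.1, ⟨?_, x.1.2.1⟩, x.1.2.ne_one⟩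
      invFun := fun x => ⟨⟨x.1, out_of_mem L hB hne x.2.1.1 x.2.1.2 x.2.2⟩, Subtype.ext ?_⟩
      left_inv := fun x => rfl
      right_inv := fun x => rfl }
  · have e : f x.1 = B := congrArg Subtype.val x.2
    have h := (hf x.1).2.2.2
    rw [e] at h
    exact h
  · exact unique_conj L hB (hf _).1 x.2.1.1 (hf _).2.2.2 x.2.2

omit [Finite G] in
theorem card_out_commute_eq (L : Local A) {a b : G} (ha : a ∈ A) (ha1 : a ≠ 1) (hb : b ∈ A)
    (hb1 : b ≠ 1) : Nat.card {x : G // Out A x ∧ Commute x a} =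
      Nat.card {x : G // Out A x ∧ Commute x b} := by
  obtain ⟨n, hn, e⟩ := L.trans a ha b hb ha1 hb1
  refine Nat.card_congr ((MulAut.conj n).toEquiv.subtypeEquiv fun x => ?_)
  show Out A x ∧ Commute x a ↔ Out A (n * x * n⁻¹) ∧ Commute (n * x * n⁻¹) b
  refine ⟨fun h => ⟨h.1.conj hn, ?_⟩, fun h => ⟨?_, ?_⟩⟩
  · rw [← e]
    exact h.2.map (MulAut.conj n).toMonoidHom
  · have := h.1.conj (inv_mem hn)
    rwa [show n⁻¹ * (n * x * n⁻¹) * n⁻¹⁻¹ = x by group] at this
  · have := h.2.map (MulAut.conj n⁻¹).toMonoidHom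
    rw [← e] at this
    simpa [MulAut.conj_apply, mul_assoc] using this

theorem three_card_out (F : Facts G) (L : Local A) {a : G} (ha : a ∈ A) (ha1 : a ≠ 1) :
    Nat.card {x : G // Out A x} * 3 = 15 * Nat.card {x : G // Out A x ∧ Commute x a} := by
  have h15 : Nat.card {c : G // c ∈ A ∧ c ≠ 1} = 15 := by rw [card_ne_one, L.card]
  let P := {p : G × G // Out A p.1 ∧ p.2 ∈ A ∧ p.2 ≠ 1 ∧ Commute p.1 p.2}
  have h1 : Nat.card P = Nat.card {x : G // Out A x} * 3 := by
    refine card_mul_of_fiber (fun p : P => (⟨p.1.1, p.2.1⟩ : {x : G // Out A x})) fun x => ?_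
    obtain ⟨x, hx⟩ := x
    have h3 := card_ne_one (A ⊓ centralizer ({x} : Set G))
    rw [hx.card_cent F L] at h3
    rw [← show Nat.card {c : G // c ∈ A ⊓ centralizer ({x} : Set G) ∧ c ≠ 1} = 3 from h3]
    refine Nat.card_congr
      { toFun := fun p => ⟨p.1.1.2, ⟨p.1.2.2.1, ?_⟩, p.1.2.2.2.1⟩
        invFun := fun c => ⟨⟨(x, c.1), hx, c.2.1.1, c.2.2,
          (mem_centralizer_singleton_iff.mp c.2.1.2).symm⟩, rfl⟩
        left_inv := ?_
        right_inv := fun c => rfl }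
    · have hp : p.1.1.1 = x := congrArg Subtype.val p.2
      have h := p.1.2.2.2.2.symm.eq
      rw [hp] at h
      exact mem_centralizer_singleton_iff.mpr h
    · rintro ⟨⟨⟨p1, p2⟩, hp⟩, e⟩
      have he : p1 = x := congrArg Subtype.val e
      subst he
      rfl
  rw [← h1, ← h15]
  refine card_mul_of_fiber (fun p : P => (⟨p.1.2, p.2.2.1, p.2.2.2.1⟩ : {c : G // c ∈ A ∧ c ≠ 1}))
    fun c => ?_
  obtain ⟨c, hc, hc1⟩ := c
  rw [card_out_commute_eq L ha ha1 hc hc1]
  refine Nat.card_congr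
    { toFun := fun p => ⟨p.1.1.1, p.1.2.1, ?_⟩
      invFun := fun x => ⟨⟨(x.1, c), x.2.1, hc, hc1, x.2.2⟩, rfl⟩
      left_inv := ?_
      right_inv := fun x => rfl }
  · have hp : p.1.1.2 = c := congrArg Subtype.val p.2
    have h := p.1.2.2.2.2
    rw [hp] at h
    exact h
  · rintro ⟨⟨⟨p1, p2⟩, hp⟩, e⟩
    have he : p2 = c := congrArg Subtype.val e
    subst he
    rfl

/-! ### The regular orbits -/

/-- A free conjugate other than `A`. -/
abbrev FreeConj (A : Subgroup G) := {B : Subgroup G // B ∈ Conjs A ∧ B ≠ A ∧ Free A B}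

omit [Finite G] in
theorem free_cj (hB : B ∈ Conjs A ∧ B ≠ A ∧ Free A B) {n : G}
    (hn : n ∈ normalizer (A : Set G)) :
    cj n B ∈ Conjs A ∧ cj n B ≠ A ∧ Free A (cj n B) := by
  refine ⟨cj_mem_conjs hB.1 n, fun e => hB.2.1 ?_, fun a ha e => ?_⟩
  · rw [← cj_inv_cj (A := B) n, e, cj_eq_self_iff.mpr (inv_mem hn)]
  · have h : n⁻¹ * a * n⁻¹⁻¹ ∈ A := conj_mem' (inv_mem hn) ha
    have h1 : cj (n⁻¹ * a * n⁻¹⁻¹) B = B := by
      rw [inv_inv, ← cj_cj, ← cj_cj, e, cj_inv_cj]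
    exact conj_eq_one_iff.mp (hB.2.2 _ h h1)

/-- Being in the same orbit of `A`. -/
def aSetoid (A : Subgroup G) : Setoid (FreeConj A) where
  r B C := ∃ a ∈ A, cj a B.1 = C.1
  iseqv :=
    { refl := fun B => ⟨1, A.one_mem, cj_one⟩
      symm := fun ⟨a, ha, e⟩ => ⟨a⁻¹, inv_mem ha, by rw [← e, cj_inv_cj]⟩
      trans := fun ⟨a, ha, e⟩ ⟨b, hb, e'⟩ => ⟨b * a, mul_mem hb ha, by rw [← cj_cj, e, e']⟩ }

/-- The orbits of `A` on the free conjugates. -/
abbrev AOrb (A : Subgroup G) := Quotient (aSetoid A)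

theorem card_class (A : Subgroup G) {B : Subgroup G} (hB : Free A B) :
    Nat.card {C : Subgroup G // ∃ a ∈ A, cj a B = C} = Nat.card A := by
  refine (Nat.card_congr (Equiv.ofBijective
    (fun a : A => (⟨cj a.1 B, a.1, a.2, rfl⟩ : {C : Subgroup G // ∃ a ∈ A, cj a B = C}))
    ⟨fun a b e => Subtype.ext ?_, ?_⟩)).symm
  · have e' : cj a.1 B = cj b.1 B := congrArg Subtype.val e
    exact (inv_mul_eq_one.mp (hB (b.1⁻¹ * a.1) (mul_mem (inv_mem b.2) a.2)
      (by rw [← cj_cj, e', cj_inv_cj]))).symm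
  · rintro ⟨C, a, ha, rfl⟩
    exact ⟨⟨a, ha⟩, rfl⟩

theorem card_freeConj (L : Local A) : Nat.card (FreeConj A) = Nat.card (AOrb A) * 16 := by
  refine card_mul_of_fiber (Quotient.mk (aSetoid A)) fun q => ?_
  induction q using Quotient.inductionOn with
  | h B =>
    rw [← L.card, ← card_class A B.2.2.2]
    refine Nat.card_congr
      { toFun := fun C => ⟨C.1.1, ?_⟩
        invFun := fun C => ⟨⟨C.1, ?_⟩, ?_⟩
        left_inv := fun C => rfl
        right_inv := fun C => rfl }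
    · obtain ⟨a, ha, e⟩ := Quotient.exact C.2.symm
      exact ⟨a, ha, e⟩
    · obtain ⟨a, ha, e⟩ := C.2
      exact e ▸ free_cj B.2 (le_normalizer ha)
    · obtain ⟨a, ha, e⟩ := C.2
      exact (Quotient.sound (s := aSetoid A) (a := B) ⟨a, ha, e⟩).symm

/-- The action of an element of the normalizer on the free conjugates. -/
def actFree (n : ↥(normalizer (A : Set G))) (B : FreeConj A) : FreeConj A :=
  ⟨cj (n : G) B.1, free_cj B.2 n.2⟩

/-- The action on the orbits. -/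
def actOrb (n : ↥(normalizer (A : Set G))) : AOrb A → AOrb A :=
  Quotient.map (sa := aSetoid A) (sb := aSetoid A) (actFree n) fun B C h => by
    obtain ⟨a, ha, e⟩ := h
    refine ⟨(n : G) * a * (n : G)⁻¹, conj_mem' n.2 ha, ?_⟩
    show cj ((n : G) * a * (n : G)⁻¹) (cj (n : G) B.1) = cj (n : G) C.1
    rw [cj_cj, inv_mul_cancel_right, ← cj_cj, e]

omit [Finite G] in
theorem actOrb_one (q : AOrb A) : actOrb 1 q = q := by
  induction q using Quotient.inductionOn with
  | h B => exact congrArg (Quotient.mk _) (Subtype.ext cj_one)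

omit [Finite G] in
theorem actOrb_mul (m n : ↥(normalizer (A : Set G))) (q : AOrb A) :
    actOrb (m * n) q = actOrb m (actOrb n q) := by
  induction q using Quotient.inductionOn with
  | h B => exact congrArg (Quotient.mk _) (Subtype.ext (cj_cj _ _).symm)

/-- The permutation representation on the orbits. -/
def orbPerm (A : Subgroup G) : ↥(normalizer (A : Set G)) →* Equiv.Perm (AOrb A) where
  toFun n := ⟨actOrb n, actOrb n⁻¹,
    fun q => by rw [← actOrb_mul, inv_mul_cancel, actOrb_one],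
    fun q => by rw [← actOrb_mul, mul_inv_cancel, actOrb_one]⟩
  map_one' := Equiv.ext actOrb_one
  map_mul' m n := Equiv.ext (actOrb_mul m n)

omit [Finite G] in
theorem orbPerm_mk (n : ↥(normalizer (A : Set G))) (B : FreeConj A) :
    orbPerm A n (Quotient.mk _ B) = Quotient.mk _ (actFree n B) := rfl

/-- An element of order seven of the normalizer fixes no orbit. -/
theorem orbPerm_ne (F : Facts G) (L : Local A) {y : ↥(normalizer (A : Set G))}
    (hy : orderOf (y : G) = 7) (q : AOrb A) : orbPerm A y q ≠ q := by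
  haveI : Fact (Nat.Prime 7) := ⟨by norm_num⟩
  induction q using Quotient.inductionOn with
  | h B =>
    intro e
    rw [orbPerm_mk] at e
    obtain ⟨u, hu, eu⟩ := Quotient.exact e.symm
    change cj u B.1 = cj (y : G) B.1 at eu
    obtain ⟨C, ⟨a, ha, rfl⟩, hfix⟩ := exists_fix cjP 7 1 (map_pow_seven cjP hy)
      (fun C => ∃ a ∈ A, cj a B.1 = C)
      (fun C => by
        rw [cjP_apply]
        constructor
        · rintro ⟨a, ha, e'⟩
          refine ⟨(y : G)⁻¹ * (a * u⁻¹) * (y : G), ?_, ?_⟩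
          · have := conj_mem' (inv_mem y.2) (mul_mem ha (inv_mem hu))
            rwa [inv_inv] at this
          · rw [← cj_cj, ← eu, cj_cj, ← mul_assoc, inv_mul_cancel_right, ← cj_cj, e', cj_inv_cj]
        · rintro ⟨a, ha, rfl⟩
          refine ⟨(y : G) * a * (y : G)⁻¹ * u, mul_mem (conj_mem' y.2 ha) hu, ?_⟩
          rw [← cj_cj, eu, cj_cj, inv_mul_cancel_right, ← cj_cj])
      (by rw [card_class A B.2.2.2, L.card]; norm_num)
    exact (free_cj B.2 (le_normalizer ha)).2.1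
      (seven_unique F L (cj_mem_conjs B.2.1 a) hy y.2 (cj_eq_self_iff.mp hfix))

theorem exists_seven_norm (L : Local A) :
    ∃ a ∈ A, a ≠ 1 ∧ ∃ y : ↥(normalizer (A : Set G)), orderOf (y : G) = 7 ∧
      Commute (y : G) a := by
  obtain ⟨⟨a, ha, ha1⟩⟩ :=
    (Nat.card_ne_zero.mp (show Nat.card {a : G // a ∈ A ∧ a ≠ 1} ≠ 0 by
      rw [card_ne_one, L.card]; norm_num)).1
  obtain ⟨y, hy, hya⟩ := exists_seven L ha ha1
  exact ⟨a, ha, ha1, ⟨y, mem_normalizer_of_commute L ha ha1 hya⟩, hy, hya⟩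

theorem counts (F : Facts G) (L : Local A) :
    Nat.card (AOrb A) = 7 ∧
    Nat.card {B : Subgroup G // B ∈ Conjs A ∧ B ≠ A ∧ Free A B} = 112 ∧
    Nat.card {B : Subgroup G // B ∈ Conjs A ∧ B ≠ A ∧ ¬ Free A B} = 140 ∧
    ∀ a ∈ A, a ≠ 1 → Nat.card {x : G // Out A x ∧ Commute x a} = 84 := by
  haveI : Fact (Nat.Prime 7) := ⟨by norm_num⟩
  obtain ⟨a, ha, ha1, y, hy, -⟩ := exists_seven_norm L
  have h7 : 7 ∣ Nat.card (AOrb A) := by
    rw [← Nat.card_congr (Equiv.subtypeUnivEquiv (fun _ : AOrb A => trivial))]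
    by_contra hc
    have hy' : orderOf y = 7 := by rw [← hy, Subgroup.orderOf_coe]
    obtain ⟨q, -, hq⟩ := exists_fix (orbPerm A) 7 1 (map_pow_seven (orbPerm A) hy')
      (fun _ => True) (fun _ => Iff.rfl) hc
    exact orbPerm_ne F L hy q hq
  have h1 := card_others F L
  have h2 := card_out F L
  have h3 := three_card_out F L ha ha1
  have h4 : Nat.card {B : Subgroup G // B ∈ Conjs A ∧ B ≠ A ∧ Free A B} = Nat.card (AOrb A) * 16 :=
    card_freeConj L
  have hq : Nat.card (AOrb A) = 7 := by omega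
  have hnf : Nat.card {B : Subgroup G // B ∈ Conjs A ∧ B ≠ A ∧ ¬ Free A B} = 140 := by omega
  refine ⟨hq, by omega, hnf, fun c hc hc1 => ?_⟩
  rw [card_out_commute_eq L hc hc1 ha ha1]
  omega

end Cfsg.Agent.Lib.M23Nse5.OrbitsAux
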