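import Cfsg.Agent.Lib.M23Nse5.OrbitsBasic

/-!
# The normalizer of a heptad subgroup acts without transvections
-/

set_option autoImplicit false

namespace Cfsg.Agent.Lib.M23Nse5.OrbitsAux

open Subgroup

universe u
variable {G : Type u} [Group G] {A B : Subgroup G}

theorem conj_mem' {g c : G} (hg : g ∈ normalizer (A : Set G)) (hc : c ∈ A) : g * c * g⁻¹ ∈ A :=
  (mem_normalizer_iff.mp hg c).mp hc

/-- The elements of the centraliser of `a` acting trivially modulo `⟨a⟩`. -/
def chainStab (L : Local A) {a : G} (ha : a ∈ A) : Subgroup G where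
  carrier := {k | Commute k a ∧ ∀ c ∈ A, k * c * k⁻¹ = c ∨ k * c * k⁻¹ = a * c}
  one_mem' := ⟨Commute.one_left a, fun c _ => Or.inl (by simp)⟩
  mul_mem' := by
    rintro k l ⟨hk, hk'⟩ ⟨hl, hl'⟩
    refine ⟨hk.mul_left hl, fun c hc => ?_⟩
    have e : k * l * c * (k * l)⁻¹ = k * (l * c * l⁻¹) * k⁻¹ := by group
    rw [e]
    rcases hl' c hc with h | h <;> rw [h]
    · exact hk' c hc
    · have e2 : k * (a * c) * k⁻¹ = a * (k * c * k⁻¹) := by
        rw [← mul_assoc, hk.eq]
        group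
      rw [e2]
      rcases hk' c hc with h2 | h2 <;> rw [h2]
      · exact Or.inr rfl
      · left
        rw [← mul_assoc, L.sq a ha, one_mul]
  inv_mem' := by
    rintro k ⟨hk, hk'⟩
    refine ⟨hk.inv_left, fun c hc => ?_⟩
    rcases hk' c hc with h | h
    · left
      conv_lhs => rw [← h]
      group
    · right
      have e2 : k⁻¹ * a = a * k⁻¹ := hk.inv_left.eq
      have e : k⁻¹ * (k * c * k⁻¹) * k = c := by group
      rw [h] at e
      rw [inv_inv]
      calc k⁻¹ * c * k = (k⁻¹ * a) * (a * c) * k := by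
            rw [mul_assoc k⁻¹ a, ← mul_assoc a a c, L.sq a ha, one_mul]
        _ = a * (k⁻¹ * (a * c) * k) := by rw [e2]; simp only [mul_assoc]
        _ = a * c := by rw [e]

variable [Finite G]

theorem chainStab_eq_or_card (F : Facts G) (L : Local A) {a : G} (ha : a ∈ A) (ha1 : a ≠ 1) :
    chainStab L ha ≤ A ∨ (Nat.card (chainStab L ha) = 128 ∧
      ∀ x : G, Commute x a → x ^ 4 = 1 → x ∈ chainStab L ha) := by
  haveI : Fact (Nat.Prime 2) := ⟨Nat.prime_two⟩
  haveI : Fact (Nat.Prime 7) := ⟨by norm_num⟩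
  set K := chainStab L ha with hK
  have hKN : ∀ k ∈ K, k ∈ normalizer (A : Set G) := fun k hk =>
    mem_normalizer_of_commute L ha ha1 hk.1
  have hAK : A ≤ K := fun c hc => ⟨commute_of_mem L hc ha, fun d hd => Or.inl (by
    rw [(commute_of_mem L hc hd).eq, mul_inv_cancel_right])⟩
  have hsq : ∀ k ∈ K, k * k ∈ A := by
    rintro k ⟨hk, hk'⟩
    refine L.cent (mem_centralizer_iff.mpr fun c hc => ?_)
    have e : k * k * c * (k * k)⁻¹ = c := by
      have e1 : k * k * c * (k * k)⁻¹ = k * (k * c * k⁻¹) * k⁻¹ := by group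
      rw [e1]
      rcases hk' c hc with h | h <;> rw [h]
      · exact h
      · have e2 : k * (a * c) * k⁻¹ = a * (k * c * k⁻¹) := by
          rw [← mul_assoc, hk.eq]
          group
        rw [e2, h, ← mul_assoc, L.sq a ha, one_mul]
    exact (mul_inv_eq_iff_eq_mul.mp e).symm
  have h4 : ∀ k ∈ K, k ^ 4 = 1 := fun k hk => by
    rw [show (4 : ℕ) = 2 * 2 from rfl, pow_mul, pow_two, pow_two]
    exact L.sq _ (hsq k hk)
  have hp : IsPGroup 2 K := fun k => ⟨2, Subtype.ext (by
    rw [show 2 ^ 2 = 4 from rfl, Subgroup.coe_pow]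
    exact h4 k k.2)⟩
  obtain ⟨n, hn⟩ := IsPGroup.iff_card.mp hp
  have hKC : K ≤ centralizer ({a} : Set G) := fun k hk =>
    mem_centralizer_singleton_iff.mpr hk.1.eq
  have hdvd : 2 ^ n ∣ 2688 := by
    rw [← hn, ← L.card_cent a ha ha1]
    exact card_dvd_of_le hKC
  have h16 : 16 ≤ 2 ^ n := by
    rw [← hn, ← L.card]
    exact card_le_of_le hAK
  -- an element of order seven commuting with `a` fixes no element of `K` outside `A`
  obtain ⟨y, hy, hya⟩ := exists_seven L ha ha1
  have hyN := mem_normalizer_of_commute L ha ha1 hya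
  have hyK : ∀ g : G, Commute g a → ∀ k ∈ K, g * k * g⁻¹ ∈ K := by
    rintro g hg k ⟨hk, hk'⟩
    refine ⟨?_, fun c hc => ?_⟩
    · exact (hg.mul_left hk).mul_left hg.inv_left
    · have hgN := mem_normalizer_of_commute L ha ha1 hg
      have hc' : g⁻¹ * c * g ∈ A := by
        have := conj_mem' (inv_mem hgN) hc
        rwa [inv_inv] at this
      have e : g * k * g⁻¹ * c * (g * k * g⁻¹)⁻¹ = g * (k * (g⁻¹ * c * g) * k⁻¹) * g⁻¹ := by group
      rw [e]
      rcases hk' _ hc' with h | h <;> rw [h]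
      · left
        group
      · right
        rw [show g * (a * (g⁻¹ * c * g)) * g⁻¹ = g * a * g⁻¹ * c by group, hg.eq,
          mul_inv_cancel_right]
  have h7 : 7 ∣ Nat.card {k : G // k ∈ K ∧ k ∉ A} := by
    by_contra hc
    obtain ⟨k, ⟨hk, hkA⟩, he⟩ := exists_fix conjP 7 1 (map_pow_seven conjP hy)
      (fun k => k ∈ K ∧ k ∉ A)
      (fun k => by
        rw [conjP_apply]
        refine and_congr ⟨fun h => ?_, fun h => hyK y hya k h⟩
          (not_congr (mem_normalizer_iff.mp hyN k).symm)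
        have := hyK y⁻¹ hya.inv_left _ h
        simpa [mul_assoc] using this) hc
    have hyk : Commute y k := mul_inv_eq_iff_eq_mul.mp he
    obtain ⟨h14, h2⟩ := cent_seven F hy (orderOf_eq_two L ha ha1) hya hyk
    have hkk : k * k = 1 := by
      rw [← pow_two, ← orderOf_dvd_iff_pow_eq_one]
      have h1 := orderOf_dvd_of_pow_eq_one (h4 k hk)
      have h3 := orderOf_dvd_of_pow_eq_one h14
      exact (Nat.dvd_gcd h1 h3).trans (by norm_num)
    rcases h2 hkk with rfl | rfl
    · exact hkA A.one_mem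
    · exact hkA ha
  have hdiff : Nat.card {k : G // k ∈ K ∧ k ∉ A} = 2 ^ n - 16 := by
    show Nat.card ↥((K : Set G) \ (A : Set G)) = _
    rw [Nat.card_coe_set_eq, Set.ncard_sdiff (show (A : Set G) ⊆ K from hAK)]
    show Nat.card K - Nat.card A = _
    rw [hn, L.card]
  rw [hdiff] at h7
  have hn12 : n ≤ 7 := by
    by_contra h
    have : 2 ^ 8 ∣ 2688 := dvd_trans (pow_dvd_pow 2 (by omega)) hdvd
    norm_num at this
  rcases (show n = 4 ∨ n = 7 by interval_cases n <;> first | omega | norm_num at h7 h16 ⊢) with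
    rfl | rfl
  · exact Or.inl (eq_of_le_of_card_ge hAK (by rw [hn, L.card]; norm_num)).ge
  · refine Or.inr ⟨hn, fun x hx hx4 => ?_⟩
    have hxK : zpowers x ≤ normalizer (K : Set G) := by
      rw [zpowers_le, mem_normalizer_iff]
      refine fun k => ⟨fun h => hyK x hx k h, fun h => ?_⟩
      have := hyK x⁻¹ hx.inv_left _ h
      simpa [mul_assoc] using this
    have hxp : IsPGroup 2 (zpowers x) := fun z => by
      obtain ⟨i, hi⟩ := mem_zpowers_iff.mp z.2
      refine ⟨2, Subtype.ext ?_⟩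
      rw [show 2 ^ 2 = 4 from rfl, Subgroup.coe_pow, ← hi, ← zpow_natCast, ← zpow_mul, mul_comm,
        zpow_mul, zpow_natCast, hx4, one_zpow]
      rfl
    have hsup := hxp.to_sup_of_normal_right' hp hxK
    obtain ⟨m, hm⟩ := IsPGroup.iff_card.mp hsup
    have hsupC : zpowers x ⊔ K ≤ centralizer ({a} : Set G) :=
      sup_le (zpowers_le.mpr (mem_centralizer_singleton_iff.mpr hx.eq)) hKC
    have hm' : 2 ^ m ∣ 2688 := by
      rw [← hm, ← L.card_cent a ha ha1]
      exact card_dvd_of_le hsupC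
    have hm7 : m ≤ 7 := by
      by_contra h
      have : 2 ^ 8 ∣ 2688 := dvd_trans (pow_dvd_pow 2 (by omega)) hm'
      norm_num at this
    have : K = zpowers x ⊔ K := eq_of_le_of_card_ge le_sup_right (by
      rw [hn, hm]
      exact Nat.pow_le_pow_right (by norm_num) hm7)
    rw [this]
    exact (le_sup_left : zpowers x ≤ _) (mem_zpowers x)

/-- An element centralising `a` and `A / ⟨a⟩` lies in `A`. -/
theorem chainStab_le (F : Facts G) (L : Local A) {a : G} (ha : a ∈ A) (ha1 : a ≠ 1) :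
    chainStab L ha ≤ A := by
  intro k hk
  by_contra hkA
  obtain ⟨hka, hk'⟩ := hk
  have hkN := mem_normalizer_of_commute L ha ha1 hka
  have hk4 : k ^ 4 = 1 := by
    have h2 : k * k ∈ A := by
      refine L.cent (mem_centralizer_iff.mpr fun c hc => ?_)
      have e : k * k * c * (k * k)⁻¹ = c := by
        have e1 : k * k * c * (k * k)⁻¹ = k * (k * c * k⁻¹) * k⁻¹ := by group
        rw [e1]
        rcases hk' c hc with h | h <;> rw [h]
        · exact h
        · rw [show k * (a * c) * k⁻¹ = (k * a * k⁻¹) * (k * c * k⁻¹) by group, hka.eq,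
            mul_inv_cancel_right, h, ← mul_assoc, L.sq a ha, one_mul]
      exact (mul_inv_eq_iff_eq_mul.mp e).symm
    rw [show (4 : ℕ) = 2 * 2 from rfl, pow_mul, pow_two, pow_two]
    exact L.sq _ h2
  -- a second point fixed by `k`
  have hex : ∀ s : Finset G, s.card ≤ 4 → ∃ c ∈ A, c ∉ s := by
    intro s hs
    by_contra h
    push Not at h
    have : Nat.card A ≤ s.card := by
      rw [← Nat.card_eq_finsetCard]
      exact Nat.card_le_card_of_injective (fun c : A => (⟨c.1, h c.1 c.2⟩ : {x // x ∈ s}))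
        fun x x' e => Subtype.ext (congrArg (fun z : {x // x ∈ s} => z.1) e)
    rw [L.card] at this
    omega
  classical
  obtain ⟨b, hb, hb1, hba, hkb⟩ : ∃ b ∈ A, b ≠ 1 ∧ b ≠ a ∧ Commute k b := by
    obtain ⟨c1, hc1, hc1'⟩ := hex {1, a} (le_trans Finset.card_le_two (by norm_num))
    simp only [Finset.mem_insert, Finset.mem_singleton, not_or] at hc1'
    rcases hk' c1 hc1 with h1 | h1
    · exact ⟨c1, hc1, hc1'.1, hc1'.2, mul_inv_eq_iff_eq_mul.mp h1⟩
    obtain ⟨c2, hc2, hc2'⟩ := hex {1, a, c1, a * c1} (by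
      refine (Finset.card_insert_le _ _).trans (Nat.succ_le_succ ?_)
      exact Finset.card_le_three)
    simp only [Finset.mem_insert, Finset.mem_singleton, not_or] at hc2'
    rcases hk' c2 hc2 with h2 | h2
    · exact ⟨c2, hc2, hc2'.1, hc2'.2.1, mul_inv_eq_iff_eq_mul.mp h2⟩
    refine ⟨c1 * c2, mul_mem hc1 hc2, fun e => ?_, fun e => ?_, mul_inv_eq_iff_eq_mul.mp ?_⟩
    · exact hc2'.2.2.1 (by rw [eq_inv_of_mul_eq_one_right e, inv_eq_self L hc1])
    · refine hc2'.2.2.2 ?_
      calc c2 = c1 * (c1 * c2) := by rw [← mul_assoc, L.sq c1 hc1, one_mul]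
        _ = c1 * a := by rw [e]
        _ = a * c1 := (commute_of_mem L hc1 ha).eq
    · rw [show k * (c1 * c2) * k⁻¹ = (k * c1 * k⁻¹) * (k * c2 * k⁻¹) by group, h1, h2,
        mul_assoc a c1, ← mul_assoc c1 a, (commute_of_mem L hc1 ha).eq, mul_assoc a c1, ← mul_assoc,
        L.sq a ha, one_mul]
  obtain ⟨n, hn, hnab⟩ := L.trans a ha b hb ha1 hb1
  have hkbK : k ∈ chainStab L hb := by
    rcases chainStab_eq_or_card F L hb hb1 with h | h
    · exfalso
      apply hkA
      have hmem : n * k * n⁻¹ ∈ chainStab L hb := by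
        refine ⟨?_, fun c hc => ?_⟩
        · have := hka.map (MulAut.conj n).toMonoidHom
          simpa [hnab] using this
        · have hc' : n⁻¹ * c * n ∈ A := by
            have := conj_mem' (inv_mem hn) hc
            rwa [inv_inv] at this
          have e : n * k * n⁻¹ * c * (n * k * n⁻¹)⁻¹ = n * (k * (n⁻¹ * c * n) * k⁻¹) * n⁻¹ := by
            group
          rw [e]
          rcases hk' _ hc' with h | h <;> rw [h]
          · left
            group
          · right
            rw [← hnab]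
            group
      exact (mem_normalizer_iff.mp hn k).mpr (h hmem)
    · exact h.2 k hkb hk4
  refine hkA (L.cent (mem_centralizer_iff.mpr fun c hc => ?_))
  rcases hk' c hc with h | h
  · exact (mul_inv_eq_iff_eq_mul.mp h).symm
  · exfalso
    rcases hkbK.2 c hc with h2 | h2
    · rw [h] at h2
      exact ha1 (mul_eq_right.mp h2)
    · rw [h] at h2
      exact hba (mul_right_cancel h2).symm

/-- An element outside `A` acting on it as an involution fixes exactly four elements, all of them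
commutators. -/
theorem fixed_four (F : Facts G) (L : Local A) {x : G} (hxN : x ∈ normalizer (A : Set G))
    (hxA : x ∉ A) (hx2 : x * x ∈ A) :
    Nat.card ↥(A ⊓ centralizer ({x} : Set G)) = 4 ∧
      (∀ c ∈ A, Commute (x * c * x⁻¹ * c) x) ∧
      ∀ d ∈ A, Commute x d → ∃ c ∈ A, x * c * x⁻¹ * c = d := by
  have hm : ∀ c ∈ A, x * c * x⁻¹ ∈ A := fun c hc => conj_mem' hxN hc
  let δ : ↥A →* ↥A :=
    { toFun := fun c => ⟨x * c * x⁻¹ * c, mul_mem (hm c c.2) c.2⟩
      map_one' := Subtype.ext (by simp)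
      map_mul' := fun c d => Subtype.ext (by
        show x * ((c : G) * d) * x⁻¹ * ((c : G) * d) = (x * c * x⁻¹ * c) * (x * d * x⁻¹ * d)
        rw [show x * ((c : G) * d) * x⁻¹ = (x * c * x⁻¹) * (x * d * x⁻¹) by group, mul_assoc _ _ (_ * _),
          ← mul_assoc (x * (d : G) * x⁻¹) (c : G) (d : G), (commute_of_mem L (hm d d.2) c.2).eq]
        simp only [mul_assoc]) }
  have hker : ∀ c : ↥A, c ∈ δ.ker ↔ Commute x (c : G) := by
    intro c
    rw [MonoidHom.mem_ker, Subtype.ext_iff]
    show x * c * x⁻¹ * c = 1 ↔ _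
    rw [mul_eq_one_iff_eq_inv, inv_eq_self L c.2, mul_inv_eq_iff_eq_mul]
    rfl
  have hcomm : ∀ c ∈ A, Commute (x * c * x⁻¹ * c) x := by
    intro c hc
    have hx2c : Commute (x * x) c := commute_of_mem L hx2 hc
    refine Commute.symm (mul_inv_eq_iff_eq_mul.mp ?_)
    rw [show x * (x * c * x⁻¹ * c) * x⁻¹ = (x * x) * c * (x * x)⁻¹ * (x * c * x⁻¹) by group, hx2c.eq,
      mul_inv_cancel_right]
    exact (commute_of_mem L hc (hm c hc)).eq
  have hle : δ.range ≤ δ.ker := by
    rintro _ ⟨c, rfl⟩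
    rw [hker]
    exact (hcomm c c.2).symm
  have hcard : Nat.card δ.ker * Nat.card δ.range = 16 := by
    rw [← Subgroup.index_ker, card_mul_index, L.card]
  have hk1 := card_le_of_le hle
  have hne : Nat.card δ.range ≠ 1 := by
    intro h
    apply hxA
    refine L.cent (mem_centralizer_iff.mpr fun c hc => ?_)
    have : (⟨c, hc⟩ : ↥A) ∈ δ.ker := by
      have hr : δ.range = ⊥ := Subgroup.eq_bot_of_card_eq _ h
      rw [MonoidHom.mem_ker]
      exact mem_bot.mp (hr ▸ (⟨⟨c, hc⟩, rfl⟩ : δ ⟨c, hc⟩ ∈ δ.range))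
    exact ((hker _).mp this).symm.eq
  have hne2 : Nat.card δ.range ≠ 2 := by
    intro h
    obtain ⟨v, hv, huniq⟩ := (Nat.card_eq_two_iff' (1 : δ.range)).mp h
    refine hxA (chainStab_le F L (a := ((v : ↥A) : G)) (v : ↥A).2
      (fun e => hv (Subtype.ext (Subtype.ext e))) ⟨?_, fun c hc => ?_⟩)
    · exact (hker _).mp (hle v.2)
    · by_cases hz : (⟨δ ⟨c, hc⟩, ⟨_, rfl⟩⟩ : δ.range) = 1
      · left
        have : x * c * x⁻¹ * c = 1 := congrArg (fun z : δ.range => ((z : ↥A) : G)) hz
        rw [mul_eq_one_iff_eq_inv, inv_eq_self L hc] at this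
        exact this
      · right
        have : x * c * x⁻¹ * c = ((v : ↥A) : G) :=
          congrArg (fun z : δ.range => ((z : ↥A) : G)) (huniq _ hz)
        rw [← this, mul_assoc _ c c, L.sq c hc, mul_one]
  have hk4 : Nat.card δ.ker = 4 ∧ Nat.card δ.range = 4 := by
    have hdvd : Nat.card δ.range ∣ 16 := ⟨Nat.card δ.ker, by rw [mul_comm, hcard]⟩
    have h16 : Nat.card δ.range ≤ 16 := Nat.le_of_dvd (by norm_num) hdvd
    have hpos : 0 < Nat.card δ.range := Nat.card_pos
    constructor <;> interval_cases Nat.card δ.range <;> omega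
  have heq : δ.range = δ.ker := eq_of_le_of_card_ge hle (by rw [hk4.1, hk4.2])
  refine ⟨?_, hcomm, fun d hd hxd => ?_⟩
  · rw [← hk4.1]
    refine Nat.card_congr
      { toFun := fun c => ⟨⟨c.1, c.2.1⟩, (hker _).mpr (Commute.symm (mem_centralizer_singleton_iff.mp c.2.2))⟩
        invFun := fun c => ⟨c.1.1, c.1.2, mem_centralizer_singleton_iff.mpr ((hker _).mp c.2).symm.eq⟩
        left_inv := fun c => rfl
        right_inv := fun c => rfl }
  · obtain ⟨c, hc⟩ := (heq ▸ (hker ⟨d, hd⟩).mpr hxd : (⟨d, hd⟩ : ↥A) ∈ δ.range)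
    exact ⟨c, c.2, congrArg Subtype.val hc⟩

/-- A conjugate normalised by a nontrivial element of `A` meets the normalizer nontrivially. -/
theorem pair_four (F : Facts G) (L : Local A) (hB : B ∈ Conjs A) (hne : B ≠ A) {u : G} (hu : u ∈ A)
    (hu1 : u ≠ 1) (huB : u ∈ normalizer (B : Set G)) :
    Nat.card ↥(A ⊓ normalizer (B : Set G)) = 4 ∧
      ∃ b ∈ B, b ≠ 1 ∧ b ∈ normalizer (A : Set G) := by
  haveI : Fact (Nat.Prime 2) := ⟨Nat.prime_two⟩
  have LB := local_of_mem L hB
  obtain ⟨b, ⟨hb, hb1⟩, he⟩ := exists_fix conjP 2 1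
    (show conjP u ^ 2 ^ 1 = 1 by rw [pow_one, ← map_pow, pow_two, L.sq u hu, map_one])
    (fun x => x ∈ B ∧ x ≠ 1)
    (fun x => by
      rw [conjP_apply, ← mem_normalizer_iff.mp huB x]
      exact and_congr_right fun _ => not_congr conj_eq_one_iff)
    (by rw [card_ne_one, LB.card]; norm_num)
  have hub : Commute u b := mul_inv_eq_iff_eq_mul.mp he
  have hbN : b ∈ normalizer (A : Set G) := mem_normalizer_of_commute L hu hu1 hub.symm
  have hbA : b ∉ A := fun h => hne (eq_of_mem L hB h hb hb1)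
  refine ⟨?_, b, hb, hb1, hbN⟩
  have e : A ⊓ normalizer (B : Set G) = A ⊓ centralizer ({b} : Set G) := by
    ext w
    rw [mem_inf, mem_inf]
    refine and_congr_right fun hw => ⟨fun hwB => ?_, fun hwb => ?_⟩
    · rw [mem_centralizer_singleton_iff]
      have h1 : w * b * w⁻¹ * b⁻¹ ∈ B := mul_mem (conj_mem' hwB hb) (inv_mem hb)
      have h2 : w * b * w⁻¹ * b⁻¹ ∈ A := by
        rw [mul_assoc (w * b) w⁻¹, mul_assoc w b, ← mul_assoc b w⁻¹]
        exact mul_mem hw (conj_mem' hbN (inv_mem hw))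
      by_contra hc
      refine hne (eq_of_mem L hB h2 h1 fun h => hc ?_)
      rw [mul_inv_eq_one] at h
      exact mul_inv_eq_iff_eq_mul.mp h
    · exact mem_normalizer_of_commute LB hb hb1 (mem_centralizer_singleton_iff.mp hwb)
  rw [e]
  exact (fixed_four F L hbN hbA (by rw [LB.sq b hb]; exact A.one_mem)).1

end Cfsg.Agent.Lib.M23Nse5.OrbitsAux
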