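import Cfsg.Agent.Lib.M23Nse5.OrbitsTrans

/-!
# The action on the seven regular orbits
-/

set_option autoImplicit false

namespace Cfsg.Agent.Lib.M23Nse5.OrbitsAux

open Subgroup

universe u
variable {G : Type u} [Group G] [Finite G] {A B : Subgroup G}

theorem orbPerm_trans (F : Facts G) (L : Local A) {y : ↥(normalizer (A : Set G))}
    (hy : orderOf (y : G) = 7) (q q' : AOrb A) : ∃ i : ℕ, orbPerm A (y ^ i) q = q' := by
  set σ := orbPerm A y with hσ
  have h7 : Function.IsPeriodicPt σ 7 q := by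
    show (σ : AOrb A → AOrb A)^[7] q = q
    rw [← Equiv.Perm.coe_pow, hσ, ← map_pow, show y ^ 7 = 1 from Subtype.ext (by
      rw [Subgroup.coe_pow, ← hy, pow_orderOf_eq_one]; rfl), map_one]
    rfl
  have key : ∀ i j : ℕ, i < j → j < 7 → (σ ^ i) q ≠ (σ ^ j) q := by
    intro i j hij hj7 e
    have hd : Function.IsPeriodicPt σ (j - i) q := by
      show (σ : AOrb A → AOrb A)^[j - i] q = q
      rw [← Equiv.Perm.coe_pow]
      apply (σ ^ i).injective
      rw [← Equiv.Perm.mul_apply, ← pow_add, Nat.add_sub_cancel' hij.le, e]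
    have h1 := hd.gcd h7
    have hg : Nat.gcd (j - i) 7 = 1 := by
      refine ((Nat.Prime.coprime_iff_not_dvd (by norm_num)).mpr ?_).symm
      exact fun h => absurd (Nat.le_of_dvd (by omega) h) (by omega)
    rw [hg] at h1
    exact orbPerm_ne F L hy q h1
  have hinj : Function.Injective (fun i : Fin 7 => (σ ^ (i : ℕ)) q) := by
    intro i j e
    rcases Nat.lt_trichotomy (i : ℕ) j with h | h | h
    · exact absurd e (key i j h j.2)
    · exact Fin.ext h
    · exact absurd e.symm (key j i h i.2)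
  obtain ⟨i, hi⟩ := ((Nat.bijective_iff_injective_and_card _).mpr
    ⟨hinj, by rw [Nat.card_eq_fintype_card, Fintype.card_fin, (counts F L).1]⟩).2 q'
  exact ⟨i, by rw [map_pow]; exact hi⟩

theorem free_trans (F : Facts G) (L : Local A) {B' : Subgroup G} (hB : B ∈ Conjs A)
    (hB' : B' ∈ Conjs A) (hne : B ≠ A) (hne' : B' ≠ A) (hf : Free A B) (hf' : Free A B') :
    ∃ n ∈ normalizer (A : Set G), cj n B = B' := by
  obtain ⟨-, -, -, y, hy, -⟩ := exists_seven_norm L
  obtain ⟨i, hi⟩ := orbPerm_trans F L hy (Quotient.mk _ ⟨B, hB, hne, hf⟩)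
    (Quotient.mk _ ⟨B', hB', hne', hf'⟩)
  rw [orbPerm_mk] at hi
  obtain ⟨a, ha, e⟩ := Quotient.exact hi
  refine ⟨a * ((y ^ i : ↥(normalizer (A : Set G))) : G),
    mul_mem (le_normalizer ha) (y ^ i).2, ?_⟩
  rw [← cj_cj]
  exact e

/-- The kernel of the action on the orbits, as a subgroup of the group. -/
def kerG (A : Subgroup G) : Subgroup G :=
  (orbPerm A).ker.map (normalizer (A : Set G)).subtype

omit [Finite G] in
theorem mem_kerG {k : G} :
    k ∈ kerG A ↔ ∃ h : k ∈ normalizer (A : Set G), orbPerm A ⟨k, h⟩ = 1 :=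
  ⟨fun ⟨n, hn, e⟩ => e ▸ ⟨n.2, hn⟩, fun ⟨h, hk⟩ => ⟨⟨k, h⟩, hk, rfl⟩⟩

omit [Finite G] in
theorem kerG_le : kerG A ≤ normalizer (A : Set G) := fun _ hk => (mem_kerG.mp hk).1

omit [Finite G] in
theorem le_kerG : A ≤ kerG A := fun a ha => mem_kerG.mpr ⟨le_normalizer ha, Equiv.ext fun q => by
  induction q using Quotient.inductionOn with
  | h B =>
    rw [orbPerm_mk]
    exact (Quotient.sound (s := aSetoid A) (a := B) ⟨a, ha, rfl⟩).symm⟩

omit [Finite G] in
theorem conj_mem_kerG {g : G} (hg : g ∈ normalizer (A : Set G)) (k : G) :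
    g * k * g⁻¹ ∈ kerG A ↔ k ∈ kerG A := by
  have h1 : ∀ g ∈ normalizer (A : Set G), ∀ k ∈ kerG A, g * k * g⁻¹ ∈ kerG A := by
    intro g hg k hk
    obtain ⟨n, hn, rfl⟩ := hk
    exact ⟨⟨g, hg⟩ * n * (⟨g, hg⟩ : ↥(normalizer (A : Set G)))⁻¹,
      (MonoidHom.normal_ker _).conj_mem n hn _, rfl⟩
  refine ⟨fun h => ?_, h1 g hg k⟩
  have := h1 g⁻¹ (inv_mem hg) _ h
  rwa [show g⁻¹ * (g * k * g⁻¹) * g⁻¹⁻¹ = k by group] at this

theorem kerG_no_seven (F : Facts G) (L : Local A) {k : G} (hk : k ∈ kerG A) : orderOf k ≠ 7 := by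
  intro h7
  obtain ⟨hkN, hk1⟩ := mem_kerG.mp hk
  obtain ⟨q⟩ := (Nat.card_ne_zero.mp ((counts F L).1.trans_ne (by norm_num))).1
  exact orbPerm_ne F L (y := ⟨k, hkN⟩) h7 q (by rw [hk1]; rfl)

omit [Finite G] in
theorem conj_mem_iff_of_normalizer {H : Subgroup G} {g : G} (hg : g ∈ normalizer (H : Set G))
    (k : G) : g * k * g⁻¹ ∈ H ↔ k ∈ H := (mem_normalizer_iff.mp hg k).symm

/-- Counting modulo seven a subgroup of the kernel normalised by an element of order seven. -/
theorem seven_dvd_sub (F : Facts G) (L : Local A) {a y : G} (ha : a ∈ A) (ha1 : a ≠ 1)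
    (hy : orderOf y = 7) (hya : Commute y a) {H : Subgroup G} (hHK : H ≤ kerG A) (haH : a ∈ H)
    (hyH : ∀ k, y * k * y⁻¹ ∈ H ↔ k ∈ H) : 7 ∣ Nat.card H - 2 := by
  haveI : Fact (Nat.Prime 7) := ⟨by norm_num⟩
  have hc : Nat.card {k : G // k ∈ H ∧ k ≠ 1 ∧ k ≠ a} = Nat.card H - 2 := by
    show Nat.card ↥{k : G | k ∈ H ∧ k ≠ 1 ∧ k ≠ a} = _
    have e : {k : G | k ∈ H ∧ k ≠ 1 ∧ k ≠ a} = (H : Set G) \ {1, a} := by
      ext
      simp
    rw [Nat.card_coe_set_eq, e, Set.ncard_sdiff (Set.pair_subset H.one_mem haH),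
      Set.ncard_pair ha1.symm, ← Nat.card_coe_set_eq]
    rfl
  rw [← hc]
  by_contra h7
  obtain ⟨k, ⟨hk, hk1, hka⟩, he⟩ := exists_fix conjP 7 1 (map_pow_seven conjP hy)
    (fun k => k ∈ H ∧ k ≠ 1 ∧ k ≠ a)
    (fun k => by
      rw [conjP_apply]
      refine and_congr (hyH k) (and_congr (not_congr conj_eq_one_iff) (not_congr ⟨fun h => ?_,
        fun h => by rw [h, hya.eq, mul_inv_cancel_right]⟩))
      rw [mul_inv_eq_iff_eq_mul, ← hya.eq] at h
      exact mul_left_cancel h) h7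
  have hyk : Commute y k := mul_inv_eq_iff_eq_mul.mp he
  obtain ⟨h14, h2⟩ := cent_seven F hy (orderOf_eq_two L ha ha1) hya hyk
  have hkk : k * k = 1 := by
    by_contra hne
    refine kerG_no_seven F L (hHK (mul_mem hk hk)) (orderOf_eq_prime ?_ hne)
    rw [← pow_two, ← pow_mul]
    exact h14
  rcases h2 hkk with e | e
  · exact hk1 e
  · exact hka e

/-- An element of the kernel commuting with an involution of `A` lies in `A`. -/
theorem kerG_cent (F : Facts G) (L : Local A) {a k : G} (ha : a ∈ A) (ha1 : a ≠ 1)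
    (hk : k ∈ kerG A) (hka : Commute k a) : k ∈ A := by
  haveI : Fact (Nat.Prime 7) := ⟨by norm_num⟩
  haveI : Fact (Nat.Prime 2) := ⟨Nat.prime_two⟩
  set M := kerG A ⊓ centralizer ({a} : Set G) with hM
  have hAM : A ≤ M := fun c hc =>
    ⟨le_kerG hc, mem_centralizer_singleton_iff.mpr (commute_of_mem L hc ha).eq⟩
  have hnorm : ∀ g : G, Commute g a → g ∈ normalizer (M : Set G) := by
    intro g hg
    have hgN := mem_normalizer_of_commute L ha ha1 hg
    rw [mem_normalizer_iff]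
    intro k
    rw [hM, mem_inf, mem_inf, mem_centralizer_singleton_iff, mem_centralizer_singleton_iff,
      conj_mem_kerG hgN]
    refine and_congr_right fun _ => ⟨fun h => ((hg.mul_left h).mul_left hg.inv_left).eq, fun h => ?_⟩
    have := ((hg.inv_left.mul_left (show Commute (g * k * g⁻¹) a from h)).mul_left hg).eq
    rwa [show g⁻¹ * (g * k * g⁻¹) * g = k by group] at this
  obtain ⟨y, hy, hya⟩ := exists_seven L ha ha1
  have hdvd : Nat.card M ∣ 2688 := L.card_cent a ha ha1 ▸ card_dvd_of_le inf_le_right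
  obtain ⟨j, hj⟩ : 16 ∣ Nat.card M := L.card ▸ card_dvd_of_le hAM
  have hn7 : ¬ 7 ∣ Nat.card M := by
    intro h
    obtain ⟨⟨z, hz⟩, hz7⟩ := exists_prime_orderOf_dvd_card' (G := ↥M) 7 h
    rw [Subgroup.orderOf_mk] at hz7
    exact kerG_no_seven F L hz.1 hz7
  have h384 : Nat.card M ∣ 384 :=
    ((Nat.Prime.coprime_iff_not_dvd (by norm_num)).mpr hn7).symm.dvd_of_dvd_mul_left
      (show Nat.card M ∣ 7 * 384 by norm_num; exact hdvd)
  have h7 := seven_dvd_sub F L ha ha1 hy hya (inf_le_left : M ≤ kerG A) (hAM ha)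
    (conj_mem_iff_of_normalizer (hnorm y hya))
  rw [hj] at h384 h7
  have hj1 : j = 1 ∨ j = 8 := by
    have hle := Nat.le_of_dvd (by norm_num) h384
    have hj24 : j ≤ 24 := by omega
    interval_cases j <;> first | omega | norm_num at h7 h384 ⊢
  rcases hj1 with rfl | rfl
  · have : A = M := eq_of_le_of_card_ge hAM (by rw [hj, L.card])
    exact this ▸ ⟨hk, mem_centralizer_singleton_iff.mpr hka.eq⟩
  exfalso
  have hMp : IsPGroup 2 M := IsPGroup.of_card (n := 7) (by rw [hj]; norm_num)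
  -- every outside involution commuting with `a` lies in `M`
  have hin : ∀ x : G, Out A x → Commute x a → x ∈ M := by
    intro x hx hxa
    have hxp : IsPGroup 2 (zpowers x) := IsPGroup.of_card (n := 1) (by
      rw [Nat.card_zpowers, orderOf_eq_prime (by rw [pow_two]; exact hx.2.2) hx.ne_one]; rfl)
    obtain ⟨m, hm⟩ := IsPGroup.iff_card.mp
      (hxp.to_sup_of_normal_right' hMp (zpowers_le.mpr (hnorm x hxa)))
    have hm' : 2 ^ m ∣ 2688 := by
      rw [← hm, ← L.card_cent a ha ha1]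
      exact card_dvd_of_le
        (sup_le (zpowers_le.mpr (mem_centralizer_singleton_iff.mpr hxa.eq)) inf_le_right)
    have hm7 : m ≤ 7 := by
      by_contra h
      have : 2 ^ 8 ∣ 2688 := dvd_trans (pow_dvd_pow 2 (by omega)) hm'
      norm_num at this
    have : M = zpowers x ⊔ M := eq_of_le_of_card_ge le_sup_right (by
      rw [hj, hm]
      exact le_trans (Nat.pow_le_pow_right (by norm_num) hm7) (by norm_num))
    rw [this]
    exact (le_sup_left : zpowers x ≤ _) (mem_zpowers x)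
  have hidx : (A.subgroupOf M).index = 8 := by
    have h := (A.subgroupOf M).card_mul_index
    rw [Nat.card_congr (subgroupOfEquivOfLe hAM).toEquiv, L.card, hj] at h
    omega
  have h84 := (counts F L).2.2.2 a ha ha1
  let f : {x : G // Out A x ∧ Commute x a} → M ⧸ A.subgroupOf M := fun x =>
    QuotientGroup.mk (⟨x.1, hin x.1 x.2.1 x.2.2⟩ : ↥M)
  classical
  haveI := Fintype.ofFinite (M ⧸ A.subgroupOf M)
  have hle : Nat.card {x : G // Out A x ∧ Commute x a} ≤ 8 * 4 := by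
    rw [← Nat.card_congr (Equiv.sigmaFiberEquiv f), Nat.card_sigma, ← hidx, index_eq_card,
      Nat.card_eq_fintype_card (α := M ⧸ A.subgroupOf M), ← Finset.card_univ, ← smul_eq_mul]
    refine Finset.sum_le_card_nsmul _ _ _ fun q _ => ?_
    rcases isEmpty_or_nonempty {x // f x = q} with h | ⟨x₀, hx₀⟩
    · rw [Nat.card_of_isEmpty]
      norm_num
    rw [← x₀.2.1.card_cent F L]
    refine Nat.card_le_card_of_injective
      (fun x : {x // f x = q} => (⟨(x₀.1)⁻¹ * x.1.1, ?_⟩ : ↥(A ⊓ centralizer ({x₀.1} : Set G))))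
      fun x x' e => ?_
    · have hmem := mem_subgroupOf.mp (QuotientGroup.eq.mp (hx₀.trans x.2.symm))
      change (x₀.1)⁻¹ * x.1.1 ∈ A at hmem
      refine ⟨hmem, mem_centralizer_singleton_iff.mpr ?_⟩
      have hi : (x₀.1)⁻¹ = x₀.1 := inv_eq_of_mul_eq_one_right x₀.2.1.2.2
      have hc := inv_eq_self L hmem
      rw [mul_inv_rev, inv_inv, inv_eq_of_mul_eq_one_right x.1.2.1.2.2] at hc
      rw [hi] at hc ⊢
      rw [← hc, mul_assoc, x₀.2.1.2.2, mul_one, hc, ← mul_assoc, x₀.2.1.2.2, one_mul]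
    · exact Subtype.ext (Subtype.ext (mul_left_cancel
        (congrArg (fun z : ↥(A ⊓ centralizer ({x₀.1} : Set G)) => z.1) e)))
  omega

/-- The kernel of the action on the orbits is `A`. -/
theorem kerG_eq (F : Facts G) (L : Local A) : kerG A = A := by
  haveI : Fact (Nat.Prime 7) := ⟨by norm_num⟩
  haveI : Fact (Nat.Prime 2) := ⟨Nat.prime_two⟩
  haveI : Fact (Nat.Prime 3) := ⟨Nat.prime_three⟩
  obtain ⟨a, ha, ha1, y, hy, hya⟩ := exists_seven_norm L
  set A' := A.subgroupOf (kerG A) with hA'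
  have hA16 : Nat.card A' = 16 := by
    rw [Nat.card_congr (subgroupOfEquivOfLe le_kerG).toEquiv, L.card]
  have hmul := A'.card_mul_index
  rw [hA16] at hmul
  have hle : A'.index ≤ 15 := by
    rw [index_eq_card, show 15 = Nat.card {c : G // c ∈ A ∧ c ≠ 1} by rw [card_ne_one, L.card]]
    refine Nat.card_le_card_of_injective (fun q => (⟨(q.out : G) * a * (q.out : G)⁻¹,
      conj_mem' (kerG_le q.out.2) ha, fun e => ha1 (conj_eq_one_iff.mp e)⟩ :
        {c : G // c ∈ A ∧ c ≠ 1})) fun q r e => ?_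
    have e' : (q.out : G) * a * (q.out : G)⁻¹ = r.out * a * (r.out : G)⁻¹ := congrArg Subtype.val e
    rw [← QuotientGroup.out_eq' q, ← QuotientGroup.out_eq' r, QuotientGroup.eq]
    refine mem_subgroupOf.mpr ?_
    refine kerG_cent F L ha ha1 (SetLike.coe_mem _) (mul_inv_eq_iff_eq_mul.mp ?_)
    show (q.out : G)⁻¹ * r.out * a * ((q.out : G)⁻¹ * r.out)⁻¹ = a
    calc (q.out : G)⁻¹ * r.out * a * ((q.out : G)⁻¹ * r.out)⁻¹
        = (q.out : G)⁻¹ * (r.out * a * (r.out : G)⁻¹) * q.out := by group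
      _ = a := by rw [← e']; group
  have h7 := seven_dvd_sub F L ha ha1 hy hya le_rfl (le_kerG ha) (conj_mem_kerG y.2)
  rw [← hmul] at h7
  have hd : A'.index = 1 ∨ A'.index = 8 ∨ A'.index = 15 := by
    have h0 : A'.index ≠ 0 := index_ne_zero_of_finite
    omega
  rcases hd with hd | hd | hd
  · exact (eq_of_le_of_card_ge le_kerG (by rw [← hmul, hd, L.card])).symm
  · exfalso
    have hp : IsPGroup 2 (kerG A) := IsPGroup.of_card (n := 7) (by rw [← hmul, hd]; norm_num)
    haveI : Nontrivial ↥(kerG A) := Finite.one_lt_card_iff_nontrivial.mp (by omega)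
    haveI := hp.center_nontrivial
    obtain ⟨⟨⟨z, hzK⟩, hz⟩, hz1⟩ := exists_ne (1 : Subgroup.center ↥(kerG A))
    have hcomm : ∀ g ∈ kerG A, Commute g z := fun g hg =>
      congrArg Subtype.val (Subgroup.mem_center_iff.mp hz ⟨g, hg⟩)
    have hzA : z ∈ A := L.cent (mem_centralizer_iff.mpr fun c hc => (hcomm c (le_kerG hc)).eq)
    have hsub : kerG A ≤ A := fun g hg => kerG_cent F L hzA
      (fun e => hz1 (Subtype.ext (Subtype.ext e))) hg (hcomm g hg)
    have := card_le_of_le hsub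
    rw [← hmul, hd, L.card] at this
    omega
  · exfalso
    haveI hn : A'.Normal := (normal_subgroupOf_iff_le_normalizer le_kerG).mpr kerG_le
    have h15 : Nat.card (↥(kerG A) ⧸ A') = 15 := by rw [← index_eq_card, hd]
    set P : Sylow 3 (↥(kerG A) ⧸ A') := default
    have hP : Nat.card (P : Subgroup (↥(kerG A) ⧸ A')) = 3 := by
      rw [SmallGroups.card_sylow_eq P (k := 1) (m := 5) (by rw [h15]; norm_num) (by norm_num),
        pow_one]
    have hn3 : Nat.card (Sylow 3 (↥(kerG A) ⧸ A')) = 1 := by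
      have h1 := card_sylow_modEq_one 3 (↥(kerG A) ⧸ A')
      have h2 := P.card_dvd_index
      have h3 := (P : Subgroup (↥(kerG A) ⧸ A')).card_mul_index
      rw [hP, h15] at h3
      rw [show (P : Subgroup (↥(kerG A) ⧸ A')).index = 5 by omega] at h2
      rcases (Nat.dvd_prime (by norm_num)).mp h2 with h | h
      · exact h
      · rw [h] at h1
        norm_num [Nat.ModEq] at h1
    have h2 : Nat.card {q : ↥(kerG A) ⧸ A' // orderOf q = 3} = 2 := by
      rw [SmallGroups.card_orderOf_eq_prime P hP, hn3]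
    have hiff : ∀ g : ↥(kerG A), orderOf (g : ↥(kerG A) ⧸ A') = 3 ↔
        ((g : G) ∉ A ∧ (g : G) ^ 3 ∈ A) := by
      intro g
      rw [orderOf_eq_prime_iff, ← QuotientGroup.mk_pow, QuotientGroup.eq_one_iff,
        Ne, QuotientGroup.eq_one_iff, hA', mem_subgroupOf, mem_subgroupOf, Subgroup.coe_pow]
      exact and_comm
    have h32 : Nat.card {g : G // g ∈ kerG A ∧ g ∉ A ∧ g ^ 3 ∈ A} = 32 := by
      have h3 := Nat.card_congr (QuotientGroup.preimageMkEquivSubgroupProdSet A'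
        {q : ↥(kerG A) ⧸ A' | orderOf q = 3})
      rw [Nat.card_prod, hA16, show Nat.card ↥{q : ↥(kerG A) ⧸ A' | orderOf q = 3} = 2 from h2]
        at h3
      refine Eq.trans ?_ (h3.trans (by norm_num))
      exact Nat.card_congr
        { toFun := fun g => ⟨⟨g.1, g.2.1⟩, (hiff _).mpr g.2.2⟩
          invFun := fun g => ⟨(g.1 : G), g.1.2, (hiff _).mp g.2⟩
          left_inv := fun g => rfl
          right_inv := fun g => rfl }
    obtain ⟨g, ⟨hgK, hgA, hg3⟩, he⟩ := exists_fix conjP 7 1 (map_pow_seven conjP hy)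
      (fun g => g ∈ kerG A ∧ g ∉ A ∧ g ^ 3 ∈ A)
      (fun g => by
        rw [conjP_apply, conj_pow, conj_mem_iff_of_normalizer y.2, conj_mem_iff_of_normalizer y.2,
          conj_mem_kerG y.2])
      (by rw [h32]; norm_num)
    have hyg : Commute (y : G) g := mul_inv_eq_iff_eq_mul.mp he
    obtain ⟨h14, hg2⟩ := cent_seven F hy (orderOf_eq_two L ha ha1) hya hyg
    have hgg : g * g = 1 := by
      by_contra hne
      refine kerG_no_seven F L (mul_mem hgK hgK) (orderOf_eq_prime ?_ hne)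
      rw [← pow_two, ← pow_mul]
      exact h14
    rcases hg2 hgg with e | e
    · exact hgA (e ▸ A.one_mem)
    · exact hgA (e ▸ ha)

theorem orbPerm_eq_one (F : Facts G) (L : Local A) (n : ↥(normalizer (A : Set G))) :
    orbPerm A n = 1 ↔ (n : G) ∈ A := by
  refine ⟨fun h => (le_of_eq (kerG_eq F L)) (mem_kerG.mpr ⟨n.2, h⟩), fun h => ?_⟩
  obtain ⟨_, h1⟩ := mem_kerG.mp (le_kerG h)
  exact h1

end Cfsg.Agent.Lib.M23Nse5.OrbitsAux
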