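import Cfsg.Agent.Lib.M23Nse5.OrbitsCount

/-!
# The outside involutions commuting with an involution of a heptad subgroup
-/

set_option autoImplicit false

namespace Cfsg.Agent.Lib.M23Nse5.OrbitsAux

open Subgroup

universe u
variable {G : Type u} [Group G] [Finite G] {A B : Subgroup G}

/-- No element of order three centralises an involution of `A` and a commuting outside involution. -/
theorem no_three (F : Facts G) (L : Local A) {a x z : G} (ha : a ∈ A) (ha1 : a ≠ 1) (hx : Out A x)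
    (hxa : Commute x a) (hza : Commute z a) (hzx : Commute z x) : orderOf z ≠ 3 := by
  intro hz
  haveI : Fact (Nat.Prime 3) := ⟨Nat.prime_three⟩
  have hzN := mem_normalizer_of_commute L ha ha1 hza
  have hfour := fixed_four F L hx.1 hx.2.1 (by rw [hx.2.2]; exact A.one_mem)
  set H := A ⊓ centralizer ({x} : Set G) with hH
  have haH : a ∈ H := ⟨ha, mem_centralizer_singleton_iff.mpr hxa.symm.eq⟩
  -- a further point of `H` fixed by `z`
  have h2 : Nat.card {c : G // c ∈ H ∧ c ≠ 1 ∧ c ≠ a} = 2 := by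
    show Nat.card ↥{c : G | c ∈ H ∧ c ≠ 1 ∧ c ≠ a} = 2
    have e : {c : G | c ∈ H ∧ c ≠ 1 ∧ c ≠ a} = (H : Set G) \ {1, a} := by
      ext
      simp
    rw [Nat.card_coe_set_eq, e, Set.ncard_sdiff (Set.pair_subset H.one_mem haH),
      Set.ncard_pair ha1.symm, ← Nat.card_coe_set_eq]
    show Nat.card H - 2 = 2
    rw [hfour.1]
  have hHz : ∀ c, z * c * z⁻¹ ∈ H ↔ c ∈ H := by
    intro c
    rw [mem_inf, mem_inf, ← mem_normalizer_iff.mp hzN c, mem_centralizer_singleton_iff,
      mem_centralizer_singleton_iff]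
    refine and_congr_right fun _ => ⟨fun h => ?_, fun h => ?_⟩
    · have h' := Commute.map (show Commute (z * c * z⁻¹) x from h) (MulAut.conj z⁻¹).toMonoidHom
      have e1 : (MulAut.conj z⁻¹).toMonoidHom (z * c * z⁻¹) = c := by
        show z⁻¹ * (z * c * z⁻¹) * z⁻¹⁻¹ = c
        group
      have e2 : (MulAut.conj z⁻¹).toMonoidHom x = x := by
        show z⁻¹ * x * z⁻¹⁻¹ = x
        rw [hzx.inv_left.eq]
        group
      rw [e1, e2] at h'
      exact h'.eq
    · exact ((hzx.mul_left (show Commute c x from h)).mul_left hzx.inv_left).eq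
  obtain ⟨b, ⟨hbH, hb1, hba⟩, hzb⟩ := exists_fix conjP 3 1
    (show conjP z ^ 3 ^ 1 = 1 by rw [pow_one, ← map_pow, ← hz, pow_orderOf_eq_one, map_one])
    (fun c => c ∈ H ∧ c ≠ 1 ∧ c ≠ a)
    (fun c => by
      rw [conjP_apply]
      refine and_congr (hHz c) (and_congr (not_congr conj_eq_one_iff) (not_congr ⟨fun h => ?_,
        fun h => by rw [h, hza.eq, mul_inv_cancel_right]⟩))
      rw [mul_inv_eq_iff_eq_mul, ← hza.eq] at h
      exact mul_left_cancel h)
    (by rw [h2]; norm_num)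
  have hzb' : Commute z b := mul_inv_eq_iff_eq_mul.mp hzb
  -- hence `z` centralises `H`
  have hHC : H ≤ centralizer ({z} : Set G) := by
    have h3 : 3 ≤ Nat.card ↥(H ⊓ centralizer ({z} : Set G)) := by
      have hs : ({1, a, b} : Set G) ⊆ (H ⊓ centralizer ({z} : Set G) : Subgroup G) := by
        rintro c (rfl | rfl | rfl)
        · exact one_mem _
        · exact ⟨haH, mem_centralizer_singleton_iff.mpr hza.symm.eq⟩
        · exact ⟨hbH, mem_centralizer_singleton_iff.mpr hzb'.symm.eq⟩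
      have := Set.ncard_le_ncard hs (Set.toFinite _)
      rwa [← Nat.card_coe_set_eq, Nat.card_coe_set_eq, Set.ncard_eq_three.mpr
        ⟨1, a, b, ha1.symm, hb1.symm, hba.symm, rfl⟩, ← Nat.card_coe_set_eq] at this
    have hd := card_dvd_of_le (inf_le_left : H ⊓ centralizer ({z} : Set G) ≤ H)
    rw [hfour.1] at hd
    have hle := Nat.le_of_dvd (by norm_num) hd
    have : H ⊓ centralizer ({z} : Set G) = H := eq_of_le_of_card_ge inf_le_left (by
      rw [hfour.1]
      by_contra h
      interval_cases Nat.card ↥(H ⊓ centralizer ({z} : Set G))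
      norm_num at hd)
    exact this ▸ inf_le_right
  have hzA : z ∈ A := by
    refine L.cent (mem_centralizer_iff.mpr fun c hc => ?_)
    set d := x * c * x⁻¹ * c with hd
    have hdA : d ∈ A := mul_mem (conj_mem' hx.1 hc) hc
    have hdz : Commute z d := (mem_centralizer_singleton_iff.mp
      (hHC ⟨hdA, mem_centralizer_singleton_iff.mpr (hfour.2.1 c hc).eq⟩)).symm
    set c' := z * c * z⁻¹ with hc'
    have hc'A : c' ∈ A := conj_mem' hzN hc
    have hxc : x * c * x⁻¹ = d * c := by rw [hd, mul_assoc _ c c, L.sq c hc, mul_one]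
    have hxc' : x * c' * x⁻¹ = d * c' := by
      have e1 : z * (x * c * x⁻¹) * z⁻¹ = x * c' * x⁻¹ := by
        rw [hc', show z * (x * c * x⁻¹) * z⁻¹ = (z * x) * c * (z * x)⁻¹ by group, hzx.eq]
        group
      rw [← e1, hxc, show z * (d * c) * z⁻¹ = (z * d * z⁻¹) * (z * c * z⁻¹) by group, hdz.eq,
        mul_inv_cancel_right]
    have hex : Commute x (c' * c) := by
      refine mul_inv_eq_iff_eq_mul.mp ?_
      rw [show x * (c' * c) * x⁻¹ = (x * c' * x⁻¹) * (x * c * x⁻¹) by group, hxc', hxc,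
        (commute_of_mem L hdA hc'A).eq, mul_assoc, ← mul_assoc d d c, L.sq d hdA, one_mul]
    have hze : Commute z (c' * c) := (mem_centralizer_singleton_iff.mp
      (hHC ⟨mul_mem hc'A hc, mem_centralizer_singleton_iff.mpr hex.symm.eq⟩)).symm
    have hzz : Commute (z * z) c := by
      refine mul_inv_eq_iff_eq_mul.mp ?_
      have e2 : z * c' * z⁻¹ * c' = c' * c := by
        have := mul_inv_eq_iff_eq_mul.mpr hze.eq
        rw [show z * (c' * c) * z⁻¹ = (z * c' * z⁻¹) * (z * c * z⁻¹) by group] at this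
        rwa [hc'] at this ⊢
      rw [show z * z * c * (z * z)⁻¹ = z * (z * c * z⁻¹) * z⁻¹ by group, ← hc',
        ← mul_one (z * c' * z⁻¹), ← L.sq c' hc'A, ← mul_assoc, e2, (commute_of_mem L hc'A hc).eq,
        mul_assoc, L.sq c' hc'A, mul_one]
    have e3 : z * z * (z * z) = z := by
      calc z * z * (z * z) = z ^ 3 * z := by simp only [pow_succ, pow_zero, one_mul, mul_assoc]
        _ = z := by rw [← hz, pow_orderOf_eq_one, one_mul]
    have hzc : Commute z c := e3 ▸ hzz.mul_left hzz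
    exact hzc.symm.eq
  have h := orderOf_dvd_of_pow_eq_one (show z ^ 2 = 1 by rw [pow_two]; exact L.sq z hzA)
  rw [hz] at h
  norm_num at h

theorem card_pair_cent_le (F : Facts G) (L : Local A) {a x : G} (ha : a ∈ A) (ha1 : a ≠ 1)
    (hx : Out A x) (hxa : Commute x a) :
    Nat.card ↥(centralizer ({a} : Set G) ⊓ centralizer ({x} : Set G)) ≤ 32 := by
  haveI : Fact (Nat.Prime 2) := ⟨Nat.prime_two⟩
  set S := centralizer ({a} : Set G) ⊓ centralizer ({x} : Set G) with hS
  have hSC : ∀ k ∈ S, Commute k a ∧ Commute k x := fun k hk =>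
    ⟨mem_centralizer_singleton_iff.mp hk.1, mem_centralizer_singleton_iff.mp hk.2⟩
  have hdvd : Nat.card S ∣ 2688 := L.card_cent a ha ha1 ▸ card_dvd_of_le inf_le_left
  have hp : ∀ p : ℕ, p.Prime → p ∣ Nat.card S → p = 2 := by
    intro p hpp hd
    have hp2688 : p ∣ 2 ^ 7 * 3 * 7 := by
      norm_num
      exact hd.trans hdvd
    haveI := Fact.mk hpp
    obtain ⟨⟨z, hzS⟩, hz⟩ := exists_prime_orderOf_dvd_card' (G := ↥S) p hd
    rw [Subgroup.orderOf_mk] at hz
    obtain ⟨hza, hzx⟩ := hSC z hzS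
    rcases (Nat.Prime.dvd_mul hpp).mp hp2688 with h | h
    · rcases (Nat.Prime.dvd_mul hpp).mp h with h | h
      · exact (Nat.prime_dvd_prime_iff_eq hpp Nat.prime_two).mp (hpp.dvd_of_dvd_pow h)
      · exact absurd (hz.trans ((Nat.prime_dvd_prime_iff_eq hpp Nat.prime_three).mp h))
          (no_three F L ha ha1 hx hxa hza hzx)
    · exfalso
      have hz7 : orderOf z = 7 :=
        hz.trans ((Nat.prime_dvd_prime_iff_eq hpp (by norm_num)).mp h)
      rcases (cent_seven F hz7 (orderOf_eq_two L ha ha1) hza hzx).2 hx.2.2 with e | e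
      · exact hx.ne_one e
      · exact hx.2.1 (e ▸ ha)
  have hpow : Nat.card S = 2 ^ (Nat.card S).primeFactorsList.length :=
    Nat.eq_prime_pow_of_unique_prime_dvd Nat.card_pos.ne' (fun hd h => hp _ hd h)
  have hS2 : IsPGroup 2 S := IsPGroup.of_card hpow
  have hA2 : IsPGroup 2 A := IsPGroup.of_card (n := 4) (by rw [L.card]; norm_num)
  have hSN : S ≤ normalizer (A : Set G) := fun k hk =>
    mem_normalizer_of_commute L ha ha1 (hSC k hk).1
  obtain ⟨m, hm⟩ := IsPGroup.iff_card.mp (hS2.to_sup_of_normal_right' hA2 hSN)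
  have hm' : 2 ^ m ∣ 2688 := by
    rw [← hm, ← L.card_cent a ha ha1]
    exact card_dvd_of_le (sup_le inf_le_left fun c hc =>
      mem_centralizer_singleton_iff.mpr (commute_of_mem L hc ha).eq)
  have hm7 : m ≤ 7 := by
    by_contra h
    have : 2 ^ 8 ∣ 2688 := dvd_trans (pow_dvd_pow 2 (by omega)) hm'
    norm_num at this
  have hle : (A.subgroupOf S).index * 16 ≤ 128 := by
    refine le_trans ?_ (show Nat.card ↥(S ⊔ A) ≤ 128 by
      rw [hm]
      exact le_trans (Nat.pow_le_pow_right (by norm_num) hm7) (by norm_num))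
    rw [index_eq_card, ← L.card, ← Nat.card_prod]
    refine Nat.card_le_card_of_injective
      (fun q : (S ⧸ A.subgroupOf S) × A => (⟨(q.1.out : G) * q.2,
        mul_mem ((le_sup_left : S ≤ S ⊔ A) q.1.out.2) ((le_sup_right : A ≤ S ⊔ A) q.2.2)⟩ :
          ↥(S ⊔ A))) ?_
    rintro ⟨q, c⟩ ⟨r, d⟩ e
    have e' : (q.out : G) * c = r.out * d := congrArg Subtype.val e
    have hqr : q = r := by
      rw [← QuotientGroup.out_eq' q, ← QuotientGroup.out_eq' r, QuotientGroup.eq, mem_subgroupOf]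
      show (q.out : G)⁻¹ * r.out ∈ A
      rw [show (q.out : G)⁻¹ * r.out = c * (d : G)⁻¹ by
        rw [eq_mul_inv_iff_mul_eq, mul_assoc, ← e', inv_mul_cancel_left]]
      exact mul_mem c.2 (inv_mem d.2)
    subst hqr
    exact Prod.ext rfl (Subtype.ext (mul_left_cancel e'))
  have hinter : Nat.card (A.subgroupOf S) ≤ 4 := by
    rw [← hx.card_cent F L]
    refine Nat.card_le_card_of_injective
      (fun c => (⟨((c : ↥S) : G), mem_subgroupOf.mp c.2, (c : ↥S).2.2⟩ :
        ↥(A ⊓ centralizer ({x} : Set G)))) fun c d e => ?_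
    exact Subtype.ext (Subtype.ext (congrArg (fun z : ↥(A ⊓ centralizer ({x} : Set G)) => z.1) e))
  rw [← card_mul_index (A.subgroupOf S)]
  exact le_trans (Nat.mul_le_mul hinter (show (A.subgroupOf S).index ≤ 8 by omega)) (by norm_num)

/-- The centraliser of `a` is transitive on the outside involutions commuting with it. -/
theorem out_trans (F : Facts G) (L : Local A) {a x x' : G} (ha : a ∈ A) (ha1 : a ≠ 1)
    (hx : Out A x) (hxa : Commute x a) (hx' : Out A x') (hx'a : Commute x' a) :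
    ∃ g : G, Commute g a ∧ g * x * g⁻¹ = x' := by
  set C := centralizer ({a} : Set G) with hC
  set S := centralizer ({x} : Set G) with hS
  have hCN : ∀ g ∈ C, g ∈ normalizer (A : Set G) := fun g hg =>
    mem_normalizer_of_commute L ha ha1 (mem_centralizer_singleton_iff.mp hg)
  let f : C ⧸ S.subgroupOf C → {y : G // Out A y ∧ Commute y a} := fun q =>
    ⟨(q.out : G) * x * (q.out : G)⁻¹, hx.conj (hCN _ q.out.2), by
      have h : Commute (q.out : G) a := mem_centralizer_singleton_iff.mp q.out.2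
      exact (h.mul_left hxa).mul_left h.inv_left⟩
  have hf : Function.Injective f := by
    intro q r e
    have e' : (q.out : G) * x * (q.out : G)⁻¹ = r.out * x * (r.out : G)⁻¹ :=
      congrArg Subtype.val e
    rw [← QuotientGroup.out_eq' q, ← QuotientGroup.out_eq' r, QuotientGroup.eq, mem_subgroupOf]
    show (q.out : G)⁻¹ * r.out ∈ S
    refine mem_centralizer_singleton_iff.mpr ?_
    rw [← mul_inv_eq_iff_eq_mul]
    calc (q.out : G)⁻¹ * r.out * x * ((q.out : G)⁻¹ * r.out)⁻¹
        = (q.out : G)⁻¹ * (r.out * x * (r.out : G)⁻¹) * q.out := by group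
      _ = x := by rw [← e']; group
  have h84 := (counts F L).2.2.2 a ha ha1
  have hidx : (S.subgroupOf C).index ≤ 84 := by
    rw [index_eq_card, ← h84]
    exact Nat.card_le_card_of_injective f hf
  have hcard : Nat.card (S.subgroupOf C) ≤ 32 := by
    refine le_trans ?_ (card_pair_cent_le F L ha ha1 hx hxa)
    exact Nat.card_le_card_of_injective
      (fun c => (⟨((c : ↥C) : G), (c : ↥C).2, mem_subgroupOf.mp c.2⟩ : ↥(C ⊓ S)))
      fun c d e => Subtype.ext (Subtype.ext (congrArg (fun z : ↥(C ⊓ S) => z.1) e))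
  have hmul := (S.subgroupOf C).card_mul_index
  rw [hC, L.card_cent a ha ha1, ← hC] at hmul
  have heq : (S.subgroupOf C).index = 84 := by
    have h1 : Nat.card (S.subgroupOf C) * (S.subgroupOf C).index ≤ 32 * (S.subgroupOf C).index :=
      Nat.mul_le_mul_right _ hcard
    omega
  obtain ⟨q, hq⟩ := ((Nat.bijective_iff_injective_and_card f).mpr
    ⟨hf, by rw [← index_eq_card, heq, h84]⟩).2 ⟨x', hx', hx'a⟩
  exact ⟨q.out, mem_centralizer_singleton_iff.mp q.out.2, congrArg Subtype.val hq⟩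

theorem comm_trans (F : Facts G) (L : Local A) {B' : Subgroup G} (hB : B ∈ Conjs A)
    (hB' : B' ∈ Conjs A) (hne : B ≠ A) (hne' : B' ≠ A) (hf : ¬ Free A B) (hf' : ¬ Free A B') :
    ∃ n ∈ normalizer (A : Set G), cj n B = B' := by
  obtain ⟨u, hu, hu1, huB⟩ := exists_of_not_free hf
  obtain ⟨-, b, hb, hb1, hbA⟩ := pair_four F L hB hne hu hu1 huB
  obtain ⟨v, hv, hv1, hvB⟩ := exists_of_not_free hf'
  obtain ⟨-, b', hb', hb'1, hb'A⟩ := pair_four F L hB' hne' hv hv1 hvB
  have ob := out_of_mem L hB hne hb hbA hb1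
  have ob' := out_of_mem L hB' hne' hb' hb'A hb'1
  obtain ⟨a, ha, ha1, hba⟩ := ob.exists_commute F L
  obtain ⟨a', ha', ha'1, hba'⟩ := ob'.exists_commute F L
  obtain ⟨n, hn, e⟩ := L.trans a' ha' a ha ha'1 ha1
  have hc : Commute (n * b' * n⁻¹) a := by
    rw [← e]
    exact hba'.map (MulAut.conj n).toMonoidHom
  obtain ⟨g, hga, hg⟩ := out_trans F L ha ha1 ob hba (ob'.conj hn) hc
  refine ⟨n⁻¹ * g, mul_mem (inv_mem hn) (mem_normalizer_of_commute L ha ha1 hga), ?_⟩
  refine (unique_conj L (cj_mem_conjs hB _) hB' ?_ hb' hb'1).symm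
  rw [mem_cj]
  have e2 : (n⁻¹ * g)⁻¹ * b' * (n⁻¹ * g) = b := by
    calc (n⁻¹ * g)⁻¹ * b' * (n⁻¹ * g) = g⁻¹ * (n * b' * n⁻¹) * g := by group
      _ = b := by rw [← hg]; group
  rw [e2]
  exact hb

end Cfsg.Agent.Lib.M23Nse5.OrbitsAux
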