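import Cfsg.Agent.Lib.M23Nse5.Flags2

/-!
The stars as 23 points.
-/

set_option autoImplicit false

namespace Cfsg.Agent.Lib.M23Nse5

universe u

open Pointwise

namespace Ctx

variable {G : Type u} [Group G] {K : Ctx G} [Finite G]

/-- A star is the star of each of its members. -/
theorem exists_star_eq {A D : K.V} {i : Fin 7} (hD : D ∈ star A i) :
    ∃ k, star A i = star D k := by
  rcases mem_star.1 hD with rfl | ⟨hf, rfl⟩ | hz
  · exact ⟨i, rfl⟩
  · exact ⟨_, star_eq hf⟩
  · obtain ⟨B, hB, rfl⟩ := idx_surj A i
    obtain ⟨C, hC, u, hu, rfl⟩ := zset_cover hB hz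
    have hC' : C ∈ oset B (idx B A) := by
      rw [side_eq hB] at hC
      exact hC.1
    have e : star A (idx A B) = star C (idx C B) := by
      rw [star_eq hB, ← hC'.2, star_eq hC'.1]
    refine ⟨tau u C (idx C B), ?_⟩
    have h1 := smul_star u A (idx A B)
    rw [smul_eq_self_of_mem hu, tau_of_mem (mem_nb_of_mem hu),
      (rr_eq_one_iff (mem_nb_of_mem hu)).2 hu, Equiv.Perm.one_apply] at h1
    rw [← h1, e, smul_star]

/-- The points. -/
abbrev Point (K : Ctx G) : Type u := {S : Set K.V // ∃ A i, S = star A i}

noncomputable instance pointAction : MulAction G (Point K) where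
  smul g P := ⟨g • P.1, by
    obtain ⟨A, i, h⟩ := P.2
    exact ⟨g • A, tau g A i, by rw [h, smul_star]⟩⟩
  one_smul P := Subtype.ext (one_smul G P.1)
  mul_smul g h P := Subtype.ext (mul_smul g h P.1)

instance pointFinite : Finite (Point K) := Subtype.finite

theorem point_ext {P Q : Point K} (h : P.1 = Q.1) : P = Q := Subtype.ext h

theorem coe_smul_point (g : G) (P : Point K) : (g • P).1 = g • P.1 := rfl

/-- The seven points on a conjugate. -/
noncomputable def block (B : K.V) : Finset (Point K) :=
  (Set.toFinite {P : Point K | B ∈ P.1}).toFinset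

theorem mem_block {B : K.V} {P : Point K} : P ∈ block B ↔ B ∈ P.1 := by
  simp [block]

theorem exists_eq_star {B : K.V} {P : Point K} (h : P ∈ block B) : ∃ i, P.1 = star B i := by
  obtain ⟨A, k, hA⟩ := P.2
  rw [mem_block, hA] at h
  rw [hA]
  exact exists_star_eq h

theorem self_mem_star (B : K.V) (i : Fin 7) : B ∈ star B i := mem_star.2 (Or.inl rfl)

theorem card_block (B : K.V) : (block B).card = 7 := by
  classical
  have e : block B = Finset.univ.image (fun i => (⟨star B i, B, i, rfl⟩ : Point K)) := by
    ext P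
    simp only [Finset.mem_image, Finset.mem_univ, true_and]
    constructor
    · intro h
      obtain ⟨i, hi⟩ := exists_eq_star h
      exact ⟨i, point_ext hi.symm⟩
    · rintro ⟨i, rfl⟩
      exact mem_block.2 (self_mem_star B i)
  rw [e, Finset.card_image_of_injective _ fun i k h =>
    star_injective B (congrArg Subtype.val h)]
  rfl

theorem card_point : Nat.card (Point K) = 23 := by
  classical
  have := Fintype.ofFinite K.V
  have := Fintype.ofFinite (Point K)
  have h := Finset.sum_card_bipartiteAbove_eq_sum_card_bipartiteBelow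
    (r := fun (B : K.V) (P : Point K) => B ∈ P.1) (s := Finset.univ) (t := Finset.univ)
  have hl : ∑ B : K.V, (Finset.bipartiteAbove (fun (B : K.V) (P : Point K) => B ∈ P.1)
      Finset.univ B).card = 253 * 7 := by
    rw [← card_V (K := K), Nat.card_eq_fintype_card, ← Finset.card_univ, ← smul_eq_mul,
      ← Finset.sum_const]
    refine Finset.sum_congr rfl fun B _ => ?_
    refine Eq.trans ?_ (card_block B)
    congr 1
    ext P
    simp [mem_block]
  have hr : ∑ P : Point K, (Finset.bipartiteBelow (fun (B : K.V) (P : Point K) => B ∈ P.1)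
      Finset.univ P).card = Nat.card (Point K) * 77 := by
    rw [Nat.card_eq_fintype_card, ← Finset.card_univ, ← smul_eq_mul, ← Finset.sum_const]
    refine Finset.sum_congr rfl fun P _ => ?_
    obtain ⟨A, i, hA⟩ := P.2
    rw [← ncard_star A i, ← hA, Set.ncard_eq_toFinset_card']
    congr 1
    ext B
    simp [Finset.mem_bipartiteBelow]
  rw [hl, hr] at h
  omega

theorem block_four (s : Finset (Point K)) (b b' : K.V) (hs : s.card = 4) (h1 : s ⊆ block b)
    (h2 : s ⊆ block b') : b = b' := by
  classical
  by_contra hne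
  set F : Finset (Fin 7) := if Fr b b' then {idx b b'} else tset b b' with hF
  have hsub : s ⊆ F.image (fun i => (⟨star b i, b, i, rfl⟩ : Point K)) := by
    intro P hP
    obtain ⟨i, hi⟩ := exists_eq_star (h1 hP)
    refine Finset.mem_image.2 ⟨i, ?_, point_ext hi.symm⟩
    have h := mem_block.1 (h2 hP)
    rw [hi] at h
    rcases mem_star.1 h with he | ⟨hfr, rfl⟩ | ⟨hco, h'⟩
    · exact absurd he.symm hne
    · rw [hF, if_pos hfr]; exact Finset.mem_singleton_self _
    · rw [hF, if_neg hco.2]; exact h'
  have hle : F.card ≤ 3 := by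
    rw [hF]
    split_ifs with h
    · simp
    · exact (card_tset (show Co b b' from ⟨Ne.symm hne, h⟩)).le
  have := (Finset.card_le_card hsub).trans Finset.card_image_le
  omega

theorem block_faithful (g : G) (h : ∀ B : K.V, g • B = B) : g = 1 := by
  set B0 : K.V := ⟨K.A0, 1, (cj_one_eq K.A0).symm⟩
  obtain ⟨C, hC, -⟩ := idx_surj B0 0
  have hinv : ∀ B : K.V, g⁻¹ • B = B := fun B => inv_smul_eq_iff.2 (h B).symm
  have hcent : ∀ a ∈ (B0 : Subgroup G), g * a * g⁻¹ = a := by
    intro a ha
    have h1 : g * a * g⁻¹ * a⁻¹ ∈ (B0 : Subgroup G) :=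
      mul_mem (conj_mem_of_fix (h B0) ha) (inv_mem ha)
    have h2 : (g * a * g⁻¹ * a⁻¹) • C = C := by
      simp only [mul_smul, hinv, h, smul_inv_smul]
    exact mul_inv_eq_one.1 (hC _ h1 h2)
  have hmem : g ∈ (B0 : Subgroup G) := by
    refine (K.loc B0).cent (Subgroup.mem_centralizer_iff.2 fun a ha => ?_)
    calc a * g = g * a * g⁻¹ * g := by rw [hcent a ha]
      _ = g * a := by group
  exact hC g hmem (h C)

/-- The design. -/
theorem exists_design (K : Ctx G) :
    ∃ (X : Type u) (_ : MulAction G X) (_ : Finite X) (blk : ↥(Conjs K.A0) → Finset X),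
      Design G X ↥(Conjs K.A0) blk := by
  refine ⟨Point K, inferInstance, inferInstance, fun B => block B, ?_⟩
  exact
    { card_points := card_point
      card_blocks := card_V
      card_blk := card_block
      four := block_four
      equivariant := fun g b P => by
        rw [mem_block, mem_block, coe_smul_point, Set.smul_mem_smul_set_iff]
      faithful := block_faithful }

end Ctx

end Cfsg.Agent.Lib.M23Nse5
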